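import Cfsg.Agent.Lib.Coprime.Extraspecial
import Cfsg.Agent.Lib.Transfer.NormalAb
import Cfsg.Agent.Lib.LocalEven.CharPFacts

/-! Counting in extraspecial `2`-groups. -/

namespace Cfsg.Agent.Lib.LocalEven

open Cfsg Cfsg.Agent.Lib.Coprime

variable {E : Type*} [Group E]

section
variable [Finite E]

theorem extra_center_le (m : ℕ) (hE : IsExtraspecial 2 E) (hcard : Nat.card E = 2 ^ (2 * m + 1))
    (A : Subgroup E) (hA : IsElementaryAbelian 2 A) (hAc : Nat.card A = 2 ^ (m + 1)) :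
    Subgroup.center E ≤ A ∧ Subgroup.centralizer (A : Set E) = A := by
  haveI : Fact (Nat.Prime 2) := ⟨Nat.prime_two⟩
  have hcard' : Nat.card E = 2 ^ (1 + 2 * m) := by rw [hcard]; ring_nf
  have hbound : ∀ x ∈ Subgroup.centralizer (A : Set E), x ∈ A := by
    intro x hx
    have hcomm : IsMulCommutative ↥(A ⊔ Subgroup.zpowers x) := by
      have hxc : ∀ a ∈ A, x * a = a * x := fun a ha => (Subgroup.mem_centralizer_iff.1 hx a ha).symm
      have hn : Subgroup.zpowers x ≤ Subgroup.normalizer (A : Set E) := by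
        rw [Subgroup.zpowers_le]
        exact Subgroup.centralizer_le_normalizer _ hx
      have hAb : ∀ a ∈ A, ∀ b ∈ A, a * b = b * a := by
        intro a ha b hb
        have := hA.1.is_comm.comm (⟨a, ha⟩ : A) ⟨b, hb⟩
        exact congrArg Subtype.val this
      refine ⟨⟨?_⟩⟩
      rintro ⟨u, hu⟩ ⟨v, hv⟩
      obtain ⟨a, ha, _, ⟨k, rfl⟩, rfl⟩ := (mem_sup_iff_of_normalizes hn).1 hu
      obtain ⟨b, hb, _, ⟨l, rfl⟩, rfl⟩ := (mem_sup_iff_of_normalizes hn).1 hv
      apply Subtype.ext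
      show a * x ^ k * (b * x ^ l) = b * x ^ l * (a * x ^ k)
      have h1 : Commute x a := hxc a ha
      have h2 : Commute x b := hxc b hb
      have h3 : x ^ k * b = b * x ^ k := (h2.zpow_left k).eq
      have h4 : x ^ l * a = a * x ^ l := (h1.zpow_left l).eq
      have h5 : x ^ k * x ^ l = x ^ l * x ^ k := ((Commute.refl x).zpow_zpow k l).eq
      calc a * x ^ k * (b * x ^ l) = a * (x ^ k * b) * x ^ l := by group
        _ = a * (b * x ^ k) * x ^ l := by rw [h3]
        _ = (a * b) * (x ^ k * x ^ l) := by group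
        _ = (b * a) * (x ^ l * x ^ k) := by rw [hAb a ha b hb, h5]
        _ = b * (a * x ^ l) * x ^ k := by group
        _ = b * (x ^ l * a) * x ^ k := by rw [h4]
        _ = b * x ^ l * (a * x ^ k) := by group
    have h1 := ext_abelian_card_le hE hcard' _ hcomm
    have h2 : Nat.card ↥(A ⊔ Subgroup.zpowers x) ≤ Nat.card A := by
      rw [hAc, add_comm]; exact h1
    have h3 : A = A ⊔ Subgroup.zpowers x := Subgroup.eq_of_le_of_card_ge le_sup_left h2
    rw [h3]
    exact Subgroup.mem_sup_right (Subgroup.mem_zpowers x)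
  have hAC : A ≤ Subgroup.centralizer (A : Set E) := by
    intro a ha
    rw [Subgroup.mem_centralizer_iff]
    intro b hb
    have := hA.1.is_comm.comm (⟨b, hb⟩ : A) ⟨a, ha⟩
    exact congrArg Subtype.val this
  constructor
  · intro z hz
    apply hbound
    rw [Subgroup.mem_centralizer_iff]
    intro a _
    exact (Subgroup.mem_center_iff.1 hz a)
  · exact le_antisymm hbound hAC

/-- Counting in one nontrivial coset. -/
theorem extra_coset_count (m : ℕ) (hE : IsExtraspecial 2 E) (hcard : Nat.card E = 2 ^ (2 * m + 1))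
    (A : Subgroup E) (hA : IsElementaryAbelian 2 A) (hAc : Nat.card A = 2 ^ (m + 1))
    (x₀ : E) (hx₀ : x₀ ∉ A) [Fintype E] [DecidableEq E] [Fintype (E ⧸ A)] [DecidableEq (E ⧸ A)] :
    (Finset.univ.filter (fun x : E => (QuotientGroup.mk x : E ⧸ A) = QuotientGroup.mk x₀ ∧ x ^ 2 ≠ 1)).card = 2 ^ m := by
  haveI : Fact (Nat.Prime 2) := ⟨Nat.prime_two⟩
  obtain ⟨hZA, hCA⟩ := extra_center_le m hE hcard A hA hAc
  -- a noncommuting element of `A`
  have hex : ∃ a₁ ∈ A, x₀ * a₁ ≠ a₁ * x₀ := by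
    by_contra hno
    push Not at hno
    apply hx₀
    rw [← hCA]
    rw [Subgroup.mem_centralizer_iff]
    intro a ha
    exact (hno a ha).symm
  obtain ⟨a₁, ha₁, hne⟩ := hex
  have hcomm : ∀ x y : E, x * y * x⁻¹ * y⁻¹ ∈ Subgroup.center E := by
    intro x y
    have := ext_commutator_mem hE x y
    rwa [commutatorElement_def] at this
  set z₀ := x₀⁻¹ * a₁ * x₀ * a₁⁻¹ with hz₀
  have hz₀Z : z₀ ∈ Subgroup.center E := by
    have := hcomm x₀⁻¹ a₁
    simpa only [inv_inv] using this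
  have hz₀1 : z₀ ≠ 1 := by
    intro e
    apply hne
    have h1 : x₀⁻¹ * a₁ * x₀ = a₁ := mul_inv_eq_one.1 e
    calc x₀ * a₁ = x₀ * (x₀⁻¹ * a₁ * x₀) := by rw [h1]
      _ = a₁ * x₀ := by group
  have hz₀2 : z₀ * z₀ = 1 := by
    rw [← pow_two]
    exact ext_pow_center hE hz₀Z
  have hZ2 : ∀ w ∈ Subgroup.center E, w = 1 ∨ w = z₀ := by
    intro w hw
    by_cases hw1 : w = 1
    · left; exact hw1
    · right
      have hc := hE.2
      have h3 := (Nat.card_eq_two_iff' (1 : Subgroup.center E)).1 hc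
      obtain ⟨y, -, huniq⟩ := h3
      have h4 : (⟨w, hw⟩ : Subgroup.center E) = y := huniq _ (fun e => hw1 (congrArg Subtype.val e))
      have h5 : (⟨z₀, hz₀Z⟩ : Subgroup.center E) = y := huniq _ (fun e => hz₀1 (congrArg Subtype.val e))
      exact congrArg Subtype.val (h4.trans h5.symm)
  have hAb : ∀ a ∈ A, ∀ b ∈ A, a * b = b * a := by
    intro a ha b hb
    have := hA.1.is_comm.comm (⟨a, ha⟩ : A) ⟨b, hb⟩
    exact congrArg Subtype.val this
  have ha₁2 : a₁ * a₁ = 1 := by rw [← pow_two]; exact hA.2 a₁ ha₁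
  -- the coset description
  have hcoset : ∀ x : E, (QuotientGroup.mk x : E ⧸ A) = QuotientGroup.mk x₀ ↔ ∃ a ∈ A, x = x₀ * a := by
    intro x
    rw [eq_comm, QuotientGroup.eq]
    constructor
    · intro h
      exact ⟨_, h, by group⟩
    · rintro ⟨a, ha, rfl⟩
      simpa using ha
  -- the square after translation
  have hsq : ∀ x : E, (QuotientGroup.mk x : E ⧸ A) = QuotientGroup.mk x₀ → (x * a₁) ^ 2 = x ^ 2 * z₀ := by
    intro x hx
    obtain ⟨a, ha, rfl⟩ := (hcoset x).1 hx
    -- `x⁻¹ a₁ x = z₀ a₁`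
    have h1 : x₀⁻¹ * a₁ * x₀ = z₀ * a₁ := by rw [hz₀]; group
    have h2 : (x₀ * a)⁻¹ * a₁ * (x₀ * a) = z₀ * a₁ := by
      calc (x₀ * a)⁻¹ * a₁ * (x₀ * a) = a⁻¹ * (x₀⁻¹ * a₁ * x₀) * a := by group
        _ = a⁻¹ * (z₀ * a₁) * a := by rw [h1]
        _ = z₀ * (a⁻¹ * a₁ * a) := by
          have h3 := Subgroup.mem_center_iff.1 hz₀Z a⁻¹
          rw [← mul_assoc a⁻¹, h3]
          group
        _ = z₀ * a₁ := by
          have h3 := hAb a₁ ha₁ a ha
          rw [mul_assoc a⁻¹, h3]
          group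
    set x := x₀ * a with hx'
    calc (x * a₁) ^ 2 = x * x * (x⁻¹ * a₁ * x) * a₁ := by rw [pow_two]; group
      _ = x * x * (z₀ * a₁) * a₁ := by rw [h2]
      _ = x * x * z₀ * (a₁ * a₁) := by group
      _ = x ^ 2 * z₀ := by rw [ha₁2, pow_two]; group
  have hswap : ∀ x : E, (QuotientGroup.mk x : E ⧸ A) = QuotientGroup.mk x₀ → ((x * a₁) ^ 2 = 1 ↔ x ^ 2 ≠ 1) := by
    intro x hx
    rw [hsq x hx]
    have hxZ : x ^ 2 ∈ Subgroup.center E := ext_pow_mem hE x
    rcases hZ2 _ hxZ with h | h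
    · rw [h, one_mul]
      simp [hz₀1]
    · rw [h, hz₀2]
      simp only [true_iff]
      exact hz₀1
  have hmk : ∀ x : E, (QuotientGroup.mk (x * a₁) : E ⧸ A) = QuotientGroup.mk x := by
    intro x
    rw [eq_comm, QuotientGroup.eq]
    simpa using ha₁
  set F₁ := Finset.univ.filter (fun x : E => (QuotientGroup.mk x : E ⧸ A) = QuotientGroup.mk x₀ ∧ x ^ 2 ≠ 1) with hF₁
  set F₀ := Finset.univ.filter (fun x : E => (QuotientGroup.mk x : E ⧸ A) = QuotientGroup.mk x₀ ∧ x ^ 2 = 1) with hF₀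
  have h01 : F₁.card = F₀.card := by
    apply Finset.card_bij' (fun x _ => x * a₁) (fun x _ => x * a₁)
    · intro x hx
      simp only [hF₁, Finset.mem_filter, Finset.mem_univ, true_and] at hx
      simp only [hF₀, Finset.mem_filter, Finset.mem_univ, true_and]
      refine ⟨by rw [hmk]; exact hx.1, (hswap x hx.1).2 hx.2⟩
    · intro x hx
      simp only [hF₀, Finset.mem_filter, Finset.mem_univ, true_and] at hx
      simp only [hF₁, Finset.mem_filter, Finset.mem_univ, true_and]
      refine ⟨by rw [hmk]; exact hx.1, ?_⟩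
      have h3 := hswap (x * a₁) (by rw [hmk]; exact hx.1)
      intro h4
      have h5 := h3.1 (by
        rw [mul_assoc, ha₁2, mul_one]; exact hx.2)
      exact h5 h4
    · intro x _
      rw [mul_assoc, ha₁2, mul_one]
    · intro x _
      rw [mul_assoc, ha₁2, mul_one]
  have hunion : F₁.card + F₀.card = 2 ^ (m + 1) := by
    have h3 : F₁.card + F₀.card = (Finset.univ.filter (fun x : E => (QuotientGroup.mk x : E ⧸ A) = QuotientGroup.mk x₀)).card := by
      rw [← Finset.card_union_of_disjoint]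
      · congr 1
        ext x
        simp only [hF₁, hF₀, Finset.mem_union, Finset.mem_filter, Finset.mem_univ, true_and]
        tauto
      · rw [Finset.disjoint_left]
        intro x hx hx'
        simp only [hF₁, hF₀, Finset.mem_filter, Finset.mem_univ, true_and] at hx hx'
        exact hx.2 hx'.2
    rw [h3, ← hAc]
    -- the coset has the cardinality of `A`
    haveI : Fintype A := Fintype.ofFinite _
    rw [Nat.card_eq_fintype_card, ← Finset.card_univ]
    symm
    apply Finset.card_bij (fun (a : ↥A) _ => x₀ * (a : E))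
    · intro a _
      simp only [Finset.mem_filter, Finset.mem_univ, true_and]
      exact (hcoset _).2 ⟨a, a.2, rfl⟩
    · intro a _ b _ h
      exact Subtype.ext (mul_left_cancel h)
    · intro x hx
      obtain ⟨a, ha, rfl⟩ := (hcoset x).1 (Finset.mem_filter.1 hx).2
      exact ⟨⟨a, ha⟩, Finset.mem_univ _, rfl⟩
  have h5 : 2 ^ (m + 1) = 2 ^ m + 2 ^ m := by rw [pow_succ]; ring
  omega

theorem extra_count (m : ℕ) (hm : 1 ≤ m) (hE : IsExtraspecial 2 E)
    (hcard : Nat.card E = 2 ^ (2 * m + 1))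
    (hplus : ∃ A : Subgroup E, IsElementaryAbelian 2 A ∧ Nat.card A = 2 ^ (m + 1)) :
    Nat.card {x : E // orderOf x = 4} = 2 ^ (2 * m) - 2 ^ m := by
  classical
  haveI : Fact (Nat.Prime 2) := ⟨Nat.prime_two⟩
  obtain ⟨A, hA, hAc⟩ := hplus
  haveI : Fintype E := Fintype.ofFinite _
  haveI : Fintype (E ⧸ A) := Fintype.ofFinite _
  have hord : ∀ x : E, orderOf x = 4 ↔ x ^ 2 ≠ 1 := by
    intro x
    constructor
    · intro h e
      have := orderOf_dvd_of_pow_eq_one e
      rw [h] at this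
      omega
    · intro h
      have h4 : x ^ 2 ^ (1 + 1) = 1 := ext_pow_sq hE x
      have h5 : ¬ x ^ 2 ^ 1 = 1 := by simpa using h
      have := orderOf_eq_prime_pow h5 h4
      rw [this]
      norm_num
  have h1 : Nat.card {x : E // orderOf x = 4} =
      (Finset.univ.filter (fun x : E => x ^ 2 ≠ 1)).card := by
    rw [Nat.card_eq_fintype_card, Fintype.card_subtype]
    congr 1
    ext x
    simp only [Finset.mem_filter, Finset.mem_univ, true_and]
    exact hord x
  rw [h1]
  set T := Finset.univ.filter (fun x : E => x ^ 2 ≠ 1) with hT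
  have h2 := Finset.card_eq_sum_card_fiberwise (s := T) (t := Finset.univ)
    (f := fun x : E => (QuotientGroup.mk x : E ⧸ A)) (fun _ _ => Finset.mem_univ _)
  have hidx : A.index = 2 ^ m := by
    have h3 := Subgroup.card_mul_index A
    rw [hAc, hcard] at h3
    have h4 : 2 ^ (2 * m + 1) = 2 ^ (m + 1) * 2 ^ m := by ring
    rw [h4] at h3
    exact Nat.eq_of_mul_eq_mul_left (pow_pos (by norm_num) _) h3
  have hfib : ∀ c : E ⧸ A, c ≠ (QuotientGroup.mk 1 : E ⧸ A) →
      (T.filter (fun x : E => (QuotientGroup.mk x : E ⧸ A) = c)).card = 2 ^ m := by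
    intro c hc
    obtain ⟨x₀, rfl⟩ := QuotientGroup.mk_surjective c
    have hx₀ : x₀ ∉ A := by
      intro h
      apply hc
      rw [eq_comm, QuotientGroup.eq]
      simpa using h
    rw [← extra_coset_count m hE hcard A hA hAc x₀ hx₀]
    congr 1
    ext x
    simp only [hT, Finset.mem_filter, Finset.mem_univ, true_and]
    tauto
  have hfib1 : (T.filter (fun x : E => (QuotientGroup.mk x : E ⧸ A) = (QuotientGroup.mk 1 : E ⧸ A))).card = 0 := by
    rw [Finset.card_eq_zero, Finset.filter_eq_empty_iff]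
    intro x hx e
    rw [eq_comm, QuotientGroup.eq] at e
    have h3 : x ∈ A := by simpa using e
    exact (Finset.mem_filter.1 hx).2 (hA.2 x h3)
  rw [h2, ← Finset.add_sum_erase _ _ (Finset.mem_univ (QuotientGroup.mk 1 : E ⧸ A)), hfib1, zero_add]
  rw [Finset.sum_congr rfl (fun c hc => hfib c (Finset.ne_of_mem_erase hc))]
  rw [Finset.sum_const, Finset.card_erase_of_mem (Finset.mem_univ _), Finset.card_univ]
  have h5 : Fintype.card (E ⧸ A) = 2 ^ m := by
    rw [← Nat.card_eq_fintype_card]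
    exact hidx
  rw [h5, smul_eq_mul, Nat.sub_mul, one_mul, ← pow_add, two_mul]

theorem extra_S2881 (m : ℕ) (hm : 1 ≤ m) (hE : IsExtraspecial 2 E)
    (hcard : Nat.card E = 2 ^ (2 * m + 1))
    (hplus : ∃ A : Subgroup E, IsElementaryAbelian 2 A ∧ Nat.card A = 2 ^ (m + 1))
    (ω : E ≃* E) (hω : orderOf ω = 5) (hfix : ∀ x : E, ω x = x ↔ x ∈ Subgroup.center E) : 4 ∣ m := by
  classical
  haveI : Fact (Nat.Prime 5) := ⟨by norm_num⟩
  haveI : Fact (Nat.Prime 2) := ⟨Nat.prime_two⟩
  have hc := extra_count m hm hE hcard hplus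
  -- the action
  have hω5 : ω ^ 5 = 1 := by rw [← hω]; exact pow_orderOf_eq_one ω
  have hZ : IsPGroup 5 ↥(Subgroup.zpowers ω) := by
    apply IsPGroup.of_card (n := 1)
    rw [Nat.card_zpowers, hω, pow_one]
  let X := {x : E // orderOf x = 4}
  letI act : MulAction ↥(Subgroup.zpowers ω) X :=
    { smul := fun σ x => ⟨(σ : E ≃* E) x.1, by
        rw [MulEquiv.orderOf_eq]
        exact x.2⟩
      one_smul := fun x => rfl
      mul_smul := fun a b x => rfl }
  have hfp : IsEmpty (MulAction.fixedPoints ↥(Subgroup.zpowers ω) X) := by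
    refine ⟨fun ⟨x, hx⟩ => ?_⟩
    have h1 : ω x.1 = x.1 := congrArg Subtype.val (hx ⟨ω, Subgroup.mem_zpowers ω⟩)
    have h2 := (hfix _).1 h1
    have h3 := ext_pow_center hE h2
    have h4 := orderOf_dvd_of_pow_eq_one h3
    rw [x.2] at h4
    omega
  have hmod := hZ.card_modEq_card_fixedPoints X
  have hz0 : Nat.card (MulAction.fixedPoints ↥(Subgroup.zpowers ω) X) = 0 := Nat.card_of_isEmpty
  rw [hz0] at hmod
  have hd : 5 ∣ Nat.card X := Nat.modEq_zero_iff_dvd.1 hmod
  rw [show Nat.card X = 2 ^ (2 * m) - 2 ^ m from hc] at hd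
  have h5 : 2 ^ (2 * m) - 2 ^ m = 2 ^ m * (2 ^ m - 1) := by
    rw [Nat.mul_sub, mul_one, ← pow_add, two_mul]
  rw [h5] at hd
  have h6 : 5 ∣ 2 ^ m - 1 := by
    rcases (Nat.Prime.dvd_mul (by norm_num)).1 hd with h | h
    · have := Nat.Prime.dvd_of_dvd_pow (by norm_num) h
      omega
    · exact h
  have h7 : 2 ^ m % 5 = 1 := by
    have h8 : 1 ≤ 2 ^ m := Nat.one_le_two_pow
    omega
  have h9 : m = 4 * (m / 4) + m % 4 := (Nat.div_add_mod m 4).symm
  rw [h9, pow_add, pow_mul, Nat.mul_mod, Nat.pow_mod] at h7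
  norm_num at h7
  have h10 : m % 4 < 4 := Nat.mod_lt _ (by norm_num)
  have h11 : m % 4 = 0 := by
    interval_cases hmm : m % 4
    · rfl
    · norm_num at h7
    · norm_num at h7
    · norm_num at h7
  exact Nat.dvd_of_mod_eq_zero h11

end

end Cfsg.Agent.Lib.LocalEven
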