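import Cfsg.Agent.Lib.LocalEven.GWS4
import Cfsg.Agent.Lib.Invol.BaerSuzuki
import Cfsg.Agent.Lib.LocalEven.PReduced

/-! Glauberman's theorem on weakly closed elements: the end of the proof. -/

set_option autoImplicit false

namespace Cfsg.Agent.Lib.LocalEven

open Cfsg Cfsg.Agent.Lib.Basic Cfsg.Agent.Lib.LocalEven2
open scoped commutatorElement

variable {G : Type*} [Group G] [Finite G] {p : ℕ} [Fact p.Prime]

section lam

theorem exists_lam (V W₂ W₁ : Subgroup G) (h12 : W₁ ≤ W₂) :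
    ∃ Λ : Subgroup G, ∀ y, y ∈ Λ ↔ (∀ v ∈ V, y * v * y⁻¹ * v⁻¹ ∈ W₂) ∧
      (∀ v ∈ W₂, y * v * y⁻¹ * v⁻¹ ∈ W₁) ∧ ∀ v ∈ W₁, y * v * y⁻¹ = v := by
  let M : Submonoid G :=
    { carrier := {y | (∀ v ∈ V, y * v * y⁻¹ * v⁻¹ ∈ W₂) ∧ (∀ v ∈ W₂, y * v * y⁻¹ * v⁻¹ ∈ W₁) ∧
        ∀ v ∈ W₁, y * v * y⁻¹ = v}
      one_mem' := by
        refine ⟨?_, ?_, ?_⟩
        · intro v _
          simp [W₂.one_mem]
        · intro v _
          simp [W₁.one_mem]
        · intro v _
          simp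
      mul_mem' := by
        rintro x y ⟨hx1, hx2, hx3⟩ ⟨hy1, hy2, hy3⟩
        have hform : ∀ v : G, (x * y) * v * (x * y)⁻¹ * v⁻¹ =
            ((x * (y * v * y⁻¹ * v⁻¹) * x⁻¹ * (y * v * y⁻¹ * v⁻¹)⁻¹) * (y * v * y⁻¹ * v⁻¹)) *
              (x * v * x⁻¹ * v⁻¹) := by
          intro v
          group
        refine ⟨?_, ?_, ?_⟩
        · intro v hv
          rw [hform]
          have h1 := hy1 v hv
          exact W₂.mul_mem (W₂.mul_mem (h12 (hx2 _ h1)) h1) (hx1 v hv)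
        · intro v hv
          rw [hform]
          have h1 := hy2 v hv
          exact W₁.mul_mem (W₁.mul_mem (hx2 _ (h12 h1)) h1) (hx2 v hv)
        · intro v hv
          have : (x * y) * v * (x * y)⁻¹ = x * (y * v * y⁻¹) * x⁻¹ := by group
          rw [this, hy3 v hv, hx3 v hv] }
  refine ⟨{ M with inv_mem' := ?_ }, fun y => Iff.rfl⟩
  intro y hy
  have hpos : 0 < orderOf y := orderOf_pos y
  have e : y⁻¹ = y ^ (orderOf y - 1) := by
    apply inv_eq_of_mul_eq_one_right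
    rw [← pow_succ', Nat.sub_add_cancel hpos, pow_orderOf_eq_one]
  rw [e]
  exact M.pow_mem hy _

theorem pow_four_centralizes {V W₂ W₁ : Subgroup G} {y : G} (h12 : W₁ ≤ W₂)
    (hVc : ∀ a ∈ V, ∀ b ∈ V, a * b = b * a) (h2V : W₂ ≤ V) (hW2 : ∀ t ∈ W₂, t * t = 1)
    (h1 : ∀ v ∈ V, y * v * y⁻¹ * v⁻¹ ∈ W₂) (h2 : ∀ v ∈ W₂, y * v * y⁻¹ * v⁻¹ ∈ W₁)
    (h3 : ∀ v ∈ W₁, y * v * y⁻¹ = v) {v : G} (hv : v ∈ V) : y ^ 4 * v = v * y ^ 4 := by
  have hf := h1 v hv
  set f := y * v * y⁻¹ * v⁻¹ with hfd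
  have hg := h2 f hf
  set g := y * f * y⁻¹ * f⁻¹ with hgd
  have e1 : y * v * y⁻¹ = f * v := by rw [hfd]; group
  have e2 : y * f * y⁻¹ = g * f := by rw [hgd]; group
  have e3 := h3 g hg
  have e4 : (y * y) * v * (y * y)⁻¹ = g * v := by
    have : (y * y) * v * (y * y)⁻¹ = y * (y * v * y⁻¹) * y⁻¹ := by group
    rw [this, e1]
    have : y * (f * v) * y⁻¹ = (y * f * y⁻¹) * (y * v * y⁻¹) := by group
    rw [this, e1, e2]
    calc g * f * (f * v) = g * (f * f) * v := by group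
      _ = g * v := by rw [hW2 f hf, mul_one]
  have e5 : (y * y) * g * (y * y)⁻¹ = g := by
    have : (y * y) * g * (y * y)⁻¹ = y * (y * g * y⁻¹) * y⁻¹ := by group
    rw [this, e3, e3]
  have e6 : ((y * y) * (y * y)) * v * ((y * y) * (y * y))⁻¹ = v := by
    have : ((y * y) * (y * y)) * v * ((y * y) * (y * y))⁻¹ =
        (y * y) * ((y * y) * v * (y * y)⁻¹) * (y * y)⁻¹ := by group
    rw [this, e4]
    have : (y * y) * (g * v) * (y * y)⁻¹ = ((y * y) * g * (y * y)⁻¹) * ((y * y) * v * (y * y)⁻¹) := by group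
    rw [this, e5, e4]
    calc g * (g * v) = (g * g) * v := by group
      _ = v := by rw [hW2 g (h12 hg), one_mul]
  have e7 : y ^ 4 = (y * y) * (y * y) := by
    simp only [pow_succ, pow_zero, one_mul, mul_assoc]
  rw [e7]
  calc ((y * y) * (y * y)) * v = (((y * y) * (y * y)) * v * ((y * y) * (y * y))⁻¹) * ((y * y) * (y * y)) := by group
    _ = _ := by rw [e6]

end lam

section transvection

/-- `a` acts on `V` as a transvection with centre `w`. -/
structure TV (V : Subgroup G) (a w : G) : Prop where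
  memV : w ∈ V
  ne : w ≠ 1
  invol : w * w = 1
  fix : a * w * a⁻¹ = w
  act : ∀ v ∈ V, a * v * a⁻¹ * v⁻¹ = 1 ∨ a * v * a⁻¹ * v⁻¹ = w

theorem TV.conj {V : Subgroup G} {a w g : G} (h : TV V a w) (hg : g ∈ Subgroup.normalizer (V : Set G)) :
    TV V (g * a * g⁻¹) (g * w * g⁻¹) := by
  refine ⟨(Subgroup.mem_normalizer_iff.1 hg _).1 h.memV, ?_, ?_, ?_, ?_⟩
  · intro e
    apply h.ne
    have : w = g⁻¹ * (g * w * g⁻¹) * g := by group
    rw [this, e]
    group
  · have : g * w * g⁻¹ * (g * w * g⁻¹) = g * (w * w) * g⁻¹ := by group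
    rw [this, h.invol]
    group
  · have : g * a * g⁻¹ * (g * w * g⁻¹) * (g * a * g⁻¹)⁻¹ = g * (a * w * a⁻¹) * g⁻¹ := by group
    rw [this, h.fix]
  · intro v hv
    have hv' : g⁻¹ * v * g ∈ V := by
      have := (Subgroup.mem_normalizer_iff.1 (Subgroup.inv_mem _ hg) v).1 hv
      simpa using this
    have e : g * a * g⁻¹ * v * (g * a * g⁻¹)⁻¹ * v⁻¹ =
        g * (a * (g⁻¹ * v * g) * a⁻¹ * (g⁻¹ * v * g)⁻¹) * g⁻¹ := by group
    rw [e]
    rcases h.act _ hv' with h1 | h1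
    · left
      rw [h1]
      group
    · right
      rw [h1]

/-- The product criterion: if `a₂` fixes the centre of `a₁`, then modulo the centralizer of `V`,
`a₁` and `a₂` generate a `2`-group. -/
theorem pair_pow_four {V : Subgroup G} {a₁ a₂ w₁ w₂ : G} (hVc : ∀ a ∈ V, ∀ b ∈ V, a * b = b * a)
    (h₁ : TV V a₁ w₁) (h₂ : TV V a₂ w₂) (h21 : a₂ * w₁ * a₂⁻¹ = w₁) :
    ∃ Λ : Subgroup G, a₁ ∈ Λ ∧ a₂ ∈ Λ ∧ ∀ y ∈ Λ, ∀ v ∈ V, y ^ 4 * v = v * y ^ 4 := by
  set W₁ := Subgroup.closure ({w₁} : Set G) with hW₁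
  set W₂ := Subgroup.closure ({w₁, w₂} : Set G) with hW₂
  have h12 : W₁ ≤ W₂ := Subgroup.closure_mono (by simp)
  have h1mem : w₁ ∈ W₁ := Subgroup.subset_closure rfl
  have h2mem : w₂ ∈ W₂ := Subgroup.subset_closure (by simp)
  have h2V : W₂ ≤ V := by
    rw [hW₂, Subgroup.closure_le]
    rintro t (rfl | ht)
    · exact h₁.memV
    · rw [Set.mem_singleton_iff.1 ht]
      exact h₂.memV
  have hX : ∀ a ∈ ({w₁, w₂} : Set G), ∀ b ∈ ({w₁, w₂} : Set G), a * b = b * a := by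
    intro a ha b hb
    have hmem : ({w₁, w₂} : Set G) ⊆ (V : Set G) := by
      rintro t (rfl | ht)
      · exact h₁.memV
      · rw [Set.mem_singleton_iff.1 ht]
        exact h₂.memV
    exact hVc a (hmem ha) b (hmem hb)
  have hexp : ∀ t ∈ W₂, t * t = 1 := by
    intro t ht
    have := pow_of_closure hX (e := 2) (by
      rintro a (rfl | ha)
      · rw [pow_two]; exact h₁.invol
      · rw [Set.mem_singleton_iff.1 ha, pow_two]; exact h₂.invol) t ht
    rwa [pow_two] at this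
  obtain ⟨Λ, hΛ⟩ := exists_lam V W₂ W₁ h12
  have hcomm_closure : ∀ {c : G} {X : Set G}, (∀ t ∈ X, c * t * c⁻¹ = t) → ∀ t ∈ Subgroup.closure X, c * t * c⁻¹ = t := by
    intro c X hc t ht
    have hle : Subgroup.closure X ≤ Subgroup.centralizer ({c} : Set G) := by
      rw [Subgroup.closure_le]
      intro s hs
      rw [SetLike.mem_coe, Subgroup.mem_centralizer_iff]
      intro r hr
      rw [Set.mem_singleton_iff.1 hr]
      calc c * s = (c * s * c⁻¹) * c := by group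
        _ = s * c := by rw [hc s hs]
    have h1 := (Subgroup.mem_centralizer_iff.1 (hle ht)) c rfl
    rw [h1]
    group
  refine ⟨Λ, ?_, ?_, ?_⟩
  · rw [hΛ]
    refine ⟨?_, ?_, ?_⟩
    · intro v hv
      rcases h₁.act v hv with h | h
      · rw [h]; exact W₂.one_mem
      · rw [h]; exact h12 h1mem
    · intro v hv
      rcases h₁.act v (h2V hv) with h | h
      · rw [h]; exact W₁.one_mem
      · rw [h]; exact h1mem
    · apply hcomm_closure
      intro t ht
      rw [Set.mem_singleton_iff.1 ht]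
      exact h₁.fix
  · rw [hΛ]
    have hfix2 : ∀ v ∈ W₂, a₂ * v * a₂⁻¹ = v := by
      apply hcomm_closure
      rintro t (rfl | ht)
      · exact h21
      · rw [Set.mem_singleton_iff.1 ht]
        exact h₂.fix
    refine ⟨?_, ?_, ?_⟩
    · intro v hv
      rcases h₂.act v hv with h | h
      · rw [h]; exact W₂.one_mem
      · rw [h]; exact h2mem
    · intro v hv
      rw [hfix2 v hv]
      simp [W₁.one_mem]
    · intro v hv
      exact hfix2 v (h12 hv)
  · intro y hy v hv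
    obtain ⟨h1, h2, h3⟩ := (hΛ y).1 hy
    exact pow_four_centralizes h12 hVc h2V hexp h1 h2 h3 hv

end transvection

namespace BData

variable {x : G} {H S : Subgroup G}

/-- The subgroup generated by the `H`-conjugates of `x`. -/
def VV (x : G) (H : Subgroup G) : Subgroup G := Subgroup.closure {z | ∃ h ∈ H, z = h * x * h⁻¹}

theorem VV_le_Q (h : BData p x H S) : VV x H ≤ pCoreOf p H := by
  rw [VV, Subgroup.closure_le]
  rintro _ ⟨g, hg, rfl⟩
  exact h.conj_mem_Q hg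

theorem VV_le_S (h : BData p x H S) : VV x H ≤ S := h.VV_le_Q.trans h.Q_le

theorem VV_p (h : BData p x H S) : IsPGroup p (VV x H) := h.Q_p.to_le h.VV_le_Q

theorem x_mem_VV : x ∈ VV x H := Subgroup.subset_closure ⟨1, H.one_mem, by simp⟩

theorem conj_mem_VV {g : G} (hg : g ∈ H) : g * x * g⁻¹ ∈ VV x H :=
  Subgroup.subset_closure ⟨g, hg, rfl⟩

/-- An element that is central in `S` and lies in `O_p(H)` has all its conjugates centralizing `O_p(H)`. -/
theorem conj_commute_Q (h : BData p x H S) {u : G} (hu : u ∈ Subgroup.centralizer (S : Set G))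
    {g : G} (hg : g ∈ H) {q : G} (hq : q ∈ pCoreOf p H) : q * (g * u * g⁻¹) = (g * u * g⁻¹) * q := by
  have h1 : g⁻¹ * q * g ∈ pCoreOf p H := by
    have := (Subgroup.mem_normalizer_iff.1 (le_normalizer_pCoreOf H (H.inv_mem hg)) q).1 hq
    simpa using this
  have h2 := (Subgroup.mem_centralizer_iff.1 hu) _ (h.Q_le h1)
  calc q * (g * u * g⁻¹) = g * ((g⁻¹ * q * g) * u) * g⁻¹ := by group
    _ = g * (u * (g⁻¹ * q * g)) * g⁻¹ := by rw [h2]
    _ = _ := by group

theorem VV_commute_Q (h : BData p x H S) {v q : G} (hv : v ∈ VV x H) (hq : q ∈ pCoreOf p H) :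
    q * v = v * q := by
  have hle : VV x H ≤ Subgroup.centralizer (pCoreOf p H : Set G) := by
    rw [VV, Subgroup.closure_le]
    rintro _ ⟨g, hg, rfl⟩
    rw [SetLike.mem_coe, Subgroup.mem_centralizer_iff]
    intro t ht
    exact h.conj_commute_Q h.hxc hg ht
  exact (Subgroup.mem_centralizer_iff.1 (hle hv)) q hq

theorem VV_comm (h : BData p x H S) : ∀ a ∈ VV x H, ∀ b ∈ VV x H, a * b = b * a := by
  intro a ha b hb
  exact h.VV_commute_Q hb (h.VV_le_Q ha)

theorem H_le_normalizer_VV : H ≤ Subgroup.normalizer (VV x H : Set G) := by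
  apply le_normalizer_of_conj_le
  intro g hg
  rw [Subgroup.map_le_iff_le_comap, VV, Subgroup.closure_le]
  rintro _ ⟨k, hk, rfl⟩
  show g * (k * x * k⁻¹) * g⁻¹ ∈ VV x H
  have e : g * (k * x * k⁻¹) * g⁻¹ = (g * k) * x * (g * k)⁻¹ := by group
  rw [e]
  exact Subgroup.subset_closure ⟨g * k, H.mul_mem hg hk, rfl⟩

/-- `C_S(V) ≤ O_p(H)`. -/
theorem inf_centralizer_le (h : BData p x H S) {a : G} (haS : a ∈ S)
    (ha : a ∈ Subgroup.centralizer (VV x H : Set G)) : a ∈ pCoreOf p H := by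
  have hK : H ≤ Subgroup.normalizer ((H ⊓ Subgroup.centralizer (VV x H : Set G) : Subgroup G) : Set G) := by
    apply le_normalizer_of_conj_le
    rintro g hg _ ⟨c, ⟨hc1, hc2⟩, rfl⟩
    refine ⟨H.mul_mem (H.mul_mem hg hc1) (H.inv_mem hg), ?_⟩
    exact normalizer_le_normalizer_centralizer _ (H_le_normalizer_VV hg) |> fun hn =>
      (Subgroup.mem_normalizer_iff.1 hn c).1 hc2
  have hfix : ∀ k ∈ H ⊓ Subgroup.centralizer (VV x H : Set G), k * x * k⁻¹ = x := by
    rintro k ⟨_, hk⟩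
    rw [← (Subgroup.mem_centralizer_iff.1 hk) x x_mem_VV]
    group
  exact h.inf_le_core inf_le_left hK hfix ⟨haS, h.hS.le haS, ha⟩

/-- Existence of a good member of the family. -/
theorem exists_good_A (h : BData p x H S) :
    ∃ A ∈ GF S, ¬ A ≤ pCoreOf p H ∧ VV x H ≤ Subgroup.normalizer (A : Set G) := by
  have hfin : ({A | A ∈ GF S ∧ ¬ A ≤ pCoreOf p H} : Set (Subgroup G)).Finite := Set.toFinite _
  obtain ⟨A₀, hA₀, hA₀Q⟩ := h.exists_not_le
  obtain ⟨A, ⟨hA, hAQ⟩, hmax⟩ := Set.exists_max_image _ (fun A : Subgroup G => Nat.card ↥(A ⊓ VV x H)) hfin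
    ⟨A₀, hA₀, hA₀Q⟩
  refine ⟨A, hA, hAQ, ?_⟩
  by_contra hcon
  have hAS := GF_le hA
  have hAV : A ≤ Subgroup.normalizer (VV x H : Set G) := (hAS.trans h.hS.le).trans H_le_normalizer_VV
  obtain ⟨A', hA', hA'N, hlt⟩ := thompson_replace h.hS.isP hA h.VV_le_S h.VV_comm hAV hcon
  have hA'Q : A' ≤ pCoreOf p H := by
    by_contra hne
    exact absurd (hmax A' ⟨hA', hne⟩) (not_le.2 hlt)
  apply hcon
  intro v hv
  apply hA'N
  apply mem_of_commute_GF hA' (h.VV_le_S hv)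
  intro a ha
  exact h.VV_commute_Q hv (hA'Q ha)

theorem cent_iff (a z : G) : a ∈ Subgroup.centralizer ({z} : Set G) ↔ z * a = a * z := by
  rw [Subgroup.mem_centralizer_iff]
  constructor
  · intro h
    exact h z rfl
  · intro h t ht
    rw [Set.mem_singleton_iff.1 ht]
    exact h

/-- The Baer–Suzuki step. -/
theorem transvection_contra (h : BData 2 x H S) {a w : G} (haH : a ∈ H) (haS : a ∈ S)
    (haQ : a ∉ pCoreOf 2 H) (hTV : TV (VV x H) a w) (hS4 : ¬ Involves (Equiv.Perm (Fin 4)) G) : False := by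
  have hVc := h.VV_comm
  have hNV : H ≤ Subgroup.normalizer (VV x H : Set G) := H_le_normalizer_VV
  have hNC : H ≤ Subgroup.normalizer ((Subgroup.centralizer (VV x H : Set G) : Subgroup G) : Set G) :=
    hNV.trans (normalizer_le_normalizer_centralizer _)
  let C : Subgroup H := (Subgroup.centralizer (VV x H : Set G)).subgroupOf H
  haveI hCn : C.Normal := by
    constructor
    intro c hc g
    have h1 : (c : G) ∈ Subgroup.centralizer (VV x H : Set G) := hc
    exact (Subgroup.mem_normalizer_iff.1 (hNC g.2) _).1 h1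
  let π : H →* H ⧸ C := QuotientGroup.mk' C
  have hπs : Function.Surjective π := QuotientGroup.mk'_surjective C
  have hπ1 : ∀ y : H, π y = 1 ↔ (y : G) ∈ Subgroup.centralizer (VV x H : Set G) := by
    intro y
    exact QuotientGroup.eq_one_iff y
  let a' : H := ⟨a, haH⟩
  let Δ : Set (H ⧸ C) := Set.range (fun g : H => π (g * a' * g⁻¹))
  have hΔ : Cfsg.Agent.Lib.Invol.ConjClosed Δ := by
    rintro _ ⟨g, rfl⟩ q
    obtain ⟨g', rfl⟩ := hπs q
    refine ⟨g' * g, ?_⟩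
    show π (g' * g * a' * (g' * g)⁻¹) = π g' * π (g * a' * g⁻¹) * (π g')⁻¹
    rw [← map_inv, ← map_mul, ← map_mul]
    congr 1
    group
  -- the pair criterion
  have hpair : ∀ (a₁ a₂ : H) (Λ : Subgroup G), (a₁ : G) ∈ Λ → (a₂ : G) ∈ Λ →
      (∀ y ∈ Λ, ∀ v ∈ VV x H, y ^ 4 * v = v * y ^ 4) →
      IsPGroup 2 (Subgroup.closure ({π a₁, π a₂} : Set (H ⧸ C))) := by
    intro a₁ a₂ Λ h1 h2 hΛ
    have hle : Subgroup.closure ({π a₁, π a₂} : Set (H ⧸ C)) ≤ (Λ.subgroupOf H).map π := by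
      rw [Subgroup.closure_le]
      rintro t (rfl | ht)
      · exact ⟨a₁, h1, rfl⟩
      · rw [Set.mem_singleton_iff.1 ht]
        exact ⟨a₂, h2, rfl⟩
    intro t
    obtain ⟨ℓ, hℓ, e⟩ := hle t.2
    refine ⟨2, ?_⟩
    apply Subtype.ext
    show ((t : H ⧸ C)) ^ 2 ^ 2 = 1
    rw [← e, ← map_pow, hπ1]
    rw [Subgroup.mem_centralizer_iff]
    intro v hv
    have := hΛ _ hℓ v hv
    simpa using this.symm
  by_cases hpairs : ∀ d ∈ Δ, ∀ e ∈ Δ, IsPGroup 2 (Subgroup.closure ({d, e} : Set (H ⧸ C)))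
  · have hT := Cfsg.Agent.Lib.Invol.isPGroup_closure_of_pairs 2 _ rfl Δ hΔ hpairs
    set T := Subgroup.closure Δ with hTd
    have hTn : T.Normal := by
      constructor
      intro n hn g
      have hle : T ≤ T.comap (MulAut.conj g).toMonoidHom := by
        conv_lhs => rw [hTd]
        rw [Subgroup.closure_le]
        intro d hd
        exact Subgroup.subset_closure (hΔ d hd g)
      exact hle hn
    set Sb := (S.subgroupOf H).map π with hSb
    have hSi : ¬ 2 ∣ Sb.index := by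
      intro hd
      apply h.hS.ndvd
      exact hd.trans (Subgroup.index_map_dvd _ hπs)
    have hTS : T ≤ Sb := (le_pCore hTn hT).trans (pCore_le_of_not_dvd_index hSi)
    let K : Subgroup G := (T.comap π).map H.subtype
    have hKH : K ≤ H := Subgroup.map_subtype_le _
    have hNK : H ≤ Subgroup.normalizer (K : Set G) := by
      apply le_normalizer_of_conj_le
      rintro g hg _ ⟨_, ⟨k, hk, rfl⟩, rfl⟩
      refine ⟨⟨g, hg⟩ * k * ⟨g, hg⟩⁻¹, ?_, rfl⟩
      show π (⟨g, hg⟩ * k * ⟨g, hg⟩⁻¹) ∈ T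
      rw [map_mul, map_mul, map_inv]
      exact hTn.conj_mem _ hk _
    have hfix : ∀ k ∈ K, k * x * k⁻¹ = x := by
      rintro _ ⟨k, hk, rfl⟩
      obtain ⟨s, hs, e⟩ := hTS hk
      have h1 : π (s⁻¹ * k) = 1 := by
        rw [map_mul, map_inv, e]
        group
      have h2 := (hπ1 _).1 h1
      have h3 := (Subgroup.mem_centralizer_iff.1 h2) x x_mem_VV
      have h4 : (s : G) * x = x * s := (Subgroup.mem_centralizer_iff.1 h.hxc) s hs
      have h5 : x * ((s : G)⁻¹ * k) = ((s : G)⁻¹ * k) * x := by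
        simpa using h3
      show (k : G) * x * (k : G)⁻¹ = x
      have e1 : (k : G) = s * ((s : G)⁻¹ * k) := by group
      calc (k : G) * x * (k : G)⁻¹ = s * ((((s : G)⁻¹ * k) * x) * ((s : G)⁻¹ * k)⁻¹) * (s : G)⁻¹ := by
            conv_lhs => rw [e1]
            group
        _ = s * ((x * ((s : G)⁻¹ * k)) * ((s : G)⁻¹ * k)⁻¹) * (s : G)⁻¹ := by rw [h5]
        _ = s * x * (s : G)⁻¹ := by group
        _ = x * s * (s : G)⁻¹ := by rw [h4]
        _ = x := by group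
    have haK : a ∈ K := by
      refine ⟨a', ?_, rfl⟩
      apply Subgroup.subset_closure
      exact ⟨1, by simp⟩
    exact haQ (h.inf_le_core hKH hNK hfix ⟨haS, haK⟩)
  · push Not at hpairs
    obtain ⟨_, ⟨g₁, rfl⟩, _, ⟨g₂, rfl⟩, hne⟩ := hpairs
    have h₁ := hTV.conj (hNV g₁.2)
    have h₂ := hTV.conj (hNV g₂.2)
    have e₁ : (((g₁ * a' * g₁⁻¹ : H)) : G) = (g₁ : G) * a * (g₁ : G)⁻¹ := by simp [a']
    have e₂ : (((g₂ * a' * g₂⁻¹ : H)) : G) = (g₂ : G) * a * (g₂ : G)⁻¹ := by simp [a']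
    set a₁ := (g₁ : G) * a * (g₁ : G)⁻¹ with ha₁
    set a₂ := (g₂ : G) * a * (g₂ : G)⁻¹ with ha₂
    set w₁ := (g₁ : G) * w * (g₁ : G)⁻¹ with hw₁
    set w₂ := (g₂ : G) * w * (g₂ : G)⁻¹ with hw₂
    have hA : ¬ a₂ * w₁ * a₂⁻¹ = w₁ := by
      intro hfix
      obtain ⟨Λ, h1, h2, h3⟩ := pair_pow_four hVc h₁ h₂ hfix
      exact hne (hpair _ _ Λ (by rw [e₁]; exact h1) (by rw [e₂]; exact h2) h3)
    have hB : ¬ a₁ * w₂ * a₁⁻¹ = w₂ := by
      intro hfix
      obtain ⟨Λ, h1, h2, h3⟩ := pair_pow_four hVc h₂ h₁ hfix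
      apply hne
      rw [Set.pair_comm]
      exact hpair _ _ Λ (by rw [e₂]; exact h1) (by rw [e₁]; exact h2) h3
    have hw₁₂ : w₁ * w₂ = w₂ * w₁ := hVc _ h₁.memV _ h₂.memV
    have hne' : w₁ ≠ w₂ := by
      intro e
      apply hA
      rw [e]
      exact h₂.fix
    have hact₁ : a₁ * w₂ * a₁⁻¹ = w₁ * w₂ := by
      rcases h₁.act w₂ h₂.memV with h1 | h1
      · exact absurd (eq_of_mul_inv_eq_one h1) hB
      · rw [← h1]
        group
    have hact₂ : a₂ * w₁ * a₂⁻¹ = w₁ * w₂ := by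
      rcases h₂.act w₁ h₁.memV with h1 | h1
      · exact absurd (eq_of_mul_inv_eq_one h1) hA
      · rw [hw₁₂, ← h1]
        group
    exact hS4 (involves_S4_of_four h₁.invol h₂.invol hne' h₁.ne h₂.ne hw₁₂ h₁.fix hact₁ hact₂ h₂.fix)

/-- There is no exceptional orbit. -/
theorem no_exceptional (h : BData p x H S) (hp : p = 2) {A : Subgroup G} (hA : A ∈ GF S)
    (hAQ : ¬ A ≤ pCoreOf p H) (hVA : VV x H ≤ Subgroup.normalizer (A : Set G)) {g : G} (hg : g ∈ H) :
    (A ⊓ Subgroup.centralizer ({g * x * g⁻¹} : Set G)).relIndex A ≠ 2 := by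
  intro h2
  have hAS := GF_le hA
  have hAc := GF_comm hA
  obtain ⟨z, hzd⟩ : ∃ z, z = g * x * g⁻¹ := ⟨_, rfl⟩
  rw [← hzd] at h2
  have hzV : z ∈ VV x H := hzd ▸ conj_mem_VV hg
  have hzS : z ∈ S := h.VV_le_S hzV
  obtain ⟨A₀, hA₀d⟩ : ∃ A₀, A₀ = A ⊓ Subgroup.centralizer ({z} : Set G) := ⟨_, rfl⟩
  rw [← hA₀d] at h2
  have hA₀A : A₀ ≤ A := hA₀d ▸ inf_le_left
  have hA₀z : ∀ a ∈ A₀, a * z = z * a := by
    intro a ha
    rw [hA₀d] at ha
    exact ((cent_iff a z).1 ha.2).symm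
  have hmemA₀ : ∀ {a}, a ∈ A → a * z = z * a → a ∈ A₀ := by
    intro a ha hz
    rw [hA₀d]
    exact ⟨ha, (cent_iff a z).2 hz.symm⟩
  have hzA : z ∉ A := by
    intro hz
    have h1 : A ≤ A₀ := fun a ha => hmemA₀ ha (hAc a ha z hz)
    rw [Subgroup.relIndex_eq_one.2 h1] at h2
    exact absurd h2 (by norm_num)
  have hcardA : Nat.card A = Nat.card A₀ * 2 := by
    rw [← h2]
    exact (Cfsg.Agent.Lib.OddLocal.card_mul_relIndex hA₀A).symm
  have hA₀c : ∀ a ∈ A₀, ∀ b ∈ A₀, a * b = b * a := fun a ha b hb => hAc a (hA₀A ha) b (hA₀A hb)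
  obtain ⟨E, hEd⟩ : ∃ E, E = A₀ ⊔ Subgroup.zpowers z := ⟨_, rfl⟩
  have hEc : ∀ a ∈ E, ∀ b ∈ E, a * b = b * a := by
    rw [hEd]
    exact comm_sup hA₀c (comm_zpowers z) (commute_zpowers hA₀z)
  have hES : E ≤ S := by
    rw [hEd]
    exact sup_le (hA₀A.trans hAS) (Subgroup.zpowers_le.2 hzS)
  have hA₀E : A₀ ≤ E := hEd ▸ le_sup_left
  have hzE : z ∈ E := hEd ▸ Subgroup.mem_sup_right (Subgroup.mem_zpowers z)
  have hEcard : Nat.card A ≤ Nat.card E := by
    have h3 : Nat.card A₀ * A₀.relIndex E = Nat.card E := Cfsg.Agent.Lib.OddLocal.card_mul_relIndex hA₀E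
    have h4 : A₀.relIndex E ≠ 1 := by
      intro h5
      exact hzA (hA₀A (Subgroup.relIndex_eq_one.1 h5 hzE))
    have h5 : A₀.relIndex E ≠ 0 := Subgroup.FiniteIndex.index_ne_zero
    rw [hcardA, ← h3]
    exact Nat.mul_le_mul_left _ (by omega)
  have hEF : E ∈ GF S := GF_of_card hA hES hEc hEcard
  have hEz : ∀ a ∈ E, a * z = z * a := fun a ha => hEc a ha z hzE
  have hEQ : E ≤ pCoreOf p H := by
    by_contra hne
    have hzx : z = x := by
      rw [hzd]
      apply h.fix_unique hEF hne hg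
      rw [← hzd]
      exact hEz
    have h1 : A ≤ A₀ := by
      intro a ha
      apply hmemA₀ ha
      rw [hzx]
      exact (Subgroup.mem_centralizer_iff.1 h.hxc) a (hAS ha)
    rw [Subgroup.relIndex_eq_one.2 h1] at h2
    exact absurd h2 (by norm_num)
  have hA₀Q : A₀ ≤ pCoreOf p H := hA₀E.trans hEQ
  obtain ⟨a, haA, haQ⟩ := SetLike.not_le_iff_exists.1 hAQ
  have haS := hAS haA
  have haH := h.hS.le haS
  -- the offender count
  have hoff : ∀ X : Subgroup G, X ≤ S → (∀ s ∈ X, ∀ t ∈ X, s * t = t * s) →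
      (∀ q ∈ pCoreOf p H, ∀ t ∈ X, q * t = t * q) → (X ⊓ A₀).relIndex X ≤ 2 := by
    intro X hXS hXc hXQ
    have hc : ∀ s ∈ X ⊔ A₀, ∀ t ∈ X ⊔ A₀, s * t = t * s :=
      comm_sup hXc hA₀c (fun s hs t ht => (hXQ t (hA₀Q ht) s hs).symm)
    have h3 := GF_max hA (sup_le hXS (hA₀A.trans hAS)) hc
    have h4 : A₀ ≤ Subgroup.normalizer (X : Set G) := by
      apply le_normalizer_of_conj_le
      rintro q hq _ ⟨t, ht, rfl⟩
      show q * t * q⁻¹ ∈ X
      rw [hXQ q (hA₀Q hq) t ht]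
      simpa using ht
    have h5 : A₀.relIndex (X ⊔ A₀) = (X ⊓ A₀).relIndex X := relIndex_sup_eq_inf h4
    have h6 : Nat.card A₀ * A₀.relIndex (X ⊔ A₀) = Nat.card ↥(X ⊔ A₀) :=
      Cfsg.Agent.Lib.OddLocal.card_mul_relIndex le_sup_right
    rw [← h6, hcardA, h5] at h3
    exact Nat.le_of_mul_le_mul_left h3 Nat.card_pos
  have haz : ¬ a * z = z * a := fun e => haQ (hA₀Q (hmemA₀ haA e))
  have hcentV : (∀ g' ∈ H, a * (g' * x * g'⁻¹) = (g' * x * g'⁻¹) * a) → False := by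
    intro hall
    apply haQ
    apply h.inf_centralizer_le haS
    have hle : VV x H ≤ Subgroup.centralizer ({a} : Set G) := by
      rw [VV, Subgroup.closure_le]
      rintro _ ⟨g', hg', rfl⟩
      exact (cent_iff _ a).2 (hall g' hg')
    rw [Subgroup.mem_centralizer_iff]
    intro v hv
    exact ((cent_iff _ a).1 (hle hv)).symm
  rcases h.hC with h1 | hS4 | ⟨u, huS, huc, hup⟩
  · exact h1 hp
  · -- `S₄`-free
    subst hp
    have hoffV := hoff (VV x H) h.VV_le_S h.VV_comm (fun q hq t ht => h.VV_commute_Q ht hq)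
    have hzV₁ : z ∉ VV x H ⊓ A₀ := fun hz => hzA (hA₀A hz.2)
    have hidx : (VV x H ⊓ A₀).relIndex (VV x H) = 2 := by
      have h3 : (VV x H ⊓ A₀).relIndex (VV x H) ≠ 1 := by
        intro h4
        exact hzV₁ (Subgroup.relIndex_eq_one.1 h4 hzV)
      have h4 : (VV x H ⊓ A₀).relIndex (VV x H) ≠ 0 := Subgroup.FiniteIndex.index_ne_zero
      omega
    have hidx' : ((VV x H ⊓ A₀).subgroupOf (VV x H)).index = 2 := hidx
    have hmemY : ∀ v : VV x H, v ∈ (VV x H ⊓ A₀).subgroupOf (VV x H) ↔ (v : G) ∈ A₀ := by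
      intro v
      rw [Subgroup.mem_subgroupOf]
      exact ⟨fun h3 => h3.2, fun h3 => ⟨v.2, h3⟩⟩
    have haN : a ∈ Subgroup.normalizer (VV x H : Set G) := H_le_normalizer_VV haH
    have hconjV : ∀ {v}, v ∈ VV x H → a * v * a⁻¹ ∈ VV x H := fun hv =>
      (Subgroup.mem_normalizer_iff.1 haN _).1 hv
    have hfixA₀ : ∀ v ∈ A₀, a * v * a⁻¹ = v := by
      intro v hv
      rw [hAc a haA v (hA₀A hv)]
      group
    have hwA : a * z * a⁻¹ * z⁻¹ ∈ A := by
      have h1 : z * a⁻¹ * z⁻¹ ∈ A := (Subgroup.mem_normalizer_iff.1 (hVA hzV) _).1 (A.inv_mem haA)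
      have e : a * z * a⁻¹ * z⁻¹ = a * (z * a⁻¹ * z⁻¹) := by group
      rw [e]
      exact A.mul_mem haA h1
    have hzz : z * z ∈ A₀ := by
      have := Subgroup.mul_self_mem_of_index_two hidx' (⟨z, hzV⟩ : VV x H)
      exact ((hmemY _).1 this)
    refine transvection_contra h haH haS haQ (w := a * z * a⁻¹ * z⁻¹) ⟨?_, ?_, ?_, ?_, ?_⟩ hS4
    · exact (VV x H).mul_mem (hconjV hzV) ((VV x H).inv_mem hzV)
    · intro e
      apply haz
      have h3 : a * z * a⁻¹ = z := eq_of_mul_inv_eq_one e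
      calc a * z = (a * z * a⁻¹) * a := by group
        _ = z * a := by rw [h3]
    · have h3 : a * z * a⁻¹ * z = z * (a * z * a⁻¹) := h.VV_comm _ (hconjV hzV) _ hzV
      have h4 : a * (z * z) * a⁻¹ = z * z := hfixA₀ _ hzz
      have h5 : z⁻¹ * (a * z * a⁻¹) = (a * z * a⁻¹) * z⁻¹ := (h.VV_comm _ ((VV x H).inv_mem hzV) _ (hconjV hzV))
      calc a * z * a⁻¹ * z⁻¹ * (a * z * a⁻¹ * z⁻¹)
          = (a * z * a⁻¹) * (z⁻¹ * (a * z * a⁻¹)) * z⁻¹ := by group
        _ = (a * z * a⁻¹) * ((a * z * a⁻¹) * z⁻¹) * z⁻¹ := by rw [h5]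
        _ = (a * (z * z) * a⁻¹) * z⁻¹ * z⁻¹ := by group
        _ = (z * z) * z⁻¹ * z⁻¹ := by rw [h4]
        _ = 1 := by group
    · rw [hAc a haA _ hwA]
      group
    · intro v hv
      by_cases hvA : v ∈ A₀
      · left
        rw [hfixA₀ v hvA]
        group
      · right
        have hvz : (⟨v, hv⟩ : VV x H) * (⟨z, hzV⟩ : VV x H)⁻¹ ∈ (VV x H ⊓ A₀).subgroupOf (VV x H) := by
          rw [Subgroup.mul_mem_iff_of_index_two hidx']
          constructor
          · intro h3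
            exact absurd ((hmemY _).1 h3) hvA
          · intro h3
            have h4 := (Subgroup.mem_subgroupOf).1 h3
            exfalso
            apply hzV₁
            have h5 := Subgroup.inv_mem _ h4
            simpa using h5
        have hvz' : v * z⁻¹ ∈ A₀ := (hmemY _).1 hvz
        have h3 := hfixA₀ _ hvz'
        have h4 : (a * v * a⁻¹) * (a * z * a⁻¹)⁻¹ = v * z⁻¹ := by
          rw [← h3]
          group
        have h5 : a * v * a⁻¹ = v * z⁻¹ * (a * z * a⁻¹) := by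
          rw [← h4]
          group
        have h6 : v * (z⁻¹ * (a * z * a⁻¹)) = (z⁻¹ * (a * z * a⁻¹)) * v :=
          h.VV_comm _ hv _ ((VV x H).mul_mem ((VV x H).inv_mem hzV) (hconjV hzV))
        have h7 : z⁻¹ * (a * z * a⁻¹) = (a * z * a⁻¹) * z⁻¹ := (h.VV_comm _ ((VV x H).inv_mem hzV) _ (hconjV hzV))
        calc a * v * a⁻¹ * v⁻¹ = v * (z⁻¹ * (a * z * a⁻¹)) * v⁻¹ := by rw [h5]; group
          _ = (z⁻¹ * (a * z * a⁻¹)) * v * v⁻¹ := by rw [h6]
          _ = z⁻¹ * (a * z * a⁻¹) := by group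
          _ = _ := h7
  · -- `x` a `p`-th power
    subst hp
    have huE : u ∈ E := mem_of_commute_GF hEF huS
      (fun e he => (Subgroup.mem_centralizer_iff.1 huc) e (hES he))
    have huQ : u ∈ pCoreOf 2 H := hEQ huE
    apply hcentV
    intro g' hg'
    obtain ⟨v, hvd⟩ : ∃ v, v = g' * u * g'⁻¹ := ⟨_, rfl⟩
    have hvQ : v ∈ pCoreOf 2 H := by
      rw [hvd]
      exact (Subgroup.mem_normalizer_iff.1 (le_normalizer_pCoreOf H hg') u).1 huQ
    have hvc : ∀ q ∈ pCoreOf 2 H, q * v = v * q := by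
      intro q hq
      rw [hvd]
      exact h.conj_commute_Q huc hg' hq
    have hX := hoff (Subgroup.zpowers v) (Subgroup.zpowers_le.2 (h.Q_le hvQ)) (comm_zpowers v)
      (commute_zpowers hvc)
    have hvX : v ∈ Subgroup.zpowers v := Subgroup.mem_zpowers v
    have hvv : v * v ∈ A₀ := by
      have hne0 : (Subgroup.zpowers v ⊓ A₀).relIndex (Subgroup.zpowers v) ≠ 0 :=
        Subgroup.FiniteIndex.index_ne_zero
      have hcases : (Subgroup.zpowers v ⊓ A₀).relIndex (Subgroup.zpowers v) = 1 ∨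
          (Subgroup.zpowers v ⊓ A₀).relIndex (Subgroup.zpowers v) = 2 := by omega
      rcases hcases with h3 | h3
      · have h4 := Subgroup.relIndex_eq_one.1 h3 hvX
        exact A₀.mul_mem h4.2 h4.2
      · have h3' : ((Subgroup.zpowers v ⊓ A₀).subgroupOf (Subgroup.zpowers v)).index = 2 := h3
        have h4 := Subgroup.mul_self_mem_of_index_two h3' (⟨v, hvX⟩ : Subgroup.zpowers v)
        have h5 := (Subgroup.mem_subgroupOf).1 h4
        exact h5.2
    have e : g' * x * g'⁻¹ = v * v := by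
      rw [hvd, ← hup, pow_two]
      group
    rw [e]
    exact hAc a haA _ (hA₀A hvv)

/-- The contradiction in the core case. -/
theorem core_contra (h : BData p x H S) : False := by
  obtain ⟨A, hA, hAQ, hVA⟩ := h.exists_good_A
  have hAS := GF_le hA
  have hcent : A ≤ Subgroup.centralizer (VV x H : Set G) := by
    refine sum_trick h.VV_p h.VV_comm H_le_normalizer_VV (hAS.trans h.hS.le) (GF_comm hA) hVA x_mem_VV rfl ?_ ?_ ?_
    · intro a ha
      rw [(Subgroup.mem_centralizer_iff.1 h.hxc) a (hAS ha)]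
      group
    · intro g hg hfix
      apply h.fix_unique hA hAQ hg
      intro a ha
      calc a * (g * x * g⁻¹) = (a * (g * x * g⁻¹) * a⁻¹) * a := by group
        _ = _ := by rw [hfix a ha]
    · by_cases hp : p = 2
      · exact Or.inr (fun g hg => h.no_exceptional hp hA hAQ hVA hg)
      · exact Or.inl hp
  obtain ⟨a, ha, haQ⟩ := SetLike.not_le_iff_exists.1 hAQ
  exact haQ (h.inf_centralizer_le (hAS ha) (hcent ha))

end BData

/-- The theorem relative to subgroups. -/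
theorem gwc_all (x : G) : ∀ (n : ℕ) (H : Subgroup G), Nat.card H = n → GWC p x H := by
  intro n
  induction n using Nat.strong_induction_on with
  | _ n ih =>
    intro H hn T hS hxT hxc hC hJ
    have hIH : ∀ K, K < H → GWC p x K := by
      intro K hK
      exact ih _ (hn ▸ card_lt_of_lt' hK) K rfl
    by_cases hQ : x ∈ pCoreOf p H
    · by_contra hcon
      push Not at hcon
      obtain ⟨g, hgH, -, hgne⟩ := hcon
      exact BData.core_contra (⟨hIH, hS, hQ, hxc, hC, hJ, ⟨g, hgH, hgne⟩⟩ : BData p x H T)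
    · exact gw_reduction hIH hS hxT hxc hC hJ hQ

/-- **Glauberman's theorem on weakly closed elements**. -/
theorem glauberman_weakly_closed (S : Sylow p G) (x : G) (hxS : x ∈ (S : Subgroup G))
    (hxZ : ∀ n ∈ Subgroup.normalizer (GJ (S : Subgroup G) : Set G), n * x = x * n)
    (h : p ≠ 2 ∨ (∃ z ∈ (S : Subgroup G) ⊓ Subgroup.centralizer ((S : Subgroup G) : Set G), z ^ p = x) ∨
      ¬ Involves (Equiv.Perm (Fin 4)) G) :
    ∀ g : G, g * x * g⁻¹ ∈ (S : Subgroup G) → g * x * g⁻¹ = x := by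
  intro g hg
  have hSyl : SylIn p (⊤ : Subgroup G) (S : Subgroup G) := by
    refine ⟨le_top, S.isPGroup', ?_⟩
    rw [Subgroup.relIndex_top_right]
    exact S.not_dvd_index
  have hSN : (S : Subgroup G) ≤ Subgroup.normalizer (GJ (S : Subgroup G) : Set G) :=
    (Subgroup.le_normalizer).trans (normalizer_le_normalizer_GJ _)
  have hxc : x ∈ Subgroup.centralizer ((S : Subgroup G) : Set G) := by
    rw [Subgroup.mem_centralizer_iff]
    intro s hs
    exact hxZ s (hSN hs)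
  have hC : GCond p (S : Subgroup G) x := by
    rcases h with h1 | ⟨z, ⟨hz1, hz2⟩, hz3⟩ | h1
    · exact Or.inl h1
    · exact Or.inr (Or.inr ⟨z, hz1, hz2, hz3⟩)
    · exact Or.inr (Or.inl h1)
  refine gwc_all x _ ⊤ rfl (S : Subgroup G) hSyl hxS hxc hC ?_ g trivial hg
  intro n _ hn
  rw [hxZ n hn]
  group

end Cfsg.Agent.Lib.LocalEven
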