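import Mathlib

/-!
# Subgroups `A₄` of `GL₂(ℤ/2ᵏ)`
-/

set_option autoImplicit false

namespace Cfsg.Agent.Lib.LocalEven.A4GL2

open Matrix

theorem a4_facts : ∃ s : alternatingGroup (Fin 4), s ≠ 1 ∧ s ^ 3 = 1 ∧ ∀ x, ∃ v, v * v = 1 ∧
    v * (s * v * s⁻¹) = s * s * v * s⁻¹ * s⁻¹ ∧ (x = v ∨ x = v * s ∨ x = v * s * s) := by
  decide +kernel

theorem a4_card : Nat.card (alternatingGroup (Fin 4)) = 12 := by
  rw [Nat.card_eq_fintype_card]
  decide +kernel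

variable {k : ℕ}

local notation "R" => ZMod (2 ^ k)

theorem two_pow_zero : (2 : ZMod (2 ^ k)) ^ k = 0 := by
  have := ZMod.natCast_self (2 ^ k)
  push_cast at this
  exact this

theorem even_or_odd (x : ZMod (2 ^ k)) : (∃ e, x = 2 * e) ∨ (∃ e, x = 1 + 2 * e) := by
  haveI : NeZero (2 ^ k) := ⟨by positivity⟩
  obtain ⟨n, rfl⟩ := ZMod.natCast_zmod_surjective x
  rcases Nat.even_or_odd' n with ⟨m, rfl | rfl⟩
  · left; exact ⟨m, by push_cast; ring⟩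
  · right; exact ⟨m, by push_cast; ring⟩

theorem isUnit_odd (e : ZMod (2 ^ k)) : IsUnit (1 + 2 * e) := by
  apply IsNilpotent.isUnit_one_add
  apply Commute.isNilpotent_mul_right (Commute.all _ _)
  exact ⟨k, two_pow_zero⟩

theorem not_even_one (hk : 1 ≤ k) (e : ZMod (2 ^ k)) : (1 : ZMod (2 ^ k)) ≠ 2 * e := by
  haveI : Fact (1 < 2 ^ k) := ⟨Nat.one_lt_two_pow (by omega)⟩
  intro h
  have h1 : ((1 : ZMod (2 ^ k))) ^ k = (2 * e) ^ k := by rw [← h]
  rw [one_pow, mul_pow, two_pow_zero, zero_mul] at h1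
  exact one_ne_zero h1

theorem two_torsion (hk : 1 ≤ k) {x : ZMod (2 ^ k)} (h : 2 * x = 0) :
    x = 0 ∨ x = 2 ^ (k - 1) := by
  haveI : NeZero (2 ^ k) := ⟨by positivity⟩
  obtain ⟨n, hn, rfl⟩ : ∃ n : ℕ, n < 2 ^ k ∧ x = (n : ZMod (2 ^ k)) :=
    ⟨x.val, ZMod.val_lt x, (ZMod.natCast_zmod_val x).symm⟩
  have h1 : ((2 * n : ℕ) : ZMod (2 ^ k)) = 0 := by push_cast; exact h
  rw [ZMod.natCast_eq_zero_iff] at h1
  obtain ⟨m, rfl⟩ : ∃ m, k = m + 1 := ⟨k - 1, by omega⟩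
  rw [pow_succ'] at h1
  have h2 : 2 ^ m ∣ n := Nat.dvd_of_mul_dvd_mul_left (by norm_num) h1
  obtain ⟨c, rfl⟩ := h2
  have hc : c < 2 := by
    rw [pow_succ'] at hn
    by_contra hge
    have : 2 ^ m * 2 ≤ 2 ^ m * c := Nat.mul_le_mul_left _ (by omega)
    have h3 : 2 * 2 ^ m = 2 ^ m * 2 := by ring
    omega
  interval_cases c
  · left; simp
  · right; simp

/-- The order-three matrix. -/
def s₀ : Matrix (Fin 2) (Fin 2) R := !![0, -1; 1, -1]

/-- Its inverse. -/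
def s₀i : Matrix (Fin 2) (Fin 2) R := !![-1, 1; -1, 0]

theorem s₀_mul_i : (s₀ : Matrix (Fin 2) (Fin 2) R) * s₀i = 1 := by
  ext i j
  fin_cases i <;> fin_cases j <;> simp [s₀, s₀i, Matrix.mul_apply, Fin.sum_univ_two]

theorem s₀i_mul : (s₀i : Matrix (Fin 2) (Fin 2) R) * s₀ = 1 := by
  ext i j
  fin_cases i <;> fin_cases j <;> simp [s₀, s₀i, Matrix.mul_apply, Fin.sum_univ_two]

theorem det_s₀ : (s₀ : Matrix (Fin 2) (Fin 2) R).det = 1 := by
  simp [s₀, Matrix.det_fin_two]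

theorem det_s₀i : (s₀i : Matrix (Fin 2) (Fin 2) R).det = 1 := by
  simp [s₀i, Matrix.det_fin_two]

/-- The four-group attached to `s₀`. -/
def mat (b c : ZMod (2 ^ k)) : Matrix (Fin 2) (Fin 2) (ZMod (2 ^ k)) := !![1 + b + c, b; c, 1 + b + c]

/-- Involutions inverted in the way of `A₄` have the form `mat b c`. -/
theorem v_form (hk : 2 ≤ k) (v : Matrix (Fin 2) (Fin 2) R) (h1 : v * v = 1)
    (h2 : v * (s₀ * v * s₀i) = s₀ * s₀ * v * s₀i * s₀i) :
    ∃ b c : ZMod (2 ^ k), (b = 0 ∨ b = 2 ^ (k - 1)) ∧ (c = 0 ∨ c = 2 ^ (k - 1)) ∧ v = mat b c := by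
  have hdet1 : v.det * v.det = 1 := by
    rw [← Matrix.det_mul, h1, Matrix.det_one]
  have hdet2 : v.det * v.det = v.det := by
    have := congrArg Matrix.det h2
    simp only [Matrix.det_mul, det_s₀, det_s₀i, one_mul, mul_one] at this
    exact this
  have hdet : v.det = 1 := by rw [← hdet2, hdet1]
  have hadj : v.adjugate = v := by
    have h3 := Matrix.mul_adjugate v
    rw [hdet, one_smul] at h3
    calc v.adjugate = (v * v) * v.adjugate := by rw [h1, one_mul]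
      _ = v * (v * v.adjugate) := by rw [Matrix.mul_assoc]
      _ = v := by rw [h3, Matrix.mul_one]
  rw [Matrix.adjugate_fin_two] at hadj
  have ha11 : v 1 1 = v 0 0 := by simpa using congrFun (congrFun hadj 0) 0
  have hb : - v 0 1 = v 0 1 := by simpa using congrFun (congrFun hadj 0) 1
  have hc : - v 1 0 = v 1 0 := by simpa using congrFun (congrFun hadj 1) 0
  obtain ⟨a, ha⟩ : ∃ a, a = v 0 0 := ⟨_, rfl⟩
  obtain ⟨b, hbb⟩ : ∃ b, b = v 0 1 := ⟨_, rfl⟩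
  obtain ⟨c, hcc⟩ : ∃ c, c = v 1 0 := ⟨_, rfl⟩
  have hveq : v = !![a, b; c, a] := by
    rw [ha, hbb, hcc, ← ha11]
    conv_lhs => rw [Matrix.eta_fin_two v]
    rw [ha11]
  rw [← hbb] at hb
  rw [← hcc] at hc
  have h2b : 2 * b = 0 := by linear_combination -hb
  have h2c : 2 * c = 0 := by linear_combination -hc
  have hbt := two_torsion (by omega) h2b
  have hct := two_torsion (by omega) h2c
  have hh : (2 ^ (k - 1) : ZMod (2 ^ k)) * 2 ^ (k - 1) = 0 := by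
    obtain ⟨m, rfl⟩ : ∃ m, k = m + 2 := ⟨k - 2, by omega⟩
    have : (2 : ZMod (2 ^ (m + 2))) ^ (m + 2 - 1) * 2 ^ (m + 2 - 1) = 2 ^ (m + 2) * 2 ^ m := by
      rw [← pow_add, ← pow_add]; congr 1; omega
    rw [this, two_pow_zero, zero_mul]
  have hbb2 : b * b = 0 := by
    rcases hbt with h | h <;> rw [h]
    · simp
    · exact hh
  have hcc2 : c * c = 0 := by
    rcases hct with h | h <;> rw [h]
    · simp
    · exact hh
  have hbc : b * c = 0 := by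
    rcases hbt with h | h <;> rcases hct with h' | h' <;> rw [h, h'] <;> simp [hh]
  subst hveq
  have h00 := congrFun (congrFun h1 0) 0
  simp [Matrix.mul_apply, Fin.sum_univ_two] at h00
  have haa : a * a = 1 := by linear_combination h00 - hbc
  obtain ⟨e, he⟩ : ∃ e, a = 1 + 2 * e := by
    rcases even_or_odd a with ⟨e, he⟩ | h
    · exfalso
      apply not_even_one (k := k) (by omega) (e * a)
      rw [← haa, he]; ring
    · exact h
  have hab : a * b = b := by rw [he]; linear_combination e * h2b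
  have hac : a * c = c := by rw [he]; linear_combination e * h2c
  have h3 := congrFun (congrFun h2 0) 0
  simp [s₀, s₀i, Matrix.mul_apply, Fin.sum_univ_two] at h3
  refine ⟨b, c, hbt, hct, ?_⟩
  have hfinal : a = 1 + b + c := by
    linear_combination (-1 : ZMod (2 ^ k)) * h3 + haa + hac + hbc - hbb2
  unfold mat
  rw [← hfinal]

/-- `x³ = 1` forces `x = 1` in `ℤ/2ᵏ`. -/
theorem cube_one (hk : 1 ≤ k) {x : ZMod (2 ^ k)} (h : x ^ 3 = 1) : x = 1 := by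
  rcases even_or_odd x with ⟨e, he⟩ | ⟨e, he⟩
  · exfalso
    apply not_even_one hk (e * x * x)
    rw [← h]
    rw [he]; ring
  · have hu : IsUnit (x ^ 2 + x + 1) := by
      have : x ^ 2 + x + 1 = 1 + 2 * (1 + 3 * e + 2 * e ^ 2) := by rw [he]; ring
      rw [this]
      exact isUnit_odd _
    have h0 : (x ^ 2 + x + 1) * (x - 1) = 0 := by linear_combination h
    have h1 := (hu.mul_right_eq_zero).1 h0
    linear_combination h1

/-- Elements of order three in `GL₂(ℤ/2ᵏ)` are conjugate to the standard one. -/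
theorem exists_conj (hk : 1 ≤ k) (s : Matrix (Fin 2) (Fin 2) R) (hs3 : s * s * s = 1) (hs1 : s ≠ 1) :
    ∃ g : Matrix (Fin 2) (Fin 2) R, IsUnit g.det ∧ s * g = g * s₀ := by
  obtain ⟨a, ha⟩ : ∃ a, a = s 0 0 := ⟨_, rfl⟩
  obtain ⟨b, hb⟩ : ∃ b, b = s 0 1 := ⟨_, rfl⟩
  obtain ⟨c, hc⟩ : ∃ c, c = s 1 0 := ⟨_, rfl⟩
  obtain ⟨d, hd⟩ : ∃ d, d = s 1 1 := ⟨_, rfl⟩
  have hseq : s = !![a, b; c, d] := by
    rw [ha, hb, hc, hd]
    exact Matrix.eta_fin_two s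
  subst hseq
  have hdet : a * d - b * c = 1 := by
    have h1 := congrArg Matrix.det hs3
    simp only [Matrix.det_mul, Matrix.det_one, Matrix.det_fin_two_of] at h1
    apply cube_one hk
    linear_combination h1
  have e00 := congrFun (congrFun hs3 0) 0
  have e01 := congrFun (congrFun hs3 0) 1
  have e10 := congrFun (congrFun hs3 1) 0
  have e11 := congrFun (congrFun hs3 1) 1
  simp [Matrix.mul_apply, Fin.sum_univ_two] at e00 e01 e10 e11
  obtain ⟨τ, hτ⟩ : ∃ τ, τ = a + d := ⟨_, rfl⟩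
  have hbc : b * c = a * d - 1 := by linear_combination -hdet
  have r1 : a * (τ ^ 2 - 1) - τ = 1 := by
    rw [hτ]
    linear_combination e00 + (-2 * a - d) * hbc
  have r2 : d * (τ ^ 2 - 1) - τ = 1 := by
    rw [hτ]
    linear_combination e11 + (-2 * d - a) * hbc
  have r3 : b * (τ ^ 2 - 1) = 0 := by
    rw [hτ]
    linear_combination e01 + (-b) * hbc
  have r4 : c * (τ ^ 2 - 1) = 0 := by
    rw [hτ]
    linear_combination e10 + (-c) * hbc
  rcases even_or_odd τ with ⟨e, he⟩ | ⟨e, he⟩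
  · exfalso
    have hu : IsUnit (τ ^ 2 - 1) := by
      have : τ ^ 2 - 1 = -(1 + 2 * (- 2 * e ^ 2)) := by rw [he]; ring
      rw [this]
      exact (isUnit_odd _).neg
    have hb0 : b = 0 := (hu.mul_left_eq_zero).1 r3
    have hc0 : c = 0 := (hu.mul_left_eq_zero).1 r4
    have had : a = d := by
      have : (a - d) * (τ ^ 2 - 1) = 0 := by linear_combination r1 - r2
      have := (hu.mul_left_eq_zero).1 this
      linear_combination this
    subst hb0 hc0 had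
    have ha1 : a = 1 := by
      apply cube_one hk
      simpa [pow_succ] using e00
    subst ha1
    apply hs1
    ext i j
    fin_cases i <;> fin_cases j <;> simp
  · -- `τ = -1`
    have hu : IsUnit ((τ - 1) * a - 1) := by
      have : (τ - 1) * a - 1 = -(1 + 2 * (- e * a)) := by rw [he]; ring
      rw [this]
      exact (isUnit_odd _).neg
    have h0 : (τ + 1) * ((τ - 1) * a - 1) = 0 := by linear_combination r1
    have hτ1 : τ + 1 = 0 := (hu.mul_left_eq_zero).1 h0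
    have hd' : d = -1 - a := by rw [hτ] at hτ1; linear_combination hτ1
    subst hd'
    have hu2 : IsUnit (b * c) := by
      rw [hbc]
      rcases even_or_odd a with ⟨f, hf⟩ | ⟨f, hf⟩
      · have : a * (-1 - a) - 1 = -(1 + 2 * (2 * f ^ 2 + f)) := by rw [hf]; ring
        rw [this]
        exact (isUnit_odd _).neg
      · have : a * (-1 - a) - 1 = -(1 + 2 * (1 + 3 * f + 2 * f ^ 2)) := by rw [hf]; ring
        rw [this]
        exact (isUnit_odd _).neg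
    have hcu : IsUnit c := isUnit_of_mul_isUnit_right hu2
    refine ⟨!![1, a; 0, c], by simpa [Matrix.det_fin_two_of] using hcu, ?_⟩
    ext i j
    fin_cases i <;> fin_cases j <;> simp [s₀, Matrix.mul_apply, Fin.sum_univ_two]
    · linear_combination hbc
    · ring

open Classical in
/-- The candidate set for a conjugate of a subgroup `A₄`. -/
noncomputable def FM (k : ℕ) : Finset (Matrix (Fin 2) (Fin 2) (ZMod (2 ^ k))) :=
  (((({0, 2 ^ (k - 1)} : Finset (ZMod (2 ^ k))) ×ˢ ({0, 2 ^ (k - 1)} : Finset (ZMod (2 ^ k)))) ×ˢ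
    (Finset.univ : Finset (Fin 3)))).image (fun p => mat p.1.1 p.1.2 * (s₀ ^ (p.2 : ℕ)))

theorem FM_card (k : ℕ) : (FM k).card ≤ 12 := by
  classical
  unfold FM
  refine Finset.card_image_le.trans ?_
  rw [Finset.card_product, Finset.card_product, Finset.card_univ, Fintype.card_fin]
  have h := Finset.card_le_two (a := (0 : ZMod (2 ^ k))) (b := 2 ^ (k - 1))
  nlinarith [Nat.mul_le_mul h h]

theorem mem_FM {b c : ZMod (2 ^ k)} (hb : b = 0 ∨ b = 2 ^ (k - 1)) (hc : c = 0 ∨ c = 2 ^ (k - 1)) (e : Fin 3) :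
    mat b c * (s₀ ^ (e : ℕ)) ∈ FM k := by
  classical
  unfold FM
  rw [Finset.mem_image]
  refine ⟨((b, c), e), ?_, rfl⟩
  simp only [Finset.mem_product, Finset.mem_insert, Finset.mem_singleton, Finset.mem_univ, and_true]
  exact ⟨hb, hc⟩

/-- Every subgroup `A₄` has a conjugate inside the candidate set. -/
theorem key (hk : 2 ≤ k) (H : Subgroup (GL (Fin 2) (ZMod (2 ^ k))))
    (e : H ≃* alternatingGroup (Fin 4)) :
    ∃ g : GL (Fin 2) (ZMod (2 ^ k)), ∀ x ∈ H, ((g * x * g⁻¹ : GL (Fin 2) (ZMod (2 ^ k))) :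
      Matrix (Fin 2) (Fin 2) (ZMod (2 ^ k))) ∈ FM k := by
  obtain ⟨sA, hne, h3, hall⟩ := a4_facts
  obtain ⟨s, hs⟩ : ∃ s : GL (Fin 2) (ZMod (2 ^ k)), s = ((e.symm sA : H) : GL (Fin 2) (ZMod (2 ^ k))) := ⟨_, rfl⟩
  have hsH : s ∈ H := by rw [hs]; exact (e.symm sA).2
  have hs3 : s ^ 3 = 1 := by
    rw [hs, ← Subgroup.coe_pow, ← map_pow, h3, map_one, Subgroup.coe_one]
  have hs1 : s ≠ 1 := by
    intro h
    rw [hs] at h
    have h2 : (e.symm sA : H) = 1 := Subtype.ext h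
    exact hne (by simpa using h2)
  have hS3 : (s : Matrix (Fin 2) (Fin 2) (ZMod (2 ^ k))) * s * s = 1 := by
    have : s * s * s = 1 := by rw [← hs3]; simp [pow_succ]
    exact congrArg Units.val this
  have hS1 : (s : Matrix (Fin 2) (Fin 2) (ZMod (2 ^ k))) ≠ 1 := by
    intro h
    exact hs1 (Units.ext h)
  obtain ⟨G, hG, hSG⟩ := exists_conj (by omega) _ hS3 hS1
  let g₀ : GL (Fin 2) (ZMod (2 ^ k)) := Matrix.GeneralLinearGroup.mk'' G hG
  have hg₀ : (g₀ : Matrix (Fin 2) (Fin 2) (ZMod (2 ^ k))) = G := rfl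
  obtain ⟨t, ht⟩ : ∃ t, t = g₀⁻¹ * s * g₀⁻¹⁻¹ := ⟨_, rfl⟩
  have htv : (t : Matrix (Fin 2) (Fin 2) (ZMod (2 ^ k))) = s₀ := by
    rw [ht, inv_inv, Units.val_mul, Units.val_mul, hg₀, Matrix.mul_assoc, hSG, ← Matrix.mul_assoc, ← hg₀,
      Units.inv_mul, Matrix.one_mul]
  have htiv : ((t⁻¹ : GL (Fin 2) (ZMod (2 ^ k))) : Matrix (Fin 2) (Fin 2) (ZMod (2 ^ k))) = s₀i := by
    calc ((t⁻¹ : GL (Fin 2) (ZMod (2 ^ k))) : Matrix (Fin 2) (Fin 2) (ZMod (2 ^ k)))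
        = ((t⁻¹ : GL (Fin 2) (ZMod (2 ^ k))) : Matrix (Fin 2) (Fin 2) (ZMod (2 ^ k))) * (Units.val t * s₀i) := by
          rw [htv, s₀_mul_i, Matrix.mul_one]
      _ = s₀i := by rw [← Matrix.mul_assoc, Units.inv_mul, Matrix.one_mul]
  refine ⟨g₀⁻¹, ?_⟩
  intro x hx
  obtain ⟨vA, hv1, hv2, hv3⟩ := hall (e ⟨x, hx⟩)
  obtain ⟨v, hv⟩ : ∃ v : GL (Fin 2) (ZMod (2 ^ k)), v = ((e.symm vA : H) : GL (Fin 2) (ZMod (2 ^ k))) := ⟨_, rfl⟩
  have hv1' : v * v = 1 := by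
    rw [hv, ← Subgroup.coe_mul, ← map_mul, hv1, map_one, Subgroup.coe_one]
  have hv2' : v * (s * v * s⁻¹) = s * s * v * s⁻¹ * s⁻¹ := by
    have := congrArg (fun a => ((e.symm a : H) : GL (Fin 2) (ZMod (2 ^ k)))) hv2
    simp only [map_mul, map_inv, Subgroup.coe_mul, Subgroup.coe_inv] at this
    rw [← hs, ← hv] at this
    exact this
  obtain ⟨w, hw⟩ : ∃ w, w = g₀⁻¹ * v * g₀⁻¹⁻¹ := ⟨_, rfl⟩
  have hw1 : w * w = 1 := by
    rw [hw]
    calc g₀⁻¹ * v * g₀⁻¹⁻¹ * (g₀⁻¹ * v * g₀⁻¹⁻¹) = g₀⁻¹ * (v * v) * g₀⁻¹⁻¹ := by group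
      _ = 1 := by rw [hv1']; group
  have hw2 : w * (t * w * t⁻¹) = t * t * w * t⁻¹ * t⁻¹ := by
    rw [hw, ht]
    calc g₀⁻¹ * v * g₀⁻¹⁻¹ * (g₀⁻¹ * s * g₀⁻¹⁻¹ * (g₀⁻¹ * v * g₀⁻¹⁻¹) * (g₀⁻¹ * s * g₀⁻¹⁻¹)⁻¹)
        = g₀⁻¹ * (v * (s * v * s⁻¹)) * g₀⁻¹⁻¹ := by group
      _ = g₀⁻¹ * (s * s * v * s⁻¹ * s⁻¹) * g₀⁻¹⁻¹ := by rw [hv2']
      _ = _ := by group
  have hW1 : (w : Matrix (Fin 2) (Fin 2) (ZMod (2 ^ k))) * w = 1 := congrArg Units.val hw1
  have hW2 : Units.val w * (s₀ * Units.val w * s₀i) = s₀ * s₀ * Units.val w * s₀i * s₀i := by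
    have := congrArg Units.val hw2
    simp only [Units.val_mul, htv, htiv] at this
    exact this
  obtain ⟨b, c, hb, hc, hWeq⟩ := v_form hk _ hW1 hW2
  have hxv : x = v ∨ x = v * s ∨ x = v * s * s := by
    have h' : ∀ a b : alternatingGroup (Fin 4), e ⟨x, hx⟩ = a → x = ((e.symm a : H) : GL (Fin 2) (ZMod (2 ^ k))) := by
      intro a _ h
      rw [← h]; simp
    rcases hv3 with h | h | h
    · left; rw [hv]; exact h' _ 1 h
    · right; left
      have := h' _ 1 h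
      simp only [map_mul, Subgroup.coe_mul] at this
      rw [← hs, ← hv] at this
      exact this
    · right; right
      have := h' _ 1 h
      simp only [map_mul, Subgroup.coe_mul] at this
      rw [← hs, ← hv] at this
      exact this
  have hconj : ∀ y : GL (Fin 2) (ZMod (2 ^ k)), g₀⁻¹ * (y * s) * g₀⁻¹⁻¹ = (g₀⁻¹ * y * g₀⁻¹⁻¹) * t := by
    intro y
    rw [ht]; group
  rcases hxv with h | h | h
  · rw [h, ← hw, hWeq]
    have := mem_FM hb hc (0 : Fin 3)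
    simpa using this
  · rw [h, hconj, ← hw, Units.val_mul, htv, hWeq]
    have := mem_FM hb hc (1 : Fin 3)
    simpa using this
  · rw [h, hconj, hconj, ← hw, Units.val_mul, Units.val_mul, htv, hWeq]
    have := mem_FM hb hc (2 : Fin 3)
    simpa [pow_two, mul_assoc] using this

/-- Any two subgroups `A₄` of `GL₂(ℤ/2ᵏ)` are conjugate. -/
theorem conj_main (k : ℕ) (hk : 2 ≤ k) (H₁ H₂ : Subgroup (GL (Fin 2) (ZMod (2 ^ k))))
    (h₁ : Nonempty (↥H₁ ≃* ↥(alternatingGroup (Fin 4)))) (h₂ : Nonempty (↥H₂ ≃* ↥(alternatingGroup (Fin 4)))) :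
    ∃ g : GL (Fin 2) (ZMod (2 ^ k)), H₂ = H₁.map (MulAut.conj g).toMonoidHom := by
  classical
  haveI : NeZero (2 ^ k) := ⟨by positivity⟩
  haveI : Fintype (ZMod (2 ^ k)) := ZMod.fintype _
  haveI : Finite (GL (Fin 2) (ZMod (2 ^ k))) := inferInstance
  obtain ⟨e₁⟩ := h₁
  obtain ⟨e₂⟩ := h₂
  obtain ⟨g₁, hg₁⟩ := key hk H₁ e₁
  obtain ⟨g₂, hg₂⟩ := key hk H₂ e₂
  have hcard : ∀ (H : Subgroup (GL (Fin 2) (ZMod (2 ^ k)))) (g : GL (Fin 2) (ZMod (2 ^ k))),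
      (H ≃* ↥(alternatingGroup (Fin 4))) → Nat.card (H.map (MulAut.conj g).toMonoidHom) = 12 := by
    intro H g e
    rw [Subgroup.card_map_of_injective (MulAut.conj g).injective, Nat.card_congr e.toEquiv, a4_card]
  have hsub : ∀ (K : Subgroup (GL (Fin 2) (ZMod (2 ^ k)))), Nat.card K = 12 →
      (∀ y ∈ K, (y : Matrix (Fin 2) (Fin 2) (ZMod (2 ^ k))) ∈ FM k) →
      ∀ A ∈ FM k, ∃ y ∈ K, (y : Matrix (Fin 2) (Fin 2) (ZMod (2 ^ k))) = A := by
    intro K hK hKF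
    haveI := Fintype.ofFinite K
    let f : K → Matrix (Fin 2) (Fin 2) (ZMod (2 ^ k)) := fun y => ((y : GL (Fin 2) (ZMod (2 ^ k))) :
      Matrix (Fin 2) (Fin 2) (ZMod (2 ^ k)))
    have hinj : Function.Injective f := by
      intro a b hab
      exact Subtype.ext (Units.ext hab)
    have himg : (Finset.univ.image f) = FM k := by
      apply Finset.eq_of_subset_of_card_le
      · intro A hA
        obtain ⟨y, -, rfl⟩ := Finset.mem_image.1 hA
        exact hKF _ y.2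
      · rw [Finset.card_image_of_injective _ hinj, Finset.card_univ, ← Nat.card_eq_fintype_card, hK]
        exact FM_card k
    intro A hA
    rw [← himg] at hA
    obtain ⟨y, -, rfl⟩ := Finset.mem_image.1 hA
    exact ⟨y, y.2, rfl⟩
  have hK₁ : ∀ y ∈ H₁.map (MulAut.conj g₁).toMonoidHom, (y : Matrix (Fin 2) (Fin 2) (ZMod (2 ^ k))) ∈ FM k := by
    rintro _ ⟨x, hx, rfl⟩
    exact hg₁ x hx
  have hK₂ : ∀ y ∈ H₂.map (MulAut.conj g₂).toMonoidHom, (y : Matrix (Fin 2) (Fin 2) (ZMod (2 ^ k))) ∈ FM k := by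
    rintro _ ⟨x, hx, rfl⟩
    exact hg₂ x hx
  have hle : H₁.map (MulAut.conj g₁).toMonoidHom ≤ H₂.map (MulAut.conj g₂).toMonoidHom := by
    intro y hy
    obtain ⟨z, hz, hzy⟩ := hsub _ (hcard H₂ g₂ e₂) hK₂ _ (hK₁ y hy)
    rwa [← Units.ext hzy]
  have heq := Subgroup.eq_of_le_of_card_ge hle (by rw [hcard H₁ g₁ e₁, hcard H₂ g₂ e₂])
  refine ⟨g₂⁻¹ * g₁, ?_⟩
  ext z
  constructor
  · intro hz
    have h1 : g₂ * z * g₂⁻¹ ∈ H₁.map (MulAut.conj g₁).toMonoidHom := by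
      rw [heq]
      exact ⟨z, hz, rfl⟩
    obtain ⟨x, hx, hxz⟩ := h1
    refine ⟨x, hx, ?_⟩
    have hxz' : g₁ * x * g₁⁻¹ = g₂ * z * g₂⁻¹ := hxz
    show (g₂⁻¹ * g₁) * x * (g₂⁻¹ * g₁)⁻¹ = z
    calc (g₂⁻¹ * g₁) * x * (g₂⁻¹ * g₁)⁻¹ = g₂⁻¹ * (g₁ * x * g₁⁻¹) * g₂ := by group
      _ = z := by rw [hxz']; group
  · rintro ⟨x, hx, rfl⟩
    have h1 : g₁ * x * g₁⁻¹ ∈ H₂.map (MulAut.conj g₂).toMonoidHom := by
      rw [← heq]
      exact ⟨x, hx, rfl⟩
    obtain ⟨y, hy, hyz⟩ := h1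
    have hyz' : g₂ * y * g₂⁻¹ = g₁ * x * g₁⁻¹ := hyz
    show (g₂⁻¹ * g₁) * x * (g₂⁻¹ * g₁)⁻¹ ∈ H₂
    have : (g₂⁻¹ * g₁) * x * (g₂⁻¹ * g₁)⁻¹ = y := by
      calc (g₂⁻¹ * g₁) * x * (g₂⁻¹ * g₁)⁻¹ = g₂⁻¹ * (g₁ * x * g₁⁻¹) * g₂ := by group
        _ = y := by rw [← hyz']; group
    rwa [this]

end Cfsg.Agent.Lib.LocalEven.A4GL2
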