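import Mathlib

/-!
Lower bound for the order of a p-group of given derived length:
derived length `k+1` forces order at least `p^(2^k + 2k - 2)`.
-/

namespace Cfsg.Agent.Lib.LocalEven.DerLen

open scoped commutatorElement

variable {G : Type*} [Group G]

/-- Iterated commutators with the whole group. -/
def K (N : Subgroup G) : ℕ → Subgroup G
  | 0 => N
  | t + 1 => ⁅K N t, (⊤ : Subgroup G)⁆

/-- The lower central series with `Gam 1 = ⊤`, `Gam 2 = G'`, ... -/
def Gam : ℕ → Subgroup G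
  | 0 => ⊤
  | k + 1 => K (⊤ : Subgroup G) k

theorem K_normal (N : Subgroup G) [hN : N.Normal] : ∀ t, (K N t).Normal
  | 0 => hN
  | t + 1 => by
    have := K_normal N t
    exact Subgroup.commutator_normal _ _

theorem K_succ_le (N : Subgroup G) [N.Normal] (t : ℕ) : K N (t + 1) ≤ K N t := by
  have := K_normal N t
  exact Subgroup.commutator_le_left _ _

theorem K_mono {N N' : Subgroup G} (h : N ≤ N') : ∀ t, K N t ≤ K N' t
  | 0 => h
  | t + 1 => Subgroup.commutator_mono (K_mono h t) le_rfl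

theorem K_antitone (N : Subgroup G) [N.Normal] {s t : ℕ} (h : s ≤ t) : K N t ≤ K N s := by
  induction t, h using Nat.le_induction with
  | base => exact le_rfl
  | succ t _ ih => exact (K_succ_le N t).trans ih

theorem three {N H₁ H₂ H₃ : Subgroup G} [N.Normal]
    (h1 : ⁅⁅H₂, H₃⁆, H₁⁆ ≤ N) (h2 : ⁅⁅H₃, H₁⁆, H₂⁆ ≤ N) : ⁅⁅H₁, H₂⁆, H₃⁆ ≤ N := by
  have key : ∀ A B C : Subgroup G, ⁅⁅A, B⁆, C⁆ ≤ N →
      ⁅⁅A.map (QuotientGroup.mk' N), B.map (QuotientGroup.mk' N)⁆,
        C.map (QuotientGroup.mk' N)⁆ = ⊥ := by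
    intro A B C h
    rw [← Subgroup.map_commutator, ← Subgroup.map_commutator, Subgroup.map_eq_bot_iff]
    rwa [QuotientGroup.ker_mk']
  have h3 := Subgroup.commutator_commutator_eq_bot_of_rotate (key _ _ _ h1) (key _ _ _ h2)
  rw [← Subgroup.map_commutator, ← Subgroup.map_commutator, Subgroup.map_eq_bot_iff,
    QuotientGroup.ker_mk'] at h3
  exact h3

theorem comm_K (N : Subgroup G) [N.Normal] :
    ∀ t s, ⁅K N s, K (⊤ : Subgroup G) t⁆ ≤ K N (s + t + 1) := by
  intro t
  induction t with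
  | zero => intro s; exact le_rfl
  | succ t ih =>
    intro s
    have hT : (K N (s + (t + 1) + 1)).Normal := K_normal N _
    rw [Subgroup.commutator_comm]
    change ⁅⁅K (⊤ : Subgroup G) t, (⊤ : Subgroup G)⁆, K N s⁆ ≤ _
    apply three
    · rw [Subgroup.commutator_comm (⊤ : Subgroup G) (K N s)]
      have := ih (s + 1)
      have e : s + 1 + t + 1 = s + (t + 1) + 1 := by omega
      rw [e] at this
      exact this
    · have h1 := ih s
      have : ⁅⁅K N s, K (⊤ : Subgroup G) t⁆, (⊤ : Subgroup G)⁆ ≤ ⁅K N (s + t + 1), (⊤ : Subgroup G)⁆ :=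
        Subgroup.commutator_mono h1 le_rfl
      exact this

theorem comm_Gam (N : Subgroup G) [N.Normal] (s : ℕ) {b : ℕ} (hb : 1 ≤ b) :
    ⁅K N s, (Gam b : Subgroup G)⁆ ≤ K N (s + b) := by
  obtain ⟨k, rfl⟩ : ∃ k, b = k + 1 := ⟨b - 1, by omega⟩
  exact comm_K N k s

theorem K_le_Gam {N : Subgroup G} {b : ℕ} (hb : 1 ≤ b) (h : N ≤ Gam b) :
    ∀ s, K N s ≤ Gam (b + s) := by
  obtain ⟨k, rfl⟩ : ∃ k, b = k + 1 := ⟨b - 1, by omega⟩
  intro s
  induction s with
  | zero => exact h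
  | succ s ih =>
    have e : k + 1 + s = (k + s) + 1 := by omega
    rw [e] at ih
    have e2 : k + 1 + (s + 1) = (k + s + 1) + 1 := by omega
    rw [e2]
    exact Subgroup.commutator_mono ih le_rfl

theorem Gam_succ_le (k : ℕ) : (Gam (k + 1) : Subgroup G) ≤ Gam k := by
  cases k with
  | zero => exact le_top
  | succ k => exact K_succ_le (⊤ : Subgroup G) k

theorem K_top_eq (n : ℕ) : K (⊤ : Subgroup G) n = (⊤ : Subgroup G).lowerCentralSeries n := by
  induction n with
  | zero => rfl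
  | succ n ih =>
    change ⁅K (⊤ : Subgroup G) n, (⊤ : Subgroup G)⁆ = _
    rw [ih]
    rfl

section pgroup

variable {p : ℕ} [Fact p.Prime] [Finite G]

theorem card_step (hG : IsPGroup p G) {A B : Subgroup G} (h : A ≤ B) (hne : A ≠ B) :
    p * Nat.card A ≤ Nat.card B := by
  obtain ⟨a, ha⟩ := (hG.to_subgroup A).exists_card_eq
  obtain ⟨b, hb⟩ := (hG.to_subgroup B).exists_card_eq
  have hd : Nat.card A ∣ Nat.card B := Subgroup.card_dvd_of_le h
  have hp : 1 < p := (Fact.out : p.Prime).one_lt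
  rw [ha, hb] at hd ⊢
  have hle := (Nat.pow_dvd_pow_iff_le_right hp).1 hd
  rcases hle.lt_or_eq with h1 | h1
  · calc p * p ^ a = p ^ (a + 1) := by ring
      _ ≤ p ^ b := Nat.pow_le_pow_right hp.le h1
  · exfalso
    apply hne
    exact Subgroup.eq_of_le_of_card_ge h (by rw [ha, hb, h1])

theorem K_strict (hG : IsPGroup p G) (N : Subgroup G) [N.Normal] {s : ℕ} (hs : K N s ≠ ⊥) :
    K N (s + 1) ≠ K N s := by
  intro h
  have hn : Group.IsNilpotent G := hG.isNilpotent
  obtain ⟨c, hc⟩ := (nilpotent_iff_lowerCentralSeries (G := G)).1 hn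
  have hall : ∀ j, K N (s + j) = K N s := by
    intro j
    induction j with
    | zero => rfl
    | succ j ih =>
      have e : K N (s + (j + 1)) = ⁅K N (s + j), (⊤ : Subgroup G)⁆ := rfl
      rw [e, ih]
      exact h
  apply hs
  rw [← hall c]
  have h1 : K N (s + c) ≤ K (⊤ : Subgroup G) (s + c) := K_mono le_top _
  have h2 : K (⊤ : Subgroup G) (s + c) ≤ K (⊤ : Subgroup G) c :=
    K_antitone (⊤ : Subgroup G) (by omega)
  have h3 : K (⊤ : Subgroup G) c = ⊥ := by rw [K_top_eq]; exact hc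
  exact le_bot_iff.1 (h1.trans (h2.trans h3.le))

theorem chain (hG : IsPGroup p G) (N : Subgroup G) [N.Normal] (s : ℕ) :
    ∀ t, K N (s + t) ≠ ⊥ → p ^ t * Nat.card (K N (s + t)) ≤ Nat.card (K N s) := by
  intro t
  induction t with
  | zero => intro _; simp
  | succ t ih =>
    intro h
    have h0 : K N (s + t) ≠ ⊥ := by
      intro h1
      apply h
      exact le_bot_iff.1 ((K_succ_le N (s + t)).trans h1.le)
    have h1 := ih h0
    have h2 := card_step hG (K_succ_le N (s + t)) (K_strict hG N h0)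
    calc p ^ (t + 1) * Nat.card (K N (s + (t + 1)))
        = p ^ t * (p * Nat.card (K N (s + t + 1))) := by
          rw [show s + (t + 1) = s + t + 1 from rfl]; ring
      _ ≤ p ^ t * Nat.card (K N (s + t)) := Nat.mul_le_mul_left _ h2
      _ ≤ _ := h1

end pgroup

theorem comm_closure {C : Subgroup G} [C.Normal] {S : Set G}
    (h : ∀ u ∈ S, ∀ v ∈ S, ⁅u, v⁆ ∈ C) : ⁅Subgroup.closure S, Subgroup.closure S⁆ ≤ C := by
  rw [← QuotientGroup.ker_mk' C, ← Subgroup.map_eq_bot_iff, Subgroup.map_commutator,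
    MonoidHom.map_closure]
  have hc : IsMulCommutative (Subgroup.closure ((QuotientGroup.mk' C) '' S)) := by
    apply Subgroup.isMulCommutative_closure
    rintro _ ⟨u, hu, rfl⟩ _ ⟨v, hv, rfl⟩
    have h1 := h u hu v hv
    have h2 : (QuotientGroup.mk' C) ⁅u, v⁆ = 1 := by
      rw [← MonoidHom.mem_ker, QuotientGroup.ker_mk']; exact h1
    rw [map_commutatorElement, commutatorElement_eq_one_iff_mul_comm] at h2
    exact h2
  exact Subgroup.commutator_self_eq_bot_iff.2 hc

theorem comm_gen {N A T : Subgroup G} [hT : T.Normal] {x y : G} (hx : x ∈ N) (hy : y ∈ N)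
    (hA : A ≤ N) (hN : N ≤ Subgroup.closure ({x, y} ∪ (A : Set G)))
    (hAT : ⁅A, N⁆ ≤ T) (hC : ∀ g : G, ⁅g, ⁅x, y⁆⁆ ∈ T) :
    ⁅N, N⁆ ≤ Subgroup.zpowers ⁅x, y⁆ ⊔ T := by
  set c := ⁅x, y⁆ with hc
  set C := Subgroup.zpowers c ⊔ T with hCdef
  have hTC : T ≤ C := le_sup_right
  have hcC : c ∈ C := (le_sup_left : Subgroup.zpowers c ≤ C) (Subgroup.mem_zpowers c)
  have hCn : C.Normal := by
    refine ⟨fun u hu g => ?_⟩
    have h1 : Subgroup.zpowers c ≤ C.comap (MulAut.conj g).toMonoidHom := by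
      rw [Subgroup.zpowers_le]
      change g * c * g⁻¹ ∈ C
      have h2 : g * c * g⁻¹ = ⁅g, c⁆ * c := by
        simp [commutatorElement_def]
      rw [h2]
      exact C.mul_mem (hTC (hC g)) hcC
    have h3 : T ≤ C.comap (MulAut.conj g).toMonoidHom := by
      intro t ht
      exact hTC (hT.conj_mem t ht g)
    exact (sup_le h1 h3 : C ≤ C.comap (MulAut.conj g).toMonoidHom) hu
  have hgen : ∀ u ∈ ({x, y} ∪ (A : Set G) : Set G), ∀ v ∈ ({x, y} ∪ (A : Set G) : Set G),
      ⁅u, v⁆ ∈ C := by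
    have hAN : ∀ a ∈ A, ∀ n ∈ N, ⁅a, n⁆ ∈ C := fun a ha n hn =>
      hTC (hAT (Subgroup.commutator_mem_commutator ha hn))
    have hNA : ∀ a ∈ A, ∀ n ∈ N, ⁅n, a⁆ ∈ C := fun a ha n hn => by
      rw [← commutatorElement_inv]
      exact C.inv_mem (hAN a ha n hn)
    rintro u (hu | hu) v (hv | hv)
    · rcases hu with rfl | hu
      · rcases hv with rfl | hv
        · rw [commutatorElement_self]; exact C.one_mem
        · rw [Set.mem_singleton_iff.1 hv]; exact hcC
      · rw [Set.mem_singleton_iff.1 hu]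
        rcases hv with rfl | hv
        · rw [← commutatorElement_inv]; exact C.inv_mem hcC
        · rw [Set.mem_singleton_iff.1 hv, commutatorElement_self]; exact C.one_mem
    · rcases hu with rfl | hu
      · exact hNA v hv _ hx
      · rw [Set.mem_singleton_iff.1 hu]; exact hNA v hv _ hy
    · rcases hv with rfl | hv
      · exact hAN u hu _ hx
      · rw [Set.mem_singleton_iff.1 hv]; exact hAN u hu _ hy
    · exact hAN u hu v (hA hv)
  exact (Subgroup.commutator_mono hN hN).trans (comm_closure hgen)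

/-- `X / [X, G]` is "cyclic". -/
def Cyc (X : Subgroup G) : Prop :=
  ∃ c ∈ X, X ≤ Subgroup.zpowers c ⊔ ⁅X, (⊤ : Subgroup G)⁆

variable {p : ℕ} [Fact p.Prime] [Finite G]

theorem level (hG : IsPGroup p G) (N : Subgroup G) [hNn : N.Normal] {b : ℕ} (hb : 1 ≤ b)
    (hNb : N ≤ Gam b) (hM : ⁅N, N⁆ ≠ ⊥) :
    (Cyc N → ⁅N, N⁆ ≤ Gam (2 * b + 1) ∧ p ^ (b + 1) * Nat.card ↥⁅N, N⁆ ≤ Nat.card N) ∧
    (¬ Cyc N → ⁅N, N⁆ ≤ Gam (2 * b) ∧
      (p ^ (b + 2) * Nat.card ↥⁅N, N⁆ ≤ Nat.card N ∨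
        (p ^ (b + 1) * Nat.card ↥⁅N, N⁆ ≤ Nat.card N ∧ Cyc ⁅N, N⁆))) := by
  have hp : 1 < p := (Fact.out : p.Prime).one_lt
  have hcomm : ∀ s, ⁅K N s, N⁆ ≤ K N (s + b) := fun s =>
    (Subgroup.commutator_mono le_rfl hNb).trans (comm_Gam N s hb)
  have hMb : ⁅N, N⁆ ≤ K N b := by
    have := hcomm 0
    rwa [Nat.zero_add] at this
  have hne_of : ∀ t, ⁅N, N⁆ ≤ K N t → K N t ≠ ⊥ := fun t h h0 =>
    hM (le_bot_iff.1 (h.trans h0.le))
  have hN0 : N ≠ ⊥ := by
    intro h
    apply hM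
    rw [h]
    exact Subgroup.commutator_bot_left _
  have hK1lt : K N 1 ≠ N := K_strict hG N (s := 0) hN0
  have hK1le : K N 1 ≤ N := K_succ_le N 0
  constructor
  · rintro ⟨c, hc, hNc⟩
    have hT : (K N (b + 1)).Normal := K_normal N _
    have hgen : N ≤ Subgroup.closure ({c, c} ∪ (K N 1 : Set (G))) := by
      refine hNc.trans (sup_le ?_ ?_)
      · rw [Subgroup.zpowers_le]
        exact Subgroup.subset_closure (Or.inl (Or.inl rfl))
      · intro u hu
        exact Subgroup.subset_closure (Or.inr hu)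
    have hAT : ⁅K N 1, N⁆ ≤ K N (b + 1) := by
      have := hcomm 1
      rwa [Nat.add_comm] at this
    have h1 := comm_gen (T := K N (b + 1)) hc hc hK1le hgen hAT (by
      intro g
      rw [commutatorElement_self, commutatorElement_one_right]
      exact Subgroup.one_mem _)
    rw [commutatorElement_self, Subgroup.zpowers_one_eq_bot, bot_sup_eq] at h1
    constructor
    · have := K_le_Gam hb hNb (b + 1)
      have e : b + (b + 1) = 2 * b + 1 := by omega
      rw [e] at this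
      exact h1.trans this
    · have h2 := chain hG N 0 (b + 1) (by rw [Nat.zero_add]; exact hne_of _ h1)
      rw [Nat.zero_add] at h2
      have h3 : Nat.card ↥⁅N, N⁆ ≤ Nat.card (K N (b + 1)) := Subgroup.card_le_of_le h1
      exact (Nat.mul_le_mul_left _ h3).trans h2
  · intro hcyc
    refine ⟨?_, ?_⟩
    · have := K_le_Gam hb hNb b
      have e : b + b = 2 * b := by omega
      rw [e] at this
      exact hMb.trans this
    -- the two extra elements
    obtain ⟨x, hxN, hx1⟩ : ∃ x ∈ N, x ∉ K N 1 := by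
      by_contra hcon
      push_neg at hcon
      exact hK1lt (le_antisymm hK1le hcon)
    set X₁ := Subgroup.zpowers x ⊔ K N 1 with hX₁
    have hX₁le : X₁ ≤ N := sup_le (by rw [Subgroup.zpowers_le]; exact hxN) hK1le
    have hK1X₁ : K N 1 ≤ X₁ := le_sup_right
    have hxX₁ : x ∈ X₁ := (le_sup_left : Subgroup.zpowers x ≤ X₁) (Subgroup.mem_zpowers x)
    have hX₁ne : K N 1 ≠ X₁ := fun h => hx1 (h ▸ hxX₁)
    have hX₁N : X₁ ≠ N := by
      intro h
      apply hcyc
      refine ⟨x, hxN, ?_⟩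
      rw [← h]
      exact (le_of_eq rfl : X₁ ≤ Subgroup.zpowers x ⊔ K N 1).trans (by rw [h]; exact le_rfl)
    obtain ⟨y, hyN, hy1⟩ : ∃ y ∈ N, y ∉ X₁ := by
      by_contra hcon
      push_neg at hcon
      exact hX₁N (le_antisymm hX₁le hcon)
    set X₂ := X₁ ⊔ Subgroup.zpowers y with hX₂
    have hX₂le : X₂ ≤ N := sup_le hX₁le (by rw [Subgroup.zpowers_le]; exact hyN)
    have hX₁X₂ : X₁ ≤ X₂ := le_sup_left
    have hyX₂ : y ∈ X₂ := (le_sup_right : Subgroup.zpowers y ≤ X₂) (Subgroup.mem_zpowers y)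
    have hX₂ne : X₁ ≠ X₂ := fun h => hy1 (h ▸ hyX₂)
    have hc1 := card_step hG hK1X₁ hX₁ne
    have hc2 := card_step hG hX₁X₂ hX₂ne
    have hc3 := card_step hG hX₁le hX₁N
    obtain ⟨d, rfl⟩ : ∃ d, b = d + 1 := ⟨b - 1, by omega⟩
    have hc4 := chain hG N 1 d (by rw [Nat.add_comm]; exact hne_of _ hMb)
    rw [Nat.add_comm 1 d] at hc4
    have hc5 : Nat.card ↥⁅N, N⁆ ≤ Nat.card (K N (d + 1)) := Subgroup.card_le_of_le hMb
    set mM := Nat.card ↥⁅N, N⁆ with hmM
    set mK := Nat.card (K N (d + 1)) with hmK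
    set m1 := Nat.card (K N 1) with hm1
    set mX₁ := Nat.card X₁ with hmX₁
    set mX₂ := Nat.card X₂ with hmX₂
    set mN := Nat.card N with hmN
    have hpd : 0 < p ^ d := pow_pos (by omega) d
    have hmain1 : p ^ (d + 2) * mK ≤ mN := by
      calc p ^ (d + 2) * mK = p * (p * (p ^ d * mK)) := by ring
        _ ≤ p * (p * m1) := by gcongr
        _ ≤ p * mX₁ := by gcongr
        _ ≤ mN := hc3
    by_cases hfin : p ^ (d + 1 + 2) * mM ≤ mN
    · exact Or.inl hfin
    right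
    constructor
    · calc p ^ (d + 1 + 1) * mM ≤ p ^ (d + 2) * mK := by
            rw [show d + 1 + 1 = d + 2 from rfl]; gcongr
        _ ≤ mN := hmain1
    -- the structure in the extremal case
    have hMeq : ⁅N, N⁆ = K N (d + 1) := by
      by_contra hne
      have := card_step hG hMb hne
      apply hfin
      calc p ^ (d + 1 + 2) * mM = p ^ (d + 2) * (p * mM) := by ring
        _ ≤ p ^ (d + 2) * mK := by gcongr
        _ ≤ mN := hmain1
    have hX₂eq : X₂ = N := by
      by_contra hne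
      have h4 := card_step hG hX₂le hne
      apply hfin
      calc p ^ (d + 1 + 2) * mM ≤ p ^ (d + 1 + 2) * mK := by gcongr
        _ = p * (p * (p * (p ^ d * mK))) := by ring
        _ ≤ p * (p * (p * m1)) := by gcongr
        _ ≤ p * (p * mX₁) := by gcongr
        _ ≤ p * mX₂ := by gcongr
        _ ≤ mN := h4
    have hT : (K N (d + 1 + 1)).Normal := K_normal N _
    have hgen : N ≤ Subgroup.closure ({x, y} ∪ (K N 1 : Set (G))) := by
      refine hX₂eq.ge.trans ?_
      refine sup_le (sup_le ?_ ?_) ?_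
      · rw [Subgroup.zpowers_le]
        exact Subgroup.subset_closure (Or.inl (Or.inl rfl))
      · intro u hu
        exact Subgroup.subset_closure (Or.inr hu)
      · rw [Subgroup.zpowers_le]
        exact Subgroup.subset_closure (Or.inl (Or.inr rfl))
    have hAT : ⁅K N 1, N⁆ ≤ K N (d + 1 + 1) := by
      have := hcomm 1
      rwa [Nat.add_comm] at this
    have hcM : ⁅x, y⁆ ∈ ⁅N, N⁆ := Subgroup.commutator_mem_commutator hxN hyN
    have h1 := comm_gen (T := K N (d + 1 + 1)) hxN hyN hK1le hgen hAT (by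
      intro g
      have h2 : ⁅x, y⁆ ∈ K N (d + 1) := hMb hcM
      have h3 : ⁅g, ⁅x, y⁆⁆ ∈ ⁅(⊤ : Subgroup G), K N (d + 1)⁆ :=
        Subgroup.commutator_mem_commutator (Subgroup.mem_top g) h2
      rw [Subgroup.commutator_comm] at h3
      exact h3)
    refine ⟨⁅x, y⁆, hcM, ?_⟩
    have e : ⁅(⁅N, N⁆ : Subgroup G), (⊤ : Subgroup G)⁆ = K N (d + 1 + 1) := by
      rw [hMeq]; rfl
    rw [e]
    exact h1

/-- The main induction. -/
theorem inv_main (hG : IsPGroup p G) (k : ℕ) (hk : derivedSeries G k ≠ ⊥) :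
    ∃ e b, derivedSeries G k ≤ Gam b ∧ 1 ≤ b ∧
      p ^ e * Nat.card (derivedSeries G k) ≤ Nat.card G ∧
      ((2 ^ k ≤ b ∧ 2 ^ k + 2 * k ≤ e + 1) ∨
       (2 ^ k ≤ b ∧ 2 ^ k + 2 * k ≤ e + 2 ∧ Cyc (derivedSeries G k)) ∨
       (2 ^ k + 1 ≤ b ∧ 2 ^ k + 2 * k ≤ e + 3)) := by
  induction k with
  | zero =>
    refine ⟨0, 1, ?_, le_rfl, ?_, Or.inl ⟨by simp, by simp⟩⟩
    · rw [derivedSeries_zero]; exact le_top
    · rw [derivedSeries_zero, Nat.card_congr (Subgroup.topEquiv (G := G)).toEquiv]; simp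
  | succ i ih =>
    have hi : derivedSeries G i ≠ ⊥ := by
      intro h
      apply hk
      exact le_bot_iff.1 ((derivedSeries_antitone G (Nat.le_succ i)).trans h.le)
    obtain ⟨e, b, hle, hb, hcard, hcases⟩ := ih hi
    have hn : (derivedSeries G i).Normal := derivedSeries_normal G i
    have hM : ⁅derivedSeries G i, derivedSeries G i⁆ ≠ ⊥ := by
      rwa [← derivedSeries_succ]
    obtain ⟨hA, hNA⟩ := level hG (derivedSeries G i) hb hle hM
    rw [derivedSeries_succ]
    have hp : 1 < p := (Fact.out : p.Prime).one_lt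
    have hpow : 2 ^ (i + 1) = 2 * 2 ^ i := by ring
    set N := derivedSeries G i with hN
    set M := ⁅N, N⁆ with hMdef
    have hstep : ∀ a, p ^ a * Nat.card M ≤ Nat.card N → p ^ (e + a) * Nat.card M ≤ Nat.card G := by
      intro a ha
      calc p ^ (e + a) * Nat.card M = p ^ e * (p ^ a * Nat.card M) := by ring
        _ ≤ p ^ e * Nat.card N := by gcongr
        _ ≤ _ := hcard
    have hle2 : ∀ {c : ℕ}, M ≤ Gam (c + 1) → M ≤ Gam c := fun h => h.trans (Gam_succ_le _)
    by_cases hc : Cyc N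
    · obtain ⟨h1, h2⟩ := hA hc
      refine ⟨e + (b + 1), 2 * b + 1, h1, by omega, hstep _ h2, ?_⟩
      right; right
      rcases hcases with ⟨h3, h4⟩ | ⟨h3, h4, -⟩ | ⟨h3, h4⟩ <;> constructor <;> omega
    · obtain ⟨h1, h2⟩ := hNA hc
      rcases hcases with ⟨h3, h4⟩ | ⟨-, -, h5⟩ | ⟨h3, h4⟩
      · rcases h2 with h2 | ⟨h2, h5⟩
        · refine ⟨e + (b + 2), 2 * b, h1, by omega, hstep _ h2, Or.inl ?_⟩
          constructor <;> omega
        · refine ⟨e + (b + 1), 2 * b, h1, by omega, hstep _ h2, Or.inr (Or.inl ?_)⟩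
          refine ⟨by omega, by omega, h5⟩
      · exact absurd h5 hc
      · have h6 : p ^ (b + 1) * Nat.card M ≤ Nat.card N := by
          rcases h2 with h2 | ⟨h2, -⟩
          · refine le_trans ?_ h2
            gcongr
            · omega
            · omega
          · exact h2
        refine ⟨e + (b + 1), 2 * b, h1, by omega, hstep _ h6, Or.inr (Or.inr ?_)⟩
        constructor <;> omega

theorem main {n k : ℕ} (hcard : Nat.card G = p ^ n) (hk : derivedSeries G k ≠ ⊥) :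
    2 ^ k + 2 * k ≤ n + 2 := by
  have hG : IsPGroup p G := IsPGroup.of_card hcard
  obtain ⟨e, b, -, -, h1, hcases⟩ := inv_main hG k hk
  have hp : 1 < p := (Fact.out : p.Prime).one_lt
  have h2 : p * Nat.card (⊥ : Subgroup G) ≤ Nat.card (derivedSeries G k) :=
    card_step hG bot_le (Ne.symm hk)
  rw [Subgroup.card_bot, mul_one] at h2
  have h3 : p ^ (e + 1) ≤ p ^ n := by
    rw [← hcard]
    calc p ^ (e + 1) = p ^ e * p := by ring
      _ ≤ p ^ e * Nat.card (derivedSeries G k) := by gcongr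
      _ ≤ _ := h1
  have h4 : e + 1 ≤ n := (Nat.pow_le_pow_iff_right hp).1 h3
  rcases hcases with ⟨-, h5⟩ | ⟨-, h5, -⟩ | ⟨-, h5⟩ <;> omega

end Cfsg.Agent.Lib.LocalEven.DerLen
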