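import Cfsg.Agent.Lib.LocalEven.CharPFacts
import Mathlib.GroupTheory.SpecificGroups.Dihedral

/-! Groups with dihedral quotient by `O₂`. -/

namespace Cfsg.Agent.Lib.LocalEven

open Cfsg Cfsg.Agent.Lib.Basic DihedralGroup

variable {G : Type*} [Group G] {q : ℕ} [Fact q.Prime]

theorem two_ne_zero_zmod (hq : q ≠ 2) : (2 : ZMod q) ≠ 0 := by
  intro h
  have h1 : ((2 : ℕ) : ZMod q) = 0 := by exact_mod_cast h
  rw [ZMod.natCast_eq_zero_iff] at h1
  exact hq ((Nat.prime_dvd_prime_iff_eq (Fact.out) Nat.prime_two).1 h1)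

theorem dihedral_conj_sr (hq : q ≠ 2) (i j : ZMod q) :
    ∃ g : DihedralGroup q, g * sr i * g⁻¹ = sr j := by
  have h2 := two_ne_zero_zmod hq
  refine ⟨r ((i - j) / 2), ?_⟩
  rw [inv_r, r_mul_sr, sr_mul_r]
  congr 1
  field_simp
  ring

theorem S2873_main [Finite G] (hq : q ≠ 2) (Q : Subgroup G) [hQ : Q.Normal] (hQ2 : IsPGroup 2 ↥Q)
    (π : G →* DihedralGroup q) (hπs : Function.Surjective π) (hπk : ∀ x, π x = 1 ↔ x ∈ Q)
    (R : Sylow q G) (hC : Q ⊓ Subgroup.centralizer ((R : Subgroup G) : Set G) = ⊥) :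
    Nonempty (↥(Subgroup.normalizer ((R : Subgroup G) : Set G)) ≃* DihedralGroup q) ∧
      ∀ a : G, a ∈ Subgroup.normalizer ((R : Subgroup G) : Set G) → orderOf a = 2 →
        (∀ b : G, orderOf b = 2 → b ∉ Q → ∃ g : G, g * a * g⁻¹ = b) ∧
        Nat.card ↥(Q ⊓ Subgroup.centralizer ({a} : Set G)) ^ 2 = Nat.card ↥Q := by
  have hqp : q.Prime := Fact.out
  haveI : NeZero q := ⟨hqp.ne_zero⟩
  have h2 := two_ne_zero_zmod hq
  have hdvd : q ∣ Nat.card G := by
    have h1 : Nat.card (DihedralGroup q) ∣ Nat.card G := Subgroup.card_dvd_of_surjective π hπs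
    rw [DihedralGroup.nat_card] at h1
    exact (Dvd.intro_left 2 rfl).trans h1
  have hR1 : (R : Subgroup G) ≠ ⊥ := R.ne_bot_of_dvd_card hdvd
  obtain ⟨t, htR, ht1, htr⟩ := exists_order_p_of_ne_bot R.isPGroup' hR1
  have htord : orderOf t = q := orderOf_eq_prime htr ht1
  have hRQ : ∀ x ∈ (R : Subgroup G), x ∈ Q → x = 1 := by
    intro x hx hxQ
    have hd := IsPGroup.disjoint_of_ne q 2 hq (R : Subgroup G) Q R.isPGroup' hQ2
    exact Subgroup.disjoint_def.1 hd hx hxQ
  -- rotations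
  have hnsr : ∀ x ∈ (R : Subgroup G), ∃ k, π x = DihedralGroup.r k := by
    intro x hx
    obtain ⟨n, hn⟩ := R.isPGroup' ⟨x, hx⟩
    have h3 : x ^ q ^ n = 1 := congrArg Subtype.val hn
    rcases hx' : π x with k | i
    · exact ⟨k, rfl⟩
    · exfalso
      have h4 : (π x) ^ q ^ n = 1 := by rw [← map_pow, h3, map_one]
      rw [hx'] at h4
      have h5 := orderOf_dvd_of_pow_eq_one h4
      rw [DihedralGroup.orderOf_sr] at h5
      have h6 := Nat.Prime.dvd_of_dvd_pow Nat.prime_two h5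
      exact hq ((Nat.prime_dvd_prime_iff_eq Nat.prime_two hqp).1 h6).symm
  obtain ⟨k₀, hk₀⟩ := hnsr t htR
  have htQ : t ∉ Q := fun h => ht1 (hRQ t htR h)
  have hk₀0 : k₀ ≠ 0 := by
    rintro rfl
    apply htQ
    rw [← hπk, hk₀]
    rfl
  -- every rotation comes from `R`
  have hrot : ∀ k, ∃ u ∈ (R : Subgroup G), π u = DihedralGroup.r k ∧ ∃ m : ℕ, u = t ^ m := by
    intro k
    refine ⟨t ^ (k / k₀).val, R.1.pow_mem htR _, ?_, _, rfl⟩
    rw [map_pow, hk₀, DihedralGroup.r_pow]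
    congr 1
    rw [ZMod.natCast_zmod_val]
    field_simp
  -- `R` is generated by `t`
  have hRz : ∀ x ∈ (R : Subgroup G), ∃ m : ℕ, x = t ^ m := by
    intro x hx
    obtain ⟨k, hk⟩ := hnsr x hx
    obtain ⟨u, hu, hue, m, hm⟩ := hrot k
    refine ⟨m, ?_⟩
    have h3 : x * u⁻¹ = 1 := by
      apply hRQ _ (R.1.mul_mem hx (R.1.inv_mem hu))
      rw [← hπk, map_mul, map_inv, hk, hue, mul_inv_cancel]
    rw [← hm]
    exact mul_inv_eq_one.1 h3
  have hcard : Nat.card (R : Subgroup G) = q := by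
    have h3 : (R : Subgroup G) = Subgroup.zpowers t := by
      apply le_antisymm
      · intro x hx
        obtain ⟨m, rfl⟩ := hRz x hx
        exact Subgroup.pow_mem _ (Subgroup.mem_zpowers t) m
      · rw [Subgroup.zpowers_le]; exact htR
    rw [h3, Nat.card_zpowers, htord]
  -- commuting with a nontrivial element of `R`
  have hCu : ∀ u ∈ (R : Subgroup G), u ≠ 1 → ∀ x ∈ Q, x * u = u * x → x = 1 := by
    intro u hu hu1 x hx hc
    haveI : Fact (Nat.Prime (Nat.card (R : Subgroup G))) := ⟨by rw [hcard]; exact hqp⟩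
    have hzt := zpowers_eq_top_of_prime_card (p := Nat.card (R : Subgroup G)) rfl
      (g := (⟨u, hu⟩ : (R : Subgroup G))) (fun e => hu1 (congrArg Subtype.val e))
    have hall : ∀ y ∈ (R : Subgroup G), x * y = y * x := by
      intro y hy
      have h3 : (⟨y, hy⟩ : (R : Subgroup G)) ∈ Subgroup.zpowers (⟨u, hu⟩ : (R : Subgroup G)) := by
        rw [hzt]; trivial
      obtain ⟨m, hm⟩ := h3
      have h4 : u ^ m = y := congrArg Subtype.val hm
      rw [← h4]
      have h5 : Commute x u := hc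
      exact (h5.zpow_right m).eq
    have h3 : x ∈ Q ⊓ Subgroup.centralizer ((R : Subgroup G) : Set G) :=
      ⟨hx, Subgroup.mem_centralizer_iff.2 (fun y hy => (hall y hy).symm)⟩
    rw [hC] at h3
    exact Subgroup.mem_bot.1 h3
  -- conjugates fill the cosets
  have hconj : ∀ u ∈ (R : Subgroup G), u ≠ 1 → ∀ x ∈ Q, ∃ y ∈ Q, x * u = y * u * y⁻¹ := by
    intro u hu hu1
    let f : ↥Q → ↥Q := fun y => ⟨y * u * (y : G)⁻¹ * u⁻¹, by
      have e : (y : G) * u * (y : G)⁻¹ * u⁻¹ = y * (u * (y : G)⁻¹ * u⁻¹) := by group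
      rw [e]
      exact Q.mul_mem y.2 (hQ.conj_mem _ (Q.inv_mem y.2) u)⟩
    have hinj : Function.Injective f := by
      intro y y' h
      have h1 : (y : G) * u * (y : G)⁻¹ * u⁻¹ = y' * u * (y' : G)⁻¹ * u⁻¹ := congrArg Subtype.val h
      have h3 : (y : G) * u * (y : G)⁻¹ = y' * u * (y' : G)⁻¹ := mul_right_cancel h1
      have h4 : ((y' : G)⁻¹ * y) * u = u * ((y' : G)⁻¹ * y) := by
        calc ((y' : G)⁻¹ * y) * u = (y' : G)⁻¹ * ((y : G) * u * (y : G)⁻¹) * y := by group
          _ = (y' : G)⁻¹ * (y' * u * (y' : G)⁻¹) * y := by rw [h3]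
          _ = u * ((y' : G)⁻¹ * y) := by group
      have h5 := hCu u hu hu1 _ (Q.mul_mem (Q.inv_mem y'.2) y.2) h4
      apply Subtype.ext
      have := inv_mul_eq_one.1 h5
      exact this.symm
    have hsurj : Function.Surjective f := Finite.injective_iff_surjective.1 hinj
    intro x hx
    obtain ⟨y, hy⟩ := hsurj ⟨x, hx⟩
    refine ⟨y, y.2, ?_⟩
    have h1 : (y : G) * u * (y : G)⁻¹ * u⁻¹ = x := congrArg Subtype.val hy
    rw [← h1]
    group
  -- the normalizer
  set N := Subgroup.normalizer ((R : Subgroup G) : Set G) with hN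
  have hNmem : ∀ n : G, n * t * n⁻¹ ∈ (R : Subgroup G) → n ∈ N := by
    intro n hn
    apply mem_normalizer_of_cj_eq
    have hle : cj n (R : Subgroup G) ≤ R := by
      rintro _ ⟨x, hx, rfl⟩
      obtain ⟨m, rfl⟩ := hRz x hx
      have : n * t ^ m * n⁻¹ = (n * t * n⁻¹) ^ m := by rw [conj_pow]
      simp only [MulEquiv.coe_toMonoidHom, MulAut.conj_apply]
      rw [this]
      exact R.1.pow_mem hn _
    exact Subgroup.eq_of_le_of_card_ge hle (by rw [card_cj])
  have hNQ : ∀ x ∈ N, x ∈ Q → x = 1 := by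
    intro x hxN hxQ
    apply hCu t htR ht1 x hxQ
    have h3 : x * t * x⁻¹ ∈ (R : Subgroup G) := (Subgroup.mem_normalizer_iff.1 hxN t).1 htR
    have h4 : x * t * x⁻¹ * t⁻¹ = 1 := by
      apply hRQ _ (R.1.mul_mem h3 (R.1.inv_mem htR))
      have e : x * t * x⁻¹ * t⁻¹ = x * (t * x⁻¹ * t⁻¹) := by group
      rw [e]
      exact Q.mul_mem hxQ (hQ.conj_mem _ (Q.inv_mem hxQ) t)
    have h5 : x * t * x⁻¹ = t := mul_inv_eq_one.1 h4
    exact mul_inv_eq_iff_eq_mul.1 h5
  -- the map from `N` is onto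
  have hNs : ∀ g : G, ∃ y ∈ Q, ∃ n ∈ N, g = y * n := by
    intro g
    have h3 : ∃ k, k ≠ 0 ∧ π (g * t * g⁻¹) = DihedralGroup.r k := by
      rw [map_mul, map_mul, map_inv, hk₀]
      rcases π g with l | l
      · refine ⟨k₀, hk₀0, ?_⟩
        simp [r_mul_r, inv_r]
      · refine ⟨-k₀, neg_ne_zero.2 hk₀0, ?_⟩
        simp [sr_mul_r, inv_sr, sr_mul_sr]
    obtain ⟨k, hk0, hk⟩ := h3
    obtain ⟨u, hu, hue, -⟩ := hrot k
    have hu1 : u ≠ 1 := by
      rintro rfl
      rw [map_one] at hue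
      exact hk0 (by
        have := hue.symm
        rw [DihedralGroup.one_def] at this
        exact DihedralGroup.r.inj this)
    have hxQ : g * t * g⁻¹ * u⁻¹ ∈ Q := by
      rw [← hπk, map_mul, map_inv, hk, hue, mul_inv_cancel]
    obtain ⟨y, hy, hye⟩ := hconj u hu hu1 _ hxQ
    rw [inv_mul_cancel_right] at hye
    refine ⟨y, hy, y⁻¹ * g, hNmem _ ?_, by group⟩
    have e : y⁻¹ * g * t * (y⁻¹ * g)⁻¹ = y⁻¹ * (g * t * g⁻¹) * y := by group
    rw [e, hye]
    have e2 : y⁻¹ * (y * u * y⁻¹) * y = u := by group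
    rw [e2]
    exact hu
  have hNsurj : ∀ d : DihedralGroup q, ∃ n ∈ N, π n = d := by
    intro d
    obtain ⟨g, rfl⟩ := hπs d
    obtain ⟨y, hy, n, hn, rfl⟩ := hNs g
    refine ⟨n, hn, ?_⟩
    rw [map_mul, (hπk y).2 hy, one_mul]
  -- involutions of `N`
  have hNinv : ∀ a ∈ N, orderOf a = 2 → a * t * a⁻¹ = t⁻¹ := by
    intro a ha ha2
    have haQ : a ∉ Q := by
      intro h
      have := hNQ a ha h
      rw [this, orderOf_one] at ha2
      norm_num at ha2
    have h3 : a * t * a⁻¹ ∈ (R : Subgroup G) := (Subgroup.mem_normalizer_iff.1 ha t).1 htR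
    have h4 : a ^ 2 = 1 := by rw [← ha2]; exact pow_orderOf_eq_one a
    have h5 : π a * π a = 1 := by rw [← map_mul, ← pow_two, h4, map_one]
    have h6 : ∃ i, π a = sr i := by
      rcases hx' : π a with k | i
      · exfalso
        rw [hx', r_mul_r] at h5
        have h7 : k + k = 0 := DihedralGroup.r.inj (h5.trans DihedralGroup.one_def)
        have h8 : k = 0 := by
          have : (2 : ZMod q) * k = 0 := by rw [two_mul]; exact h7
          exact (mul_eq_zero.1 this).resolve_left h2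
        apply haQ
        rw [← hπk, hx', h8]
        rfl
      · exact ⟨i, rfl⟩
    obtain ⟨i, hi⟩ := h6
    have h7 : a * t * a⁻¹ * t = 1 := by
      apply hRQ _ (R.1.mul_mem h3 htR)
      rw [← hπk, map_mul, map_mul, map_mul, map_inv, hi, hk₀, inv_sr, sr_mul_r, sr_mul_sr, r_mul_r]
      rw [show i - (i + k₀) + k₀ = 0 by ring]
      rfl
    exact eq_inv_of_mul_eq_one_left h7
  -- the key step
  have hkey : ∀ a' ∈ N, orderOf a' = 2 → ∀ b : G, orderOf b = 2 → π b = π a' →
      ∃ y ∈ Q, b = y * a' * y⁻¹ ∧ y * (a' * t) = (a' * t) * y := by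
    intro a' ha' ha'2 b hb2 hbe
    have ha'p : a' ^ 2 = 1 := by rw [← ha'2]; exact pow_orderOf_eq_one a'
    have ha'i : a'⁻¹ = a' := by rw [inv_eq_iff_mul_eq_one, ← pow_two, ha'p]
    have hbp : b ^ 2 = 1 := by rw [← hb2]; exact pow_orderOf_eq_one b
    have hbi : b⁻¹ = b := by rw [inv_eq_iff_mul_eq_one, ← pow_two, hbp]
    set a₂ := a' * t with ha₂
    have ha₂N : a₂ ∈ N := N.mul_mem ha' (Subgroup.le_normalizer htR)
    have ha₂p : a₂ * a₂ = 1 := by
      have h3 := hNinv a' ha' ha'2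
      rw [ha'i] at h3
      rw [ha₂]
      calc a' * t * (a' * t) = (a' * t * a') * t := by group
        _ = 1 := by rw [h3]; group
    have hxQ : b * a' ∈ Q := by
      rw [← hπk, map_mul, hbe, ← map_mul, ← pow_two, ha'p, map_one]
    obtain ⟨y, hy, hye⟩ := hconj t htR ht1 _ hxQ
    have hπy : π y = 1 := (hπk y).2 hy
    set c := y⁻¹ * b * y with hc
    set c₂ := y⁻¹ * a₂ * y with hc₂
    have hcc : c * c₂ = t := by
      calc c * c₂ = y⁻¹ * (b * (a' * t)) * y := by rw [hc, hc₂, ha₂]; group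
        _ = y⁻¹ * ((b * a') * t) * y := by group
        _ = t := by rw [hye]; group
    have hcp : c * c = 1 := by
      have : b * b = 1 := by rw [← pow_two, hbp]
      calc c * c = y⁻¹ * (b * b) * y := by rw [hc]; group
        _ = 1 := by rw [this]; group
    have hc₂p : c₂ * c₂ = 1 := by
      calc c₂ * c₂ = y⁻¹ * (a₂ * a₂) * y := by rw [hc₂]; group
        _ = 1 := by rw [ha₂p]; group
    have hcinv : c⁻¹ = c := inv_eq_of_mul_eq_one_left hcp
    have hc₂inv : c₂⁻¹ = c₂ := inv_eq_of_mul_eq_one_left hc₂p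
    have htinv : t⁻¹ = c₂ * c := by
      rw [← hcc, mul_inv_rev, hcinv, hc₂inv]
    have hcN : c ∈ N := by
      apply hNmem
      have : c * t * c⁻¹ = t⁻¹ := by
        rw [hcinv, htinv]
        calc c * t * c = c * (c * c₂) * c := by rw [hcc]
          _ = (c * c) * c₂ * c := by group
          _ = c₂ * c := by rw [hcp]; group
      rw [this]
      exact R.1.inv_mem htR
    have hc₂N : c₂ ∈ N := by
      apply hNmem
      have : c₂ * t * c₂⁻¹ = t⁻¹ := by
        rw [hc₂inv, htinv]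
        calc c₂ * t * c₂ = c₂ * (c * c₂) * c₂ := by rw [hcc]
          _ = c₂ * c * (c₂ * c₂) := by group
          _ = c₂ * c := by rw [hc₂p]; group
      rw [this]
      exact R.1.inv_mem htR
    have hca : c = a' := by
      have h3 : c * a'⁻¹ = 1 := by
        apply hNQ _ (N.mul_mem hcN (N.inv_mem ha'))
        rw [← hπk, map_mul, map_inv, hc, map_mul, map_mul, map_inv, hπy, hbe]
        simp
      exact mul_inv_eq_one.1 h3
    have hca₂ : c₂ = a₂ := by
      have h3 : c₂ * a₂⁻¹ = 1 := by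
        apply hNQ _ (N.mul_mem hc₂N (N.inv_mem ha₂N))
        rw [← hπk, map_mul, map_inv, hc₂, map_mul, map_mul, map_inv, hπy]
        simp
      exact mul_inv_eq_one.1 h3
    refine ⟨y, hy, ?_, ?_⟩
    · rw [← hca, hc]; group
    · have h3 : y⁻¹ * a₂ * y = a₂ := hca₂
      calc y * a₂ = y * (y⁻¹ * a₂ * y) := by rw [h3]
        _ = a₂ * y := by group
  constructor
  · refine ⟨(MulEquiv.ofBijective (π.comp N.subtype) ⟨?_, ?_⟩)⟩
    · rw [injective_iff_map_eq_one]
      intro x hx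
      apply Subtype.ext
      exact hNQ x x.2 ((hπk x).1 hx)
    · intro d
      obtain ⟨n, hn, hnd⟩ := hNsurj d
      exact ⟨⟨n, hn⟩, hnd⟩
  · intro a ha ha2
    have hsr : ∀ x : G, x ^ 2 = 1 → x ∉ Q → ∃ i, π x = sr i := by
      intro x hx hxQ
      have h5 : π x * π x = 1 := by rw [← map_mul, ← pow_two, hx, map_one]
      rcases hx' : π x with k | i
      · exfalso
        rw [hx', r_mul_r] at h5
        have h7 : k + k = 0 := DihedralGroup.r.inj (h5.trans DihedralGroup.one_def)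
        have h8 : k = 0 := by
          have : (2 : ZMod q) * k = 0 := by rw [two_mul]; exact h7
          exact (mul_eq_zero.1 this).resolve_left h2
        apply hxQ
        rw [← hπk, hx', h8]
        rfl
      · exact ⟨i, rfl⟩
    have hap : a ^ 2 = 1 := by rw [← ha2]; exact pow_orderOf_eq_one a
    have haQ : a ∉ Q := by
      intro h
      have := hNQ a ha h
      rw [this, orderOf_one] at ha2
      norm_num at ha2
    obtain ⟨i, hi⟩ := hsr a hap haQ
    have hconjall : ∀ b : G, orderOf b = 2 → b ∉ Q → ∃ g : G, g * a * g⁻¹ = b := by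
      intro b hb2 hbQ
      have hbp : b ^ 2 = 1 := by rw [← hb2]; exact pow_orderOf_eq_one b
      obtain ⟨j, hj⟩ := hsr b hbp hbQ
      obtain ⟨g₀, hg₀⟩ := dihedral_conj_sr hq i j
      obtain ⟨n, hn, hng⟩ := hNsurj g₀
      have ha'N : n * a * n⁻¹ ∈ N := N.mul_mem (N.mul_mem hn ha) (N.inv_mem hn)
      have ha'2 : orderOf (n * a * n⁻¹) = 2 := by rw [← ha2]; exact orderOf_conj_eq n a
      obtain ⟨y, hy, hby, -⟩ := hkey _ ha'N ha'2 b hb2 (by
        rw [hj, map_mul, map_mul, map_inv, hi, hng, hg₀])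
      refine ⟨y * n, ?_⟩
      rw [hby]
      group
    refine ⟨hconjall, ?_⟩
    -- the count
    set a₂ := a * t with ha₂
    have hai : a⁻¹ = a := by rw [inv_eq_iff_mul_eq_one, ← pow_two, hap]
    have ha₂p : a₂ ^ 2 = 1 := by
      have h3 := hNinv a ha ha2
      rw [hai] at h3
      rw [pow_two, ha₂]
      calc a * t * (a * t) = (a * t * a) * t := by group
        _ = 1 := by rw [h3]; group
    have ha₂1 : a₂ ≠ 1 := by
      intro e
      have h3 : π a₂ = π a * π t := map_mul _ _ _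
      rw [e, map_one, hi, hk₀, sr_mul_r] at h3
      exact absurd h3 (fun e => by rw [DihedralGroup.one_def] at e; cases e)
    have ha₂o : orderOf a₂ = 2 := orderOf_eq_prime ha₂p ha₂1
    have ha₂Q : a₂ ∉ Q := by
      intro h
      have h3 : π a₂ = π a * π t := map_mul _ _ _
      rw [(hπk _).2 h, hi, hk₀, sr_mul_r] at h3
      exact absurd h3 (fun e => by rw [DihedralGroup.one_def] at e; cases e)
    obtain ⟨g, hg⟩ := hconjall a₂ ha₂o ha₂Q
    set C₁ := Q ⊓ Subgroup.centralizer ({a} : Set G) with hC₁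
    set C₂ := Q ⊓ Subgroup.centralizer ({a₂} : Set G) with hC₂
    have hC₂eq : C₂ = cj g C₁ := by
      rw [hC₂, hC₁, ← hg, centralizer_conj_eq]
      ext x
      constructor
      · rintro ⟨hx, hx2⟩
        refine ⟨g⁻¹ * x * g, ⟨?_, ?_⟩, by
          simp only [MulEquiv.coe_toMonoidHom, MulAut.conj_apply]
          group⟩
        · have := hQ.conj_mem x hx g⁻¹
          simpa using this
        · exact mem_cj.1 hx2
      · rintro ⟨z, ⟨hz1, hz2⟩, rfl⟩
        exact ⟨hQ.conj_mem z hz1 g, conj_mem_cj hz2⟩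
    have hcardeq : Nat.card C₂ = Nat.card C₁ := by rw [hC₂eq]; exact card_cj g C₁
    let f : ↥C₂ × ↥C₁ → ↥Q := fun p => ⟨(p.1 : G) * p.2, Q.mul_mem p.1.2.1 p.2.2.1⟩
    have hbij : Function.Bijective f := by
      constructor
      · rintro ⟨u, v⟩ ⟨u', v'⟩ h
        have h1 : (u : G) * v = u' * v' := congrArg Subtype.val h
        have h3 : (u' : G)⁻¹ * u = v' * (v : G)⁻¹ := by
          calc (u' : G)⁻¹ * u = (u' : G)⁻¹ * ((u : G) * v) * (v : G)⁻¹ := by group
            _ = (u' : G)⁻¹ * (u' * v') * (v : G)⁻¹ := by rw [h1]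
            _ = v' * (v : G)⁻¹ := by group
        set w := (u' : G)⁻¹ * u with hw
        have hwC₂ : w ∈ C₂ := C₂.mul_mem (C₂.inv_mem u'.2) u.2
        have hwC₁ : w ∈ C₁ := by
          rw [h3]; exact C₁.mul_mem v'.2 (C₁.inv_mem v.2)
        have hw1 : w * a = a * w := (Subgroup.mem_centralizer_singleton_iff.1 hwC₁.2)
        have hw2 : w * a₂ = a₂ * w := (Subgroup.mem_centralizer_singleton_iff.1 hwC₂.2)
        have hw3 : w * t = t * w := by
          have e1 : t = a⁻¹ * a₂ := by rw [ha₂]; group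
          have hw1' : Commute w a := hw1
          have hw2' : Commute w a₂ := hw2
          have : Commute w (a⁻¹ * a₂) := hw1'.inv_right.mul_right hw2'
          rw [e1]
          exact this.eq
        have hw0 := hCu t htR ht1 w hwC₂.1 hw3
        have hu : (u : G) = u' := by
          have := inv_mul_eq_one.1 hw0
          exact this.symm
        have hv : (v : G) = v' := by
          rw [hw0] at h3
          exact (mul_inv_eq_one.1 h3.symm).symm
        ext
        · exact hu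
        · exact hv
      · rintro ⟨x, hx⟩
        have hb2 : orderOf (x * a * x⁻¹) = 2 := by rw [← ha2]; exact orderOf_conj_eq x a
        have hbe : π (x * a * x⁻¹) = π a := by
          rw [map_mul, map_mul, map_inv, (hπk x).2 hx]
          simp
        obtain ⟨y, hy, hby, hyc⟩ := hkey a ha ha2 _ hb2 hbe
        have hvC : y⁻¹ * x ∈ C₁ := by
          refine ⟨Q.mul_mem (Q.inv_mem hy) hx, ?_⟩
          apply Subgroup.mem_centralizer_singleton_iff.2
          calc y⁻¹ * x * a = y⁻¹ * (x * a * x⁻¹) * x := by group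
            _ = y⁻¹ * (y * a * y⁻¹) * x := by rw [hby]
            _ = a * (y⁻¹ * x) := by group
        have huC : y ∈ C₂ := by
          refine ⟨hy, ?_⟩
          apply Subgroup.mem_centralizer_singleton_iff.2
          exact hyc
        refine ⟨(⟨y, huC⟩, ⟨y⁻¹ * x, hvC⟩), ?_⟩
        apply Subtype.ext
        show y * (y⁻¹ * x) = x
        group
    have hc := Nat.card_congr (Equiv.ofBijective f hbij)
    rw [Nat.card_prod, hcardeq] at hc
    rw [pow_two]
    exact hc

end Cfsg.Agent.Lib.LocalEven
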