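import Mathlib
import Cfsg.Prelude.Def_Transfer
import Cfsg.Agent.Lib.Transfer.Frattini
import Cfsg.Agent.Lib.Coprime.Action
import Cfsg.Agent.Lib.Coprime.Partition

/-!
An elementary abelian group of automorphisms of order `8` of a `p`-group, `p` odd, in which
few elements have non-cyclic fixed points.
-/

set_option autoImplicit false
set_option linter.unusedSectionVars false
set_option linter.style.haveILetI false

namespace Cfsg.Agent.Lib.LocalEven.ElemAut

open scoped commutatorElement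
open Subgroup

variable {P : Type*} [Group P]

/-- A fixed point in the coset of `x`. -/
theorem exists_fixed_mul [Finite P] (hodd : Nat.Coprime 2 (Nat.card P)) (T : P →* P)
    (hT : ∀ x, T (T x) = x) (x : P) :
    ∃ w ∈ zpowers (x⁻¹ * T x), T (x * w) = x * w := by
  set z := x⁻¹ * T x with hz
  have hTz : T z = z⁻¹ := by simp [hz, hT]
  have hTx : T x = x * z := by simp [hz]
  obtain ⟨k, hk⟩ : ∃ k : ℕ, 2 * k = Nat.card P + 1 := by
    have h1 : Odd (Nat.card P) := by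
      rcases Nat.even_or_odd (Nat.card P) with h | h
      · exfalso
        have h2 := Nat.Coprime.eq_one_of_dvd hodd h.two_dvd
        omega
      · exact h
    obtain ⟨m, hm⟩ := h1
    exact ⟨m + 1, by omega⟩
  refine ⟨z ^ k, Subgroup.pow_mem _ (mem_zpowers z) k, ?_⟩
  rw [map_mul, map_pow, hTz, hTx, mul_assoc]
  congr 1
  have h2 : z ^ (2 * k) = z := by rw [hk, pow_succ, pow_card_eq_one', one_mul]
  have h3 : z ^ k * z ^ k = z := by
    rw [← pow_add, ← two_mul, h2]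
  calc z * z⁻¹ ^ k = (z ^ k * z ^ k) * z⁻¹ ^ k := by rw [h3]
    _ = z ^ k := by rw [inv_pow, mul_inv_cancel_right]

/-- An involutive endomorphism acts on an invariant cyclic `p`-subgroup by a sign. -/
theorem sign_of_mem_zpowers [Finite P] {p : ℕ} (hp : p.Prime) (hp2 : p ≠ 2) (hP : IsPGroup p P)
    (T : P →* P) (hT : ∀ x, T (T x) = x) (g : P) (h : T g ∈ zpowers g) :
    T g = g ∨ T g = g⁻¹ := by
  obtain ⟨n, hn⟩ := mem_zpowers_iff.mp h
  have h1 : g ^ (n * n) = g := by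
    have h2 := hT g
    rw [← hn, map_zpow, ← hn, ← zpow_mul] at h2
    exact h2
  haveI : Fact p.Prime := ⟨hp⟩
  obtain ⟨k, hk⟩ := (IsPGroup.iff_orderOf.mp hP) g
  have h3 : g ^ ((n - 1) * (n + 1)) = 1 := by
    have : (n - 1) * (n + 1) = n * n - 1 := by ring
    rw [this, zpow_sub, h1, zpow_one, mul_inv_cancel]
  have h4 : ((orderOf g : ℕ) : ℤ) ∣ (n - 1) * (n + 1) := orderOf_dvd_iff_zpow_eq_one.mpr h3
  by_cases hd : (p : ℤ) ∣ n - 1
  · have hnd : ¬ (p : ℤ) ∣ n + 1 := by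
      intro hd2
      have h5 : (p : ℤ) ∣ 2 := by
        have := dvd_sub hd2 hd
        have h6 : n + 1 - (n - 1) = 2 := by ring
        rwa [h6] at this
      have h6 : p ∣ 2 := by exact_mod_cast h5
      exact hp2 ((Nat.prime_dvd_prime_iff_eq hp Nat.prime_two).mp h6)
    have hcop : IsCoprime (((orderOf g : ℕ) : ℤ)) (n + 1) := by
      rw [hk]
      push_cast
      apply IsCoprime.pow_left
      exact (Nat.prime_iff_prime_int.mp hp).coprime_iff_not_dvd.mpr hnd
    have h5 := hcop.dvd_of_dvd_mul_right h4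
    left
    have h6 : g ^ (n - 1) = 1 := orderOf_dvd_iff_zpow_eq_one.mp h5
    rw [← hn]
    rw [zpow_sub, zpow_one] at h6
    exact mul_inv_eq_one.mp h6
  · have hcop : IsCoprime (((orderOf g : ℕ) : ℤ)) (n - 1) := by
      rw [hk]
      push_cast
      apply IsCoprime.pow_left
      exact (Nat.prime_iff_prime_int.mp hp).coprime_iff_not_dvd.mpr hd
    have h5 := hcop.dvd_of_dvd_mul_left h4
    right
    have h6 : g ^ (n + 1) = 1 := orderOf_dvd_iff_zpow_eq_one.mp h5
    rw [← hn]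
    rw [zpow_add, zpow_one] at h6
    exact mul_eq_one_iff_eq_inv.mp h6

/-- `p` odd: the order of a `p`-group is odd. -/
theorem coprime_two_card [Finite P] {p : ℕ} (hp : p.Prime) (hp2 : p ≠ 2) (hP : IsPGroup p P) :
    Nat.Coprime 2 (Nat.card P) := by
  haveI : Fact p.Prime := ⟨hp⟩
  obtain ⟨n, hn⟩ := IsPGroup.iff_card.mp hP
  rw [hn]
  apply Nat.Coprime.pow_right
  exact (Nat.coprime_primes Nat.prime_two hp).mpr (Ne.symm hp2)

/-- Four elementary identities in an abelian group with two commuting involutions. -/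
theorem quad_identity {A : Type*} [CommGroup A] (u₁ u₂ : A →* A) (h1 : ∀ x, u₁ (u₁ x) = x)
    (h2 : ∀ x, u₂ (u₂ x) = x) (h12 : ∀ x, u₁ (u₂ x) = u₂ (u₁ x)) (x : A) :
    ∃ a c d : A, u₁ a = a ∧ u₂ c = c ∧ u₁ (u₂ d) = d ∧ x ^ 4 = a ^ 2 * c * d := by
  obtain ⟨b, hb⟩ : ∃ b, b = x * (u₁ x)⁻¹ := ⟨_, rfl⟩
  have hu₁b : u₁ b = b⁻¹ := by simp [hb, h1]
  refine ⟨x * u₁ x, b * u₂ b, b * (u₂ b)⁻¹, ?_, ?_, ?_, ?_⟩
  · simp [h1, mul_comm]
  · simp [h2, mul_comm]
  · rw [map_mul, map_mul, map_inv, map_inv, h12 b, h2, hu₁b, map_inv, mul_comm]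
    simp [mul_comm]
  · have h3 : x ^ 2 = (x * u₁ x) * b := by
      rw [hb, pow_two]
      simp [mul_comm, mul_assoc]
    have h4 : b ^ 2 = (b * u₂ b) * (b * (u₂ b)⁻¹) := by
      rw [pow_two]
      simp [mul_comm, mul_left_comm]
    calc x ^ 4 = (x ^ 2) ^ 2 := by rw [← pow_mul]
      _ = (x * u₁ x) ^ 2 * b ^ 2 := by rw [h3, mul_pow]
      _ = (x * u₁ x) ^ 2 * (b * u₂ b) * (b * (u₂ b)⁻¹) := by
        rw [h4, mul_assoc ((x * u₁ x) ^ 2)]

section Generation

variable [Finite P]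

/-- Lifting fixed points modulo a characteristic subgroup. -/
theorem exists_fixed_lift (hodd : Nat.Coprime 2 (Nat.card P)) (U : P ≃* P)
    (hU : ∀ x, U (U x) = x) (N : Subgroup P) (y : P) (hy : y⁻¹ * U y ∈ N) :
    ∃ w ∈ N, U (y * w) = y * w := by
  obtain ⟨w, hw, h⟩ := exists_fixed_mul hodd U.toMonoidHom hU y
  exact ⟨w, (zpowers_le.mpr hy) hw, h⟩

/-- Generation by fixed points of a four-group. -/
theorem gen_klein {p : ℕ} (hp : p.Prime) (hp2 : p ≠ 2) (hP : IsPGroup p P) (U₁ U₂ : P ≃* P)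
    (h1 : ∀ x, U₁ (U₁ x) = x) (h2 : ∀ x, U₂ (U₂ x) = x) (h12 : ∀ x, U₁ (U₂ x) = U₂ (U₁ x)) :
    closure ({x | U₁ x = x} ∪ {x | U₂ x = x} ∪ {x | U₁ (U₂ x) = x}) = ⊤ := by
  classical
  haveI : Fact p.Prime := ⟨hp⟩
  have hodd := coprime_two_card hp hp2 hP
  set H : Subgroup P := closure ({x | U₁ x = x} ∪ {x | U₂ x = x} ∪ {x | U₁ (U₂ x) = x}) with hH
  set Φ : Subgroup P := frattini P with hΦ
  haveI hΦn : Φ.Normal := inferInstance
  have hchar : ∀ (f : P ≃* P) (x : P), x ∈ Φ → f x ∈ Φ := by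
    intro f x hx
    have h3 : Φ.Characteristic := frattini_characteristic
    have h5 : f x ∈ Φ.comap f.symm.toMonoidHom := by
      change f.symm (f x) ∈ Φ
      simpa using hx
    rwa [h3.fixed f.symm] at h5
  have hcomm : ∀ x y : P ⧸ Φ, x * y = y * x := by
    intro x y
    induction x using QuotientGroup.induction_on with | _ x => ?_
    induction y using QuotientGroup.induction_on with | _ y => ?_
    rw [← QuotientGroup.mk_mul, ← QuotientGroup.mk_mul, QuotientGroup.eq]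
    have h4 : (x * y)⁻¹ * (y * x) = ⁅y⁻¹, x⁻¹⁆ := by
      rw [commutatorElement_def]
      group
    rw [h4]
    exact Cfsg.Agent.Lib.Transfer.commutator_mem_frattini hP _ _
  letI : CommGroup (P ⧸ Φ) := { (inferInstance : Group (P ⧸ Φ)) with mul_comm := hcomm }
  let π : P →* P ⧸ Φ := QuotientGroup.mk' Φ
  have hπ : ∀ x, π x = 1 ↔ x ∈ Φ := fun x => QuotientGroup.eq_one_iff x
  have hπ2 : ∀ x y, π x = π y ↔ x⁻¹ * y ∈ Φ := fun x y => QuotientGroup.eq
  let ind : (P ≃* P) → (P ⧸ Φ →* P ⧸ Φ) := fun f =>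
    QuotientGroup.map Φ Φ f.toMonoidHom (fun x hx => hchar f x hx)
  have hind : ∀ f x, ind f (π x) = π (f x) := fun _ _ => rfl
  have hsurj : ∀ z : P ⧸ Φ, ∃ y, π y = z := QuotientGroup.mk'_surjective Φ
  have hind1 : ∀ f : P ≃* P, (∀ x, f (f x) = x) → ∀ z, ind f (ind f z) = z := by
    intro f hf z
    obtain ⟨y, rfl⟩ := hsurj z
    rw [hind, hind, hf]
  have hfix : ∀ f : P ≃* P, (∀ x, f (f x) = x) → (∀ x, f x = x → x ∈ H) →
      ∀ z, ind f z = z → z ∈ H.map π := by
    intro f hf hfH z hz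
    obtain ⟨y, rfl⟩ := hsurj z
    rw [hind, eq_comm, hπ2] at hz
    obtain ⟨w, hw, h⟩ := exists_fixed_lift hodd f hf Φ y hz
    refine ⟨y * w, hfH _ h, ?_⟩
    rw [map_mul, (hπ w).mpr hw, mul_one]
  have hf₁ : ∀ x, U₁ x = x → x ∈ H := fun x hx =>
    subset_closure (Or.inl (Or.inl hx))
  have hf₂ : ∀ x, U₂ x = x → x ∈ H := fun x hx =>
    subset_closure (Or.inl (Or.inr hx))
  have hf₃ : ∀ x, (U₂.trans U₁) x = x → x ∈ H := fun x hx =>
    subset_closure (Or.inr hx)
  have h3' : ∀ x, (U₂.trans U₁) ((U₂.trans U₁) x) = x := by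
    intro x
    change U₁ (U₂ (U₁ (U₂ x))) = x
    rw [← h12, h1, h2]
  have hx4 : ∀ x : P, π (x ^ 4) ∈ H.map π := by
    intro x
    obtain ⟨a, c, d, ha, hc, hd, hadd⟩ := quad_identity (ind U₁) (ind U₂) (hind1 U₁ h1)
      (hind1 U₂ h2) (by
        intro z
        obtain ⟨y, rfl⟩ := hsurj z
        simp only [hind, h12]) (π x)
    have ha' := hfix U₁ h1 hf₁ a ha
    have hc' := hfix U₂ h2 hf₂ c hc
    have hd' := hfix (U₂.trans U₁) h3' hf₃ d (by
      obtain ⟨y, rfl⟩ := hsurj d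
      have h5 := hd
      simp only [hind] at h5
      rw [hind]
      exact h5)
    rw [map_pow, hadd]
    exact Subgroup.mul_mem _ (Subgroup.mul_mem _ (Subgroup.pow_mem _ ha' 2) hc') hd'
  have h4cop : Nat.Coprime 4 (Nat.card P) := by
    have : (4 : ℕ) = 2 ^ 2 := rfl
    rw [this]
    exact Nat.Coprime.pow_left 2 hodd
  have htop : ((H.map π).comap π) = ⊤ := by
    rw [eq_top_iff]
    intro x _
    apply Cfsg.Agent.Lib.Coprime.mem_of_pow_mem_of_coprime _ h4cop
    exact hx4 x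
  apply frattini_nongenerating
  rw [eq_top_iff]
  intro x _
  have hx : x ∈ (H.map π).comap π := by rw [htop]; trivial
  obtain ⟨h, hh, he⟩ := hx
  have h6 : h⁻¹ * x ∈ Φ := (hπ2 h x).mp he
  have h7 : x = h * (h⁻¹ * x) := by group
  rw [h7]
  exact Subgroup.mul_mem _ (Subgroup.mem_sup_left hh) (Subgroup.mem_sup_right h6)

end Generation

section Commutativity

variable [Finite P]

/-- In a group, `⁅x⁻¹, y⁆ = ⁅x, y⁆⁻¹` when `⁅x, y⁆` commutes with `x`. -/
theorem comm_inv_left {Q : Type*} [Group Q] (x y : Q) (h : ⁅x, y⁆ * x = x * ⁅x, y⁆) :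
    ⁅x⁻¹, y⁆ = ⁅x, y⁆⁻¹ := by
  have h1 : x⁻¹ * ⁅x, y⁆ * x = ⁅x, y⁆ := by
    rw [mul_assoc, h, inv_mul_cancel_left]
  rw [← h1]
  simp only [commutatorElement_def]
  group

/-- In a group, `⁅x⁻¹, y⁻¹⁆ = ⁅x, y⁆` when `⁅x, y⁆` commutes with `x` and `y`. -/
theorem comm_inv_inv {Q : Type*} [Group Q] (x y : Q) (h : ⁅x, y⁆ * x = x * ⁅x, y⁆)
    (h' : ⁅x, y⁆ * y = y * ⁅x, y⁆) :
    ⁅x⁻¹, y⁻¹⁆ = ⁅x, y⁆ := by
  have h1 : x⁻¹ * ⁅x, y⁆ * x = ⁅x, y⁆ := by
    rw [mul_assoc, h, inv_mul_cancel_left]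
  have h2 : y⁻¹ * ⁅x, y⁆ * y = ⁅x, y⁆ := by
    rw [mul_assoc, h', inv_mul_cancel_left]
  have h3 : y⁻¹ * (x⁻¹ * ⁅x, y⁆ * x) * y = ⁅x, y⁆ := by rw [h1, h2]
  rw [← h3]
  simp only [commutatorElement_def]
  group

/-- A characteristic subgroup is stable under automorphisms. -/
theorem char_stable (K : Subgroup P) [hK : K.Characteristic] (f : P ≃* P) (x : P) (hx : x ∈ K) :
    f x ∈ K := by
  have h5 : f x ∈ K.comap f.symm.toMonoidHom := by
    change f.symm (f x) ∈ K
    simpa using hx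
  rwa [hK.fixed f.symm] at h5

/-- The commutator of two elements inverted by an involution with fixed points fixed by another
automorphism inverting one and centralizing the other lies in the next term. -/
theorem comm_core {p : ℕ} (hp : p.Prime) (hp2 : p ≠ 2) (hP : IsPGroup p P) (V τ : P ≃* P)
    (hV : ∀ x, V (V x) = x) (a b : P) (hVa : V a = a⁻¹) (hVb : V b = b⁻¹)
    (hτa : τ a = a⁻¹) (hτb : τ b = b) (hVτ : ∀ x, V x = x → τ x = x) :
    ⁅a, b⁆ ∈ ⁅commutator P, (⊤ : Subgroup P)⁆ := by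
  have hodd := coprime_two_card hp hp2 hP
  set K : Subgroup P := ⁅commutator P, (⊤ : Subgroup P)⁆ with hK
  haveI hKn : K.Normal := by rw [hK]; infer_instance
  haveI hKc : K.Characteristic := by rw [hK]; infer_instance
  let π : P →* P ⧸ K := QuotientGroup.mk' K
  have hπ : ∀ x, π x = 1 ↔ x ∈ K := fun x => QuotientGroup.eq_one_iff x
  have hπ2 : ∀ x y, π x = π y ↔ x⁻¹ * y ∈ K := fun x y => QuotientGroup.eq
  -- elements of the commutator subgroup are central mod `K`
  have hcen : ∀ z ∈ commutator P, ∀ y, π z * π y = π y * π z := by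
    intro z hz y
    have h1 : ⁅z, y⁆ ∈ K := commutator_mem_commutator hz (mem_top y)
    have h2 := (hπ _).mpr h1
    rw [map_commutatorElement, commutatorElement_eq_one_iff_mul_comm] at h2
    exact h2
  set c : P := ⁅a, b⁆ with hc
  have hcE : c ∈ commutator P := commutator_mem_commutator (mem_top a) (mem_top b)
  have h1 : π (V c) = π c := by
    rw [hc, map_commutatorElement, hVa, hVb, map_commutatorElement, map_commutatorElement,
      map_inv, map_inv]
    apply comm_inv_inv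
    · rw [← map_commutatorElement]; exact hcen c hcE a
    · rw [← map_commutatorElement]; exact hcen c hcE b
  have h2 : π (τ c) = (π c)⁻¹ := by
    rw [hc, map_commutatorElement, hτa, hτb, map_commutatorElement, map_commutatorElement, map_inv]
    apply comm_inv_left
    rw [← map_commutatorElement]; exact hcen c hcE a
  have h3 : c⁻¹ * V c ∈ K := (hπ2 c (V c)).mp h1.symm
  obtain ⟨w, hw, hfix⟩ := exists_fixed_lift hodd V hV K c h3
  have h4 := hVτ _ hfix
  have h5 : π (τ (c * w)) = π (c * w) := by rw [h4]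
  rw [map_mul, map_mul, map_mul, h2, (hπ w).mpr hw, (hπ _).mpr (char_stable K τ w hw), mul_one,
    mul_one] at h5
  have h6 : (π c) ^ 2 = 1 := by
    rw [pow_two]
    nth_rewrite 1 [← h5]
    rw [inv_mul_cancel]
  have h7 : (π c) ^ (Nat.card P) = 1 := by
    rw [← map_pow, pow_card_eq_one', map_one]
  have h8 : orderOf (π c) ∣ 2 := orderOf_dvd_of_pow_eq_one h6
  have h9 : orderOf (π c) ∣ Nat.card P := orderOf_dvd_of_pow_eq_one h7
  have h10 : orderOf (π c) = 1 := Nat.Coprime.eq_one_of_dvd (Nat.Coprime.coprime_dvd_left h8 hodd) h9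
  exact (hπ c).mp (orderOf_eq_one_iff.mp h10)

/-- If `G' ≤ [G', G]` then `G' = 1`, for nilpotent `G`. -/
theorem comm_of_le {p : ℕ} (hP : IsPGroup p P) (hp : p.Prime)
    (h : commutator P ≤ ⁅commutator P, (⊤ : Subgroup P)⁆) (x y : P) : x * y = y * x := by
  haveI : Fact p.Prime := ⟨hp⟩
  haveI : Group.IsNilpotent P := hP.isNilpotent
  obtain ⟨n, hn⟩ := _root_.nilpotent_iff_lowerCentralSeries.mp (inferInstance : Group.IsNilpotent P)
  have h1 : ∀ m, commutator P ≤ (⊤ : Subgroup P).lowerCentralSeries (m + 1) := by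
    intro m
    induction m with
    | zero =>
      have : (⊤ : Subgroup P).lowerCentralSeries 1 = commutator P := by
        exact top_lowerCentralSeries_one
      rw [zero_add, this]
    | succ m ih =>
      refine h.trans ?_
      have : (⊤ : Subgroup P).lowerCentralSeries (m + 1 + 1) = ⁅(⊤ : Subgroup P).lowerCentralSeries (m + 1), ⊤⁆ := rfl
      rw [this]
      exact commutator_mono ih le_rfl
  have h2 : commutator P ≤ (⊤ : Subgroup P).lowerCentralSeries n := by
    refine (h1 n).trans ?_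
    exact Subgroup.lowerCentralSeries_antitone _ (Nat.le_succ n)
  rw [hn] at h2
  have h3 : ⁅x, y⁆ ∈ commutator P := commutator_mem_commutator (mem_top x) (mem_top y)
  have h4 := h2 h3
  rw [mem_bot, commutatorElement_eq_one_iff_mul_comm] at h4
  exact h4

/-- Generators commute modulo `K`: everything commutes modulo `K`. -/
theorem comm_mod_of_gens (K : Subgroup P) [K.Normal] (S : Set P) (hS : closure S = ⊤)
    (hc : ∀ a ∈ S, ∀ b ∈ S, ⁅a, b⁆ ∈ K) : commutator P ≤ K := by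
  let π : P →* P ⧸ K := QuotientGroup.mk' K
  have hπ : ∀ x, π x = 1 ↔ x ∈ K := fun x => QuotientGroup.eq_one_iff x
  have h1 : K ≤ π.ker := by
    intro x hx
    exact (hπ x).mpr hx
  have hS1 : ∀ a ∈ S, ∀ x : P, π x * π a = π a * π x := by
    intro a ha x
    have h2 : x ∈ closure S := by rw [hS]; trivial
    induction h2 using closure_induction with
    | mem b hb =>
      have h3 := (hπ _).mpr (hc a ha b hb)
      rw [map_commutatorElement, commutatorElement_eq_one_iff_mul_comm] at h3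
      exact h3.symm
    | one => simp
    | mul u v _ _ hu hv =>
      rw [map_mul, mul_assoc, hv, ← mul_assoc, hu, mul_assoc]
    | inv u _ hu =>
      rw [map_inv, inv_mul_eq_iff_eq_mul, ← mul_assoc, hu, mul_assoc, mul_inv_cancel, mul_one]
  have hS2 : ∀ x y : P, π x * π y = π y * π x := by
    intro x y
    have h2 : y ∈ closure S := by rw [hS]; trivial
    induction h2 using closure_induction with
    | mem b hb => exact hS1 b hb x
    | one => simp
    | mul u v _ _ hu hv =>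
      rw [map_mul, ← mul_assoc, hu, mul_assoc, hv, mul_assoc]
    | inv u _ hu =>
      rw [map_inv, mul_inv_eq_iff_eq_mul, mul_assoc, hu, inv_mul_cancel_left]
  rw [commutator_eq_closure, closure_le]
  rintro _ ⟨x, y, rfl⟩
  apply (hπ _).mp
  rw [map_commutatorElement, commutatorElement_eq_one_iff_mul_comm]
  exact hS2 x y

end Commutativity

section NotTwoGen

/-- No 2-generation when three projections exist. -/
theorem not_two_gen {A : Type*} [CommGroup A] [Finite A] {p : ℕ} (hp : p.Prime) (hp2 : p ≠ 2)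
    (hA : IsPGroup p A) (g : Fin 3 → A) (φ : Fin 3 → A →* A)
    (hφ1 : ∀ i, φ i (g i) = (g i) ^ 4) (hφ2 : ∀ i j, i ≠ j → φ i (g j) = 1)
    (hφ3 : ∀ i x, φ i x ∈ zpowers (g i)) (hne : ∀ i, g i ≠ 1) (a b : A)
    (hab : closure {a, b} = ⊤) : False := by
  classical
  haveI : Fact p.Prime := ⟨hp⟩
  have hrep : ∀ x : A, ∃ mn : ℤ × ℤ, a ^ mn.1 * b ^ mn.2 = x := by
    intro x
    have h1 : x ∈ closure {a, b} := by rw [hab]; trivial
    obtain ⟨m, n, h⟩ := mem_closure_pair.mp h1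
    exact ⟨(m, n), h⟩
  choose rep hrep' using hrep
  let val : Fin p × Fin p × Fin p → A := fun t => g 0 ^ (t.1 : ℕ) * g 1 ^ (t.2.1 : ℕ) * g 2 ^ (t.2.2 : ℕ)
  let F : Fin p × Fin p × Fin p → ZMod p × ZMod p := fun t =>
    (((rep (val t)).1 : ZMod p), ((rep (val t)).2 : ZMod p))
  have hcard : Fintype.card (ZMod p × ZMod p) < Fintype.card (Fin p × Fin p × Fin p) := by
    rw [Fintype.card_prod, Fintype.card_prod, Fintype.card_prod, ZMod.card, Fintype.card_fin]
    have h2 := hp.two_le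
    have h3 : p * p * 1 < p * p * p := Nat.mul_lt_mul_of_pos_left (by omega) (by positivity)
    calc p * p = p * p * 1 := (mul_one _).symm
      _ < p * p * p := h3
      _ = p * (p * p) := by ring
  obtain ⟨s, t, hst, hF⟩ := Fintype.exists_ne_map_eq_of_card_lt F hcard
  -- the quotient is a `p`-th power
  obtain ⟨y, hy⟩ : ∃ y, val s * (val t)⁻¹ = y ^ p := by
    have h1 := (Prod.ext_iff.mp hF).1
    have h2 := (Prod.ext_iff.mp hF).2
    change (((rep (val s)).1 : ℤ) : ZMod p) = (((rep (val t)).1 : ℤ) : ZMod p) at h1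
    change (((rep (val s)).2 : ℤ) : ZMod p) = (((rep (val t)).2 : ℤ) : ZMod p) at h2
    rw [ZMod.intCast_eq_intCast_iff_dvd_sub] at h1 h2
    obtain ⟨u, hu⟩ := h1
    obtain ⟨v, hv⟩ := h2
    refine ⟨(a ^ (-u) * b ^ (-v)), ?_⟩
    nth_rewrite 1 [← hrep' (val s)]
    nth_rewrite 1 [← hrep' (val t)]
    have h3 : (rep (val s)).1 = (rep (val t)).1 - p * u := by omega
    have h4 : (rep (val s)).2 = (rep (val t)).2 - p * v := by omega
    rw [h3, h4, zpow_sub, zpow_sub, mul_pow, ← zpow_natCast, ← zpow_mul, ← zpow_natCast (b ^ (-v)),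
      ← zpow_mul]
    have h5 : -u * (p : ℤ) = -(p * u) := by ring
    have h6 : -v * (p : ℤ) = -(p * v) := by ring
    rw [h5, h6, zpow_neg, zpow_neg]
    simp only [mul_inv_rev, inv_inv]
    simp [mul_comm, mul_left_comm, mul_assoc]
  -- the component of index `i` agrees
  have hkey : ∀ i : Fin 3, ∀ e e' : ℕ, e < p → e' < p →
      φ i (val s * (val t)⁻¹) = (g i) ^ (4 * (e : ℤ) - 4 * (e' : ℤ)) → e = e' := by
    intro i e e' he he' hval
    rw [hy, map_pow] at hval
    obtain ⟨w, hw⟩ := mem_zpowers_iff.mp (hφ3 i y)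
    rw [← hw, ← zpow_natCast, ← zpow_mul] at hval
    have h1 : g i ^ (w * (p : ℤ) - (4 * (e : ℤ) - 4 * (e' : ℤ))) = 1 := by
      rw [zpow_sub, hval, mul_inv_cancel]
    have h2 : ((orderOf (g i) : ℕ) : ℤ) ∣ _ := orderOf_dvd_iff_zpow_eq_one.mpr h1
    obtain ⟨k, hk⟩ := (IsPGroup.iff_orderOf.mp hA) (g i)
    have hk0 : k ≠ 0 := by
      rintro rfl
      rw [pow_zero, orderOf_eq_one_iff] at hk
      exact hne i hk
    have h3 : (p : ℤ) ∣ (orderOf (g i) : ℤ) := by
      rw [hk]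
      push_cast
      exact dvd_pow_self _ hk0
    have h4 := h3.trans h2
    have h5 : (p : ℤ) ∣ 4 * ((e : ℤ) - (e' : ℤ)) := by
      have h6 := dvd_sub (Dvd.intro_left w rfl : (p : ℤ) ∣ w * p) h4
      have h7 : w * (p : ℤ) - (w * (p : ℤ) - (4 * (e : ℤ) - 4 * (e' : ℤ))) = 4 * ((e : ℤ) - (e' : ℤ)) := by ring
      rwa [h7] at h6
    have hpi : Prime (p : ℤ) := Nat.prime_iff_prime_int.mp hp
    have h8 : ¬ (p : ℤ) ∣ 4 := by
      intro h9
      have h10 : p ∣ 4 := by exact_mod_cast h9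
      have h11 : p ∣ 2 ^ 2 := h10
      have h12 := hp.dvd_of_dvd_pow h11
      exact hp2 ((Nat.prime_dvd_prime_iff_eq hp Nat.prime_two).mp h12)
    have h9 := (hpi.dvd_or_dvd h5).resolve_left h8
    obtain ⟨q, hq⟩ := h9
    have h10 : q = 0 := by
      by_contra hq0
      have h11 : (p : ℤ) ≤ |(p : ℤ) * q| := by
        rw [abs_mul, abs_of_nonneg (by positivity : (0 : ℤ) ≤ p)]
        have : 1 ≤ |q| := Int.one_le_abs hq0
        nlinarith [hp.pos]
      rw [← hq] at h11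
      have h12 : |(e : ℤ) - (e' : ℤ)| < p := by
        rw [abs_lt]
        constructor <;> omega
      omega
    rw [h10] at hq
    omega
  have hval0 : ∀ t, φ 0 (val t) = (g 0) ^ (4 * ((t.1 : ℕ) : ℤ)) := by
    intro t
    change φ 0 (g 0 ^ (t.1 : ℕ) * g 1 ^ (t.2.1 : ℕ) * g 2 ^ (t.2.2 : ℕ)) = _
    rw [map_mul, map_mul, map_pow, map_pow, map_pow, hφ1, hφ2 0 1 (by decide), hφ2 0 2 (by decide),
      one_pow, one_pow, mul_one, mul_one, ← pow_mul, ← zpow_natCast]
    push_cast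
    rfl
  have hval1 : ∀ t, φ 1 (val t) = (g 1) ^ (4 * ((t.2.1 : ℕ) : ℤ)) := by
    intro t
    change φ 1 (g 0 ^ (t.1 : ℕ) * g 1 ^ (t.2.1 : ℕ) * g 2 ^ (t.2.2 : ℕ)) = _
    rw [map_mul, map_mul, map_pow, map_pow, map_pow, hφ1, hφ2 1 0 (by decide), hφ2 1 2 (by decide),
      one_pow, one_pow, mul_one, one_mul, ← pow_mul, ← zpow_natCast]
    push_cast
    rfl
  have hval2 : ∀ t, φ 2 (val t) = (g 2) ^ (4 * ((t.2.2 : ℕ) : ℤ)) := by
    intro t
    change φ 2 (g 0 ^ (t.1 : ℕ) * g 1 ^ (t.2.1 : ℕ) * g 2 ^ (t.2.2 : ℕ)) = _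
    rw [map_mul, map_mul, map_pow, map_pow, map_pow, hφ1, hφ2 2 0 (by decide), hφ2 2 1 (by decide),
      one_pow, one_pow, one_mul, one_mul, ← pow_mul, ← zpow_natCast]
    push_cast
    rfl
  have h0 := hkey 0 s.1 t.1 s.1.2 t.1.2 (by
    rw [map_mul, map_inv, hval0, hval0, ← zpow_neg, ← zpow_add]
    congr 1)
  have h1 := hkey 1 s.2.1 t.2.1 s.2.1.2 t.2.1.2 (by
    rw [map_mul, map_inv, hval1, hval1, ← zpow_neg, ← zpow_add]
    congr 1)
  have h2 := hkey 2 s.2.2 t.2.2 s.2.2.2 t.2.2.2 (by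
    rw [map_mul, map_inv, hval2, hval2, ← zpow_neg, ← zpow_add]
    congr 1)
  apply hst
  exact Prod.ext (Fin.ext h0) (Prod.ext (Fin.ext h1) (Fin.ext h2))

end NotTwoGen

section Klein

variable {M : Type*} [Group M] [Finite M]

/-- A four-subgroup free of a predicate. -/
theorem exists_klein (I I₀ : Subgroup M) (hI : Cfsg.IsElementaryAbelian 2 I) (hI8 : Nat.card I = 8)
    (hlt : I₀ < I) (B : M → Prop) (hd : ∀ T ∈ I₀, T ≠ 1 → ¬ B T)
    (hp : ∀ T ∈ I, ∀ T' ∈ I, T ≠ 1 → T' ≠ 1 → B T → B T' → T * T' ∈ I₀) :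
    ∃ U₁ ∈ I, ∃ U₂ ∈ I, U₁ ≠ 1 ∧ U₂ ≠ 1 ∧ U₁ ≠ U₂ ∧ ¬ B U₁ ∧ ¬ B U₂ ∧ ¬ B (U₁ * U₂) := by
  classical
  have hcom : ∀ a ∈ I, ∀ b ∈ I, a * b = b * a := fun a ha b hb =>
    congrArg Subtype.val (hI.1.is_comm.comm ⟨a, ha⟩ ⟨b, hb⟩)
  have hsq : ∀ a ∈ I, a * a = 1 := fun a ha => by rw [← pow_two]; exact hI.2 a ha
  obtain ⟨T, hTI, hTI₀, hB⟩ : ∃ T ∈ I, T ∉ I₀ ∧ ∀ K : Subgroup M, I₀ ≤ K → T ∉ K →
      ∀ S ∈ K, S ∈ I → S ≠ 1 → ¬ B S := by
    by_cases h : ∃ T, T ∈ I ∧ T ≠ 1 ∧ B T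
    · obtain ⟨T, hT, hT1, hTB⟩ := h
      refine ⟨T, hT, fun h2 => hd T h2 hT1 hTB, ?_⟩
      intro K hK hTK S hSK hSI hS1 hSB
      apply hTK
      have h3 := hK (hp S hSI T hT hS1 hT1 hSB hTB)
      have h4 : T = S⁻¹ * (S * T) := by group
      rw [h4]
      exact K.mul_mem (K.inv_mem hSK) h3
    · obtain ⟨T, hT, hTI₀⟩ := SetLike.exists_of_lt hlt
      refine ⟨T, hT, hTI₀, ?_⟩
      intro K _ _ S _ hSI hS1 hSB
      exact h ⟨S, hSI, hS1, hSB⟩
  let F : Set (Subgroup M) := {K | I₀ ≤ K ∧ K ≤ I ∧ T ∉ K}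
  have hF : F.Finite := Set.toFinite F
  obtain ⟨J, -, hJ⟩ := hF.exists_le_maximal (a := I₀) ⟨le_rfl, hlt.le, hTI₀⟩
  obtain ⟨hJ0, hJI, hTJ⟩ := hJ.prop
  -- every element of `I` is in `J` or `T J`
  have hsplit : ∀ x ∈ I, x ∈ J ∨ T * x ∈ J := by
    intro x hx
    by_contra hcon
    push Not at hcon
    obtain ⟨hxJ, hTxJ⟩ := hcon
    have hnorm : zpowers x ≤ normalizer (J : Set M) := by
      rw [zpowers_le, mem_normalizer_iff]
      intro y
      constructor
      · intro hy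
        have h1 : x * y * x⁻¹ = y := by
          rw [hcom x hx y (hJI hy), mul_inv_cancel_right]
        rwa [h1]
      · intro hy
        have h1 : x * y * x⁻¹ ∈ I := hJI hy
        have hyI : y ∈ I := by
          have h2 : y = x⁻¹ * (x * y * x⁻¹) * x := by group
          rw [h2]
          exact I.mul_mem (I.mul_mem (I.inv_mem hx) h1) hx
        have h3 : x * y * x⁻¹ = y := by
          rw [hcom x hx y hyI, mul_inv_cancel_right]
        rwa [h3] at hy
    have hsup : J ⊔ zpowers x ∈ F := by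
      refine ⟨le_sup_of_le_left hJ0, sup_le hJI ((zpowers_le).mpr hx), ?_⟩
      intro hT
      obtain ⟨j, hj, y, hy, he⟩ := (Cfsg.Agent.Lib.Coprime.mem_sup_iff_of_le_normalizer hnorm T).mp hT
      obtain ⟨n, rfl⟩ := mem_zpowers_iff.mp hy
      rcases Int.even_or_odd' n with ⟨m, rfl | rfl⟩
      · have h5 : x ^ (2 * m) = 1 := by
          rw [zpow_mul, zpow_two, hsq x hx, one_zpow]
        rw [h5, mul_one] at he
        exact hTJ (he ▸ hj)
      · have h5 : x ^ (2 * m + 1) = x := by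
          rw [zpow_add, zpow_mul, zpow_two, hsq x hx, one_zpow, one_mul, zpow_one]
        rw [h5] at he
        apply hTxJ
        rw [he, mul_assoc, hsq x hx, mul_one]
        exact hj
    have h2 := hJ.le_of_ge hsup le_sup_left
    exact hxJ (h2 (le_sup_right (a := J) (mem_zpowers x)))
  have hcard : 8 ≤ Nat.card J * 2 := by
    let f : I → J × Bool := fun x =>
      if h : (x : M) ∈ J then (⟨x, h⟩, true)
      else (⟨T * x, (hsplit x x.2).resolve_left h⟩, false)
    have hf : Function.Injective f := by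
      intro x y hxy
      by_cases hx : (x : M) ∈ J <;> by_cases hy : (y : M) ∈ J
      · simp only [f, hx, hy, dif_pos] at hxy
        exact Subtype.ext (congrArg (fun z => ((z.1 : J) : M)) hxy)
      · simp [f, hx, hy] at hxy
      · simp [f, hx, hy] at hxy
      · simp only [f, hx, hy, dif_neg, not_false_eq_true] at hxy
        have h3 := congrArg (fun z => ((z.1 : J) : M)) hxy
        exact Subtype.ext (mul_left_cancel h3)
    have h1 := Nat.card_le_card_of_injective f hf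
    rw [hI8, Nat.card_prod, Nat.card_eq_fintype_card (α := Bool), Fintype.card_bool] at h1
    exact h1
  letI : Fintype J := Fintype.ofFinite J
  have h3 : 2 < Fintype.card J := by
    rw [Nat.card_eq_fintype_card] at hcard
    omega
  obtain ⟨a, b, c, hab, hac, hbc⟩ := Fintype.two_lt_card_iff.mp h3
  have hval : ∀ {x y : J}, x ≠ y → (x : M) ≠ y := fun h h2 => h (Subtype.ext h2)
  obtain ⟨U₁, hU₁, U₂, hU₂, h1, h2, h12⟩ : ∃ U₁ ∈ J, ∃ U₂ ∈ J, U₁ ≠ 1 ∧ U₂ ≠ 1 ∧ U₁ ≠ U₂ := by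
    by_cases ha : (a : M) = 1
    · refine ⟨b, b.2, c, c.2, ?_, ?_, hval hbc⟩
      · intro h
        exact hab (Subtype.ext (ha.trans h.symm))
      · intro h
        exact hac (Subtype.ext (ha.trans h.symm))
    · by_cases hb : (b : M) = 1
      · refine ⟨a, a.2, c, c.2, ha, ?_, hval hac⟩
        intro h
        exact hbc (Subtype.ext (hb.trans h.symm))
      · exact ⟨a, a.2, b, b.2, ha, hb, hval hab⟩
  refine ⟨U₁, hJI hU₁, U₂, hJI hU₂, h1, h2, h12, hB J hJ0 hTJ U₁ hU₁ (hJI hU₁) h1,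
    hB J hJ0 hTJ U₂ hU₂ (hJI hU₂) h2, hB J hJ0 hTJ _ (J.mul_mem hU₁ hU₂)
    (I.mul_mem (hJI hU₁) (hJI hU₂)) ?_⟩
  intro h
  apply h12
  have h5 := hsq U₂ (hJI hU₂)
  calc U₁ = U₁ * (U₂ * U₂) := by rw [h5, mul_one]
    _ = (U₁ * U₂) * U₂ := by rw [mul_assoc]
    _ = U₂ := by rw [h, one_mul]

end Klein

section Main

variable [Finite P]

/-- Cyclic fixed points. -/
abbrev Cyc (T : MulAut P) : Prop := ∃ g : P, ∀ x : P, (T x = x ↔ x ∈ zpowers g)

theorem eq_one_of_inv_eq {p : ℕ} (hp : p.Prime) (hp2 : p ≠ 2) (hP : IsPGroup p P) {x : P}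
    (h : x⁻¹ = x) : x = 1 := by
  have hodd := coprime_two_card hp hp2 hP
  have h6 : x ^ 2 = 1 := by
    rw [pow_two]
    nth_rewrite 1 [← h]
    rw [inv_mul_cancel]
  have h8 : orderOf x ∣ 2 := orderOf_dvd_of_pow_eq_one h6
  have h9 : orderOf x ∣ Nat.card P := orderOf_dvd_natCard x
  have h10 : orderOf x = 1 := Nat.Coprime.eq_one_of_dvd (Nat.Coprime.coprime_dvd_left h8 hodd) h9
  exact orderOf_eq_one_iff.mp h10

/-- The main theorem, in the case of a good four-subgroup. -/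
theorem main_of_klein {p : ℕ} (hp : p.Prime) (hp2 : p ≠ 2) (hP : IsPGroup p P)
    (I : Subgroup (MulAut P)) (hI : Cfsg.IsElementaryAbelian 2 I) (hI8 : Nat.card ↥I = 8)
    (I₀ : Subgroup (MulAut P)) (hI₀ : I₀ < I)
    (hdisj : ∀ T ∈ I₀, T ≠ 1 → Cyc T)
    (hprod : ∀ T ∈ I, ∀ T' ∈ I, T ≠ 1 → T' ≠ 1 → ¬ Cyc T → ¬ Cyc T' → T * T' ∈ I₀) :
    IsMulCommutative P ∧ (∃ a b c : P, closure {a, b, c} = ⊤) ∧ (¬ ∃ a b : P, closure {a, b} = ⊤) ∧
      Nat.card {T : MulAut P // T ∈ I ∧ T ≠ 1 ∧ ¬ Cyc T} = 3 ∧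
      closure {T : MulAut P | T ∈ I ∧ T ≠ 1 ∧ ¬ Cyc T} = I ∧
      (I₀ : Set (MulAut P)) = {S : MulAut P | ∃ T T' : MulAut P, T ∈ I ∧ T' ∈ I ∧ T ≠ 1 ∧ T' ≠ 1 ∧
        ¬ Cyc T ∧ ¬ Cyc T' ∧ S = T * T'} := by
  classical
  haveI : Fact p.Prime := ⟨hp⟩
  have hcom : ∀ a ∈ I, ∀ b ∈ I, a * b = b * a := fun a ha b hb =>
    congrArg Subtype.val (hI.1.is_comm.comm ⟨a, ha⟩ ⟨b, hb⟩)
  have hsq : ∀ a ∈ I, a * a = 1 := fun a ha => by rw [← pow_two]; exact hI.2 a ha
  have hinvol : ∀ a ∈ I, ∀ x, a (a x) = x := by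
    intro a ha x
    have := DFunLike.congr_fun (hsq a ha) x
    simpa [MulAut.mul_apply] using this
  have hcomm : ∀ a ∈ I, ∀ b ∈ I, ∀ x, a (b x) = b (a x) := by
    intro a ha b hb x
    have := DFunLike.congr_fun (hcom a ha b hb) x
    simpa [MulAut.mul_apply] using this
  have hinv : ∀ x : P, x⁻¹ = x → x = 1 := fun x h => eq_one_of_inv_eq hp hp2 hP h
  obtain ⟨U₁, hU₁, U₂, hU₂, h1, h2, h12, hc1, hc2, hc3⟩ := exists_klein I I₀ hI hI8 hI₀
    (fun T => ¬ Cyc T) (fun T hT ht => not_not.mpr (hdisj T hT ht))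
    (fun T hT T' hT' h1 h2 h3 h4 => hprod T hT T' hT' h1 h2 h3 h4)
  rw [not_not] at hc1 hc2 hc3
  let U : Fin 3 → MulAut P := ![U₁, U₂, U₁ * U₂]
  have hU₃ : U₁ * U₂ ∈ I := I.mul_mem hU₁ hU₂
  have hUI : ∀ i, U i ∈ I := by
    intro i
    fin_cases i
    · exact hU₁
    · exact hU₂
    · exact hU₃
  have hUc : ∀ i, Cyc (U i) := by
    intro i
    fin_cases i
    · exact hc1
    · exact hc2
    · exact hc3
  choose g hg using hUc
  have hgen : closure (Set.range g) = ⊤ := by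
    have h3 := gen_klein hp hp2 hP U₁ U₂ (hinvol U₁ hU₁) (hinvol U₂ hU₂) (hcomm U₁ hU₁ U₂ hU₂)
    rw [eq_top_iff, ← h3, closure_le]
    have h4 : ∀ i x, U i x = x → x ∈ closure (Set.range g) := by
      intro i x hx
      have h5 : zpowers (g i) ≤ closure (Set.range g) :=
        zpowers_le.mpr (subset_closure ⟨i, rfl⟩)
      exact h5 ((hg i x).mp hx)
    rintro x ((hx | hx) | hx)
    · exact h4 0 x hx
    · exact h4 1 x hx
    · exact h4 2 x hx
  have hUg : ∀ i, U i (g i) = g i := fun i => (hg i (g i)).mpr (mem_zpowers _)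
  have hsign : ∀ τ ∈ I, ∀ i, τ (g i) = g i ∨ τ (g i) = (g i)⁻¹ := by
    intro τ hτ i
    apply sign_of_mem_zpowers hp hp2 hP τ.toMonoidHom (hinvol τ hτ) (g i)
    apply (hg i _).mp
    change U i (τ (g i)) = τ (g i)
    rw [hcomm (U i) (hUI i) τ hτ, hUg]
  have hagree : ∀ τ τ' : MulAut P, (∀ i, τ (g i) = τ' (g i)) → τ = τ' := by
    intro τ τ' h
    apply MulEquiv.ext
    intro x
    have hx : x ∈ closure (Set.range g) := by rw [hgen]; trivial
    induction hx using closure_induction with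
    | mem y hy =>
      obtain ⟨i, rfl⟩ := hy
      exact h i
    | one => simp
    | mul u v _ _ hu hv => rw [map_mul, map_mul, hu, hv]
    | inv u _ hu => rw [map_inv, map_inv, hu]
  let sgn : I → (Fin 3 → Bool) := fun τ i => decide ((τ : MulAut P) (g i) = g i)
  have hsgninj : Function.Injective sgn := by
    intro τ τ' h
    apply Subtype.ext
    apply hagree
    intro i
    have h3 := congrFun h i
    have h4 : (τ : MulAut P) (g i) = g i ↔ (τ' : MulAut P) (g i) = g i := by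
      simpa [sgn] using h3
    rcases hsign τ τ.2 i with h5 | h5
    · rw [h5, h4.mp h5]
    · by_cases h6 : (τ' : MulAut P) (g i) = g i
      · rw [h4.mpr h6, h6]
      · rw [h5, (hsign τ' τ'.2 i).resolve_left h6]
  have hsgnsurj : Function.Surjective sgn := by
    have h3 := hsgninj.bijective_of_nat_card_le (by
      rw [hI8]
      simp)
    exact h3.2
  have hpat : ∀ f : Fin 3 → Bool, ∃ τ ∈ I, ∀ j, (τ (g j) = g j ↔ f j = true) := by
    intro f
    obtain ⟨τ, hτ⟩ := hsgnsurj f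
    refine ⟨τ, τ.2, fun j => ?_⟩
    rw [← hτ]
    simp [sgn]
  have hTex : ∀ i, ∃ τ ∈ I, ∀ j, (τ (g j) = g j ↔ j ≠ i) := by
    intro i
    obtain ⟨τ, hτ, h3⟩ := hpat (fun j => decide (j ≠ i))
    refine ⟨τ, hτ, fun j => ?_⟩
    rw [h3]
    simp
  choose T hTI hT using hTex
  have hTne : ∀ i j, i ≠ j → T i (g j) = g j := fun i j h => (hT i j).mpr (Ne.symm h)
  have hTii : ∀ i, T i (g i) = (g i)⁻¹ := fun i =>
    (hsign (T i) (hTI i) i).resolve_left (fun h => (hT i i).mp h rfl)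
  have hgne : ∀ i, g i ≠ 1 := by
    intro i h
    have h3 := (hT i i).mp (by rw [h, map_one])
    exact h3 rfl
  have hinvne : ∀ i, (g i)⁻¹ ≠ g i := fun i h => hgne i (hinv _ h)
  -- the action of the `U i`
  have hUne : ∀ i j, i ≠ j → U i (g j) = (g j)⁻¹ := by
    intro i j hij
    refine (hsign (U i) (hUI i) j).resolve_left ?_
    intro h
    obtain ⟨n, hn⟩ := mem_zpowers_iff.mp ((hg i (g j)).mp h)
    have h3 := hTne i j (Ne.symm (Ne.symm hij))
    rw [← hn, map_zpow, hTii, inv_zpow] at h3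
    rw [hn] at h3
    exact hinvne j h3
  -- commutativity
  have hcommP : ∀ x y : P, x * y = y * x := by
    apply comm_of_le hP hp
    apply comm_mod_of_gens _ (Set.range g) hgen
    rintro _ ⟨i, rfl⟩ _ ⟨j, rfl⟩
    by_cases hij : i = j
    · subst hij
      rw [commutatorElement_self]
      exact Subgroup.one_mem _
    · obtain ⟨k, hki, hkj⟩ : ∃ k : Fin 3, k ≠ i ∧ k ≠ j := by
        revert i j
        decide
      apply comm_core hp hp2 hP (U k) (T i) (hinvol _ (hUI k)) (g i) (g j) (hUne k i hki)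
        (hUne k j hkj) (hTii i) (hTne i j hij)
      intro x hx
      obtain ⟨n, rfl⟩ := mem_zpowers_iff.mp ((hg k x).mp hx)
      rw [map_zpow, hTne i k (Ne.symm hki)]
  have hthree : ∀ i : Fin 3, ∃ j k : Fin 3, i ≠ j ∧ i ≠ k ∧ j ≠ k := by decide
  -- products
  have hUprod : ∀ i j k : Fin 3, i ≠ j → i ≠ k → j ≠ k → U i = T j * T k := by
    intro i j k hij hik hjk
    apply hagree
    intro l
    have hl : l = i ∨ l = j ∨ l = k := by
      revert i j k l
      decide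
    rw [MulAut.mul_apply]
    rcases hl with rfl | rfl | rfl
    · rw [hUg, hTne k _ (Ne.symm hik), hTne j _ (Ne.symm hij)]
    · rw [hUne i _ hij, hTne k _ (Ne.symm hjk), hTii]
    · rw [hUne i _ hik, hTii, map_inv, hTne j _ hjk]
  have hTT : ∀ i, T i * T i = 1 := fun i => hsq _ (hTI i)
  have hTne1 : ∀ i, T i ≠ 1 := by
    intro i h
    have h3 := hTii i
    rw [h, MulAut.one_apply] at h3
    exact hinvne i h3.symm
  have hTbroad : ∀ i, ¬ Cyc (T i) := by
    rintro i ⟨h, hh⟩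
    obtain ⟨j, k, hij, hik, hjk⟩ := hthree i
    have h3 : T i (U j h) = U j h := by
      rw [hcomm _ (hTI i) _ (hUI j), (hh h).mpr (mem_zpowers h)]
    have h4 := sign_of_mem_zpowers hp hp2 hP (U j).toMonoidHom (hinvol _ (hUI j)) h
      ((hh _).mp h3)
    rcases h4 with h4 | h4
    · obtain ⟨n, hn⟩ := mem_zpowers_iff.mp ((hh (g k)).mp (hTne i k hik))
      have h5 := hUne j k hjk
      rw [← hn, map_zpow] at h5
      change (U j h) ^ n = _ at h5
      rw [show U j h = h from h4, hn] at h5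
      exact hinvne k h5.symm
    · obtain ⟨n, hn⟩ := mem_zpowers_iff.mp ((hh (g j)).mp (hTne i j hij))
      have h5 := hUg j
      rw [← hn, map_zpow] at h5
      change (U j h) ^ n = _ at h5
      rw [show U j h = h⁻¹ from h4, inv_zpow, hn] at h5
      exact hinvne j h5
  have hUcyc : ∀ i, Cyc (U i) := fun i => ⟨g i, hg i⟩
  -- classification
  have hclass : ∀ τ ∈ I, τ = 1 ∨ (∃ i, τ = T i) ∨ (∃ i, τ = U i) ∨ (∀ x, τ x = x⁻¹) := by
    intro τ hτ
    have hag3 : ∀ τ' : MulAut P, τ (g 0) = τ' (g 0) → τ (g 1) = τ' (g 1) → τ (g 2) = τ' (g 2) →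
        τ = τ' := by
      intro τ' h0 h1 h2
      apply hagree
      intro i
      fin_cases i
      · exact h0
      · exact h1
      · exact h2
    rcases hsign τ hτ 0 with s0 | s0 <;> rcases hsign τ hτ 1 with s1 | s1 <;>
      rcases hsign τ hτ 2 with s2 | s2
    · left
      exact hag3 1 s0 s1 s2
    · right; left
      refine ⟨2, hag3 _ ?_ ?_ ?_⟩
      · rw [s0, hTne 2 0 (by decide)]
      · rw [s1, hTne 2 1 (by decide)]
      · rw [s2, hTii]
    · right; left
      refine ⟨1, hag3 _ ?_ ?_ ?_⟩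
      · rw [s0, hTne 1 0 (by decide)]
      · rw [s1, hTii]
      · rw [s2, hTne 1 2 (by decide)]
    · right; right; left
      refine ⟨0, hag3 _ ?_ ?_ ?_⟩
      · rw [s0, hUg]
      · rw [s1, hUne 0 1 (by decide)]
      · rw [s2, hUne 0 2 (by decide)]
    · right; left
      refine ⟨0, hag3 _ ?_ ?_ ?_⟩
      · rw [s0, hTii]
      · rw [s1, hTne 0 1 (by decide)]
      · rw [s2, hTne 0 2 (by decide)]
    · right; right; left
      refine ⟨1, hag3 _ ?_ ?_ ?_⟩
      · rw [s0, hUne 1 0 (by decide)]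
      · rw [s1, hUg]
      · rw [s2, hUne 1 2 (by decide)]
    · right; right; left
      refine ⟨2, hag3 _ ?_ ?_ ?_⟩
      · rw [s0, hUne 2 0 (by decide)]
      · rw [s1, hUne 2 1 (by decide)]
      · rw [s2, hUg]
    · right; right; right
      have hgi : ∀ i, τ (g i) = (g i)⁻¹ := by
        intro i
        fin_cases i
        · exact s0
        · exact s1
        · exact s2
      intro x
      have hx : x ∈ closure (Set.range g) := by rw [hgen]; trivial
      induction hx using closure_induction with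
      | mem y hy =>
        obtain ⟨i, rfl⟩ := hy
        exact hgi i
      | one => simp
      | mul u v _ _ hu hv => rw [map_mul, hu, hv, mul_inv_rev, hcommP]
      | inv u _ hu => rw [map_inv, hu]
  have hinvcyc : ∀ τ : MulAut P, (∀ x, τ x = x⁻¹) → Cyc τ := by
    intro τ h
    refine ⟨1, fun x => ?_⟩
    rw [h, zpowers_one_eq_bot, mem_bot]
    constructor
    · exact hinv x
    · rintro rfl
      simp
  have hbroad : ∀ τ, (τ ∈ I ∧ τ ≠ 1 ∧ ¬ Cyc τ) ↔ ∃ i, τ = T i := by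
    intro τ
    constructor
    · rintro ⟨hτ, h1, h2⟩
      rcases hclass τ hτ with h3 | h3 | ⟨i, rfl⟩ | h3
      · exact absurd h3 h1
      · exact h3
      · exact absurd (hUcyc i) h2
      · exact absurd (hinvcyc τ h3) h2
    · rintro ⟨i, rfl⟩
      exact ⟨hTI i, hTne1 i, hTbroad i⟩
  have hTinj : Function.Injective T := by
    intro i j hij
    by_contra hne
    have h3 := hTii i
    rw [hij, hTne j i (Ne.symm hne)] at h3
    exact hinvne i h3.symm
  have hUT : ∀ i j k : Fin 3, i ≠ j → i ≠ k → j ≠ k → T j * T k ∈ I₀ := fun i j k _ _ _ =>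
    hprod _ (hTI j) _ (hTI k) (hTne1 j) (hTne1 k) (hTbroad j) (hTbroad k)
  refine ⟨⟨⟨hcommP⟩⟩, ⟨g 0, g 1, g 2, ?_⟩, ?_, ?_, ?_, ?_⟩
  · rw [eq_top_iff, ← hgen, closure_le]
    rintro _ ⟨i, rfl⟩
    apply Subgroup.subset_closure
    fin_cases i <;> simp
  · rintro ⟨a, b, hab⟩
    letI : CommGroup P := { (inferInstance : Group P) with mul_comm := hcommP }
    let φ : Fin 3 → P →* P := fun i =>
      MonoidHom.id P * (T (i + 1)).toMonoidHom * (T (i + 2)).toMonoidHom *
        ((T (i + 1)) * (T (i + 2))).toMonoidHom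
    have hφ : ∀ i x, φ i x = x * T (i + 1) x * T (i + 2) x * T (i + 1) (T (i + 2) x) := fun _ _ => rfl
    have h1 : ∀ i : Fin 3, i ≠ i + 1 := by decide
    have h2 : ∀ i : Fin 3, i ≠ i + 2 := by decide
    have h3 : ∀ i : Fin 3, i + 1 ≠ i + 2 := by decide
    have hφ1 : ∀ i, φ i (g i) = (g i) ^ 4 := by
      intro i
      rw [hφ, hTne _ i (h1 i).symm, hTne _ i (h2 i).symm, hTne _ i (h1 i).symm,
        pow_succ, pow_succ, pow_succ, pow_one]
    have hφ2 : ∀ i j, i ≠ j → φ i (g j) = 1 := by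
      intro i j hij
      have hj : j = i + 1 ∨ j = i + 2 := by
        revert i j
        decide
      rcases hj with rfl | rfl
      · rw [hφ, hTii, hTne _ _ (h3 i).symm, hTii]
        simp
      · rw [hφ, hTii, hTne _ _ (h3 i), map_inv, hTne _ _ (h3 i)]
        simp
    refine not_two_gen hp hp2 hP g φ hφ1 hφ2 ?_ hgne a b hab
    intro i x
    have hx : x ∈ closure (Set.range g) := by rw [hgen]; trivial
    have h4 : closure (Set.range g) ≤ (zpowers (g i)).comap (φ i) := by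
      rw [closure_le]
      rintro _ ⟨j, rfl⟩
      change φ i (g j) ∈ zpowers (g i)
      by_cases hij : i = j
      · subst hij
        rw [hφ1]
        exact Subgroup.pow_mem _ (mem_zpowers _) 4
      · rw [hφ2 i j hij]
        exact Subgroup.one_mem _
    exact h4 hx
  · have h3 : ∀ i : Fin 3, T i ∈ I ∧ T i ≠ 1 ∧ ¬ Cyc (T i) := fun i => (hbroad (T i)).mpr ⟨i, rfl⟩
    let e : Fin 3 → {τ : MulAut P // τ ∈ I ∧ τ ≠ 1 ∧ ¬ Cyc τ} := fun i => ⟨T i, h3 i⟩
    have he : Function.Bijective e := by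
      constructor
      · intro i j hij
        exact hTinj (congrArg Subtype.val hij)
      · rintro ⟨τ, hτ⟩
        obtain ⟨i, rfl⟩ := (hbroad τ).mp hτ
        exact ⟨i, rfl⟩
    rw [← Nat.card_congr (Equiv.ofBijective e he)]
    simp
  · apply le_antisymm
    · rw [closure_le]
      rintro τ ⟨h, -⟩
      exact h
    · intro τ hτ
      have hTc : ∀ i, T i ∈ closure {T : MulAut P | T ∈ I ∧ T ≠ 1 ∧ ¬ Cyc T} := fun i =>
        subset_closure ((hbroad _).mpr ⟨i, rfl⟩)
      rcases hclass τ hτ with rfl | ⟨i, rfl⟩ | ⟨i, rfl⟩ | h3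
      · exact Subgroup.one_mem _
      · exact hTc i
      · obtain ⟨j, k, hij, hik, hjk⟩ := hthree i
        rw [hUprod i j k hij hik hjk]
        exact Subgroup.mul_mem _ (hTc j) (hTc k)
      · have h4 : τ = T 0 * (T 1 * T 2) := by
          apply hagree
          intro i
          rw [h3, MulAut.mul_apply, MulAut.mul_apply]
          fin_cases i
          · change (g 0)⁻¹ = T 0 (T 1 (T 2 (g 0)))
            rw [hTne 2 0 (by decide), hTne 1 0 (by decide), hTii]
          · change (g 1)⁻¹ = T 0 (T 1 (T 2 (g 1)))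
            rw [hTne 2 1 (by decide), hTii, map_inv, hTne 0 1 (by decide)]
          · change (g 2)⁻¹ = T 0 (T 1 (T 2 (g 2)))
            rw [hTii, map_inv, map_inv, hTne 1 2 (by decide), hTne 0 2 (by decide)]
        rw [h4]
        exact Subgroup.mul_mem _ (hTc 0) (Subgroup.mul_mem _ (hTc 1) (hTc 2))
  · ext S
    constructor
    · intro hS
      have hSI : S ∈ I := hI₀.le hS
      have hpr : ∀ i j : Fin 3, S = T i * T j → S ∈ {S : MulAut P | ∃ T T' : MulAut P, T ∈ I ∧ T' ∈ I ∧ T ≠ 1 ∧ T' ≠ 1 ∧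
        ¬ Cyc T ∧ ¬ Cyc T' ∧ S = T * T'} := fun i j h =>
        ⟨T i, T j, hTI i, hTI j, hTne1 i, hTne1 j, hTbroad i, hTbroad j, h⟩
      rcases hclass S hSI with rfl | ⟨i, rfl⟩ | ⟨i, rfl⟩ | h3
      · exact hpr 0 0 (hTT 0).symm
      · exact absurd (hdisj _ hS (hTne1 i)) (hTbroad i)
      · obtain ⟨j, k, hij, hik, hjk⟩ := hthree i
        exact hpr j k (hUprod i j k hij hik hjk)
      · exfalso
        have h4 : S = T 0 * (T 1 * T 2) := by
          apply hagree
          intro i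
          rw [h3, MulAut.mul_apply, MulAut.mul_apply]
          fin_cases i
          · change (g 0)⁻¹ = T 0 (T 1 (T 2 (g 0)))
            rw [hTne 2 0 (by decide), hTne 1 0 (by decide), hTii]
          · change (g 1)⁻¹ = T 0 (T 1 (T 2 (g 1)))
            rw [hTne 2 1 (by decide), hTii, map_inv, hTne 0 1 (by decide)]
          · change (g 2)⁻¹ = T 0 (T 1 (T 2 (g 2)))
            rw [hTii, map_inv, map_inv, hTne 1 2 (by decide), hTne 0 2 (by decide)]
        have h5 : T 1 * T 2 ∈ I₀ := hUT 0 1 2 (by decide) (by decide) (by decide)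
        have h6 : T 0 ∈ I₀ := by
          have h7 : T 0 = S * (T 1 * T 2)⁻¹ := by rw [h4, mul_inv_cancel_right]
          rw [h7]
          exact I₀.mul_mem hS (I₀.inv_mem h5)
        exact hTbroad 0 (hdisj _ h6 (hTne1 0))
    · rintro ⟨τ, τ', h1, h2, h3, h4, h5, h6, rfl⟩
      exact hprod τ h1 τ' h2 h3 h4 h5 h6

end Main

end Cfsg.Agent.Lib.LocalEven.ElemAut
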