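import Cfsg.Agent.Lib.LocalEven.Kieler
import Cfsg.Agent.Lib.Transfer.Frattini

/-! Actions on the Frattini subgroup of a `p`-group. -/

namespace Cfsg.Agent.Lib.LocalEven

open Cfsg Cfsg.Agent.Lib.Basic
open scoped commutatorElement

variable {G : Type*} [Group G]

theorem mul_pow_mem_commutator (P : Subgroup G) {a b : G} (ha : a ∈ P) (hb : b ∈ P) (k : ℕ) :
    (a * b) ^ k * (a ^ k * b ^ k)⁻¹ ∈ (⁅P, P⁆ : Subgroup G) := by
  have h1 : (Abelianization.of (((⟨a, ha⟩ * ⟨b, hb⟩ : ↥P) ^ k) * ((⟨a, ha⟩ : ↥P) ^ k * (⟨b, hb⟩ : ↥P) ^ k)⁻¹ : ↥P)) = 1 := by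
    rw [map_mul, map_pow, map_inv, map_mul, map_mul, map_pow, map_pow, mul_pow, mul_inv_cancel]
  have h2 : (((⟨a, ha⟩ * ⟨b, hb⟩ : ↥P) ^ k) * ((⟨a, ha⟩ : ↥P) ^ k * (⟨b, hb⟩ : ↥P) ^ k)⁻¹ : ↥P) ∈ commutator ↥P :=
    (QuotientGroup.eq_one_iff _).1 h1
  have h3 : ((((⟨a, ha⟩ * ⟨b, hb⟩ : ↥P) ^ k) * ((⟨a, ha⟩ : ↥P) ^ k * (⟨b, hb⟩ : ↥P) ^ k)⁻¹ : ↥P) : G) ∈ (commutator ↥P).map P.subtype :=
    ⟨_, h2, rfl⟩
  rw [Subgroup.map_subtype_commutator] at h3
  simpa using h3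

theorem commutator_le_frattini_map {p : ℕ} [Fact p.Prime] [Finite G] (P : Subgroup G) (hP : IsPGroup p P) :
    (⁅P, P⁆ : Subgroup G) ≤ (frattini ↥P).map P.subtype := by
  rw [← Subgroup.map_subtype_commutator]
  exact Subgroup.map_mono (Cfsg.Agent.Lib.Transfer.commutator_le_frattini hP)

/-- S2819. -/
theorem residual_closure_centralizes_frattini {p : ℕ} [Fact p.Prime] [Finite G] (P : Subgroup G) (hP : IsPGroup p ↥P)
    (H : Subgroup G) (hH : H ≤ Subgroup.normalizer (P : Set G)) (Y : Subgroup G) (hYH : Y ≤ H)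
    (hYc : Y ≤ Subgroup.centralizer ((⁅P, P⁆ : Subgroup G) : Set G)) (hel : IsElementaryAbelian p ⁅P, Y⁆)
    (NY : Subgroup G)
    (hNY : NY = (Subgroup.normalClosure ((Y.subgroupOf H : Subgroup ↥H) : Set ↥H)).map H.subtype) :
    (pResidual p ↥NY).map NY.subtype ≤ Subgroup.centralizer (((frattini ↥P).map P.subtype : Subgroup G) : Set G) := by
  classical
  set D : Subgroup G := ⁅P, P⁆ with hD
  have hHD : H ≤ Subgroup.normalizer (D : Set G) := fun h hh =>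
    normalizer_le_normalizer_commutator P P ⟨hH hh, hH hh⟩
  have hDP : D ≤ P := Subgroup.commutator_le_self P
  have hPD : P ≤ Subgroup.normalizer (D : Set G) := fun h hh =>
    normalizer_le_normalizer_commutator P P ⟨Subgroup.le_normalizer hh, Subgroup.le_normalizer hh⟩
  have hPconj : ∀ h ∈ H, ∀ x ∈ P, h * x * h⁻¹ ∈ P := fun h hh x hx =>
    (Subgroup.mem_normalizer_iff.1 (hH hh) x).1 hx
  have hDconj : ∀ h ∈ H, ∀ x ∈ D, h * x * h⁻¹ ∈ D := fun h hh x hx =>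
    (Subgroup.mem_normalizer_iff.1 (hHD hh) x).1 hx
  have hNYH : NY ≤ H := by
    rw [hNY]; exact Subgroup.map_subtype_le _
  -- Step 1: `NY` centralizes `D`
  have hNC : NY ≤ Subgroup.centralizer (D : Set G) := by
    have hn : ((Subgroup.centralizer (D : Set G)).subgroupOf H).Normal := by
      constructor
      rintro ⟨x, hx⟩ hx' ⟨g, hg⟩
      rw [Subgroup.mem_subgroupOf] at hx' ⊢
      exact (Subgroup.mem_normalizer_iff.1 (normalizer_le_normalizer_centralizer D (hHD hg)) x).1 hx'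
    have h1 : Subgroup.normalClosure ((Y.subgroupOf H : Subgroup ↥H) : Set ↥H) ≤
        (Subgroup.centralizer (D : Set G)).subgroupOf H := by
      apply Subgroup.normalClosure_le_normal
      intro y hy
      exact Subgroup.mem_subgroupOf.2 (hYc (Subgroup.mem_subgroupOf.1 hy))
    rw [hNY]
    rintro _ ⟨x, hx, rfl⟩
    exact Subgroup.mem_subgroupOf.1 (h1 hx)
  -- Step 2: the action on `p`-th powers modulo `D`
  let F : Subgroup ↥H :=
    { carrier := {h | ∀ x ∈ P, (h : G) * x ^ p * (h : G)⁻¹ * (x ^ p)⁻¹ ∈ D}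
      one_mem' := by
        intro x _
        simp [D.one_mem]
      mul_mem' := by
        rintro ⟨a, ha⟩ ⟨b, hb⟩ h1 h2 x hx
        have e : (a * b) * x ^ p * (a * b)⁻¹ * (x ^ p)⁻¹ =
            (a * (b * x ^ p * b⁻¹ * (x ^ p)⁻¹) * a⁻¹) * (a * x ^ p * a⁻¹ * (x ^ p)⁻¹) := by group
        show (a * b) * x ^ p * (a * b)⁻¹ * (x ^ p)⁻¹ ∈ D
        rw [e]
        exact D.mul_mem (hDconj a ha _ (h2 x hx)) (h1 x hx)
      inv_mem' := by
        rintro ⟨a, ha⟩ h1 x hx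
        show a⁻¹ * x ^ p * (a⁻¹)⁻¹ * (x ^ p)⁻¹ ∈ D
        have e : a⁻¹ * x ^ p * (a⁻¹)⁻¹ * (x ^ p)⁻¹ =
            a⁻¹ * (a * x ^ p * a⁻¹ * (x ^ p)⁻¹)⁻¹ * (a⁻¹)⁻¹ := by group
        rw [e]
        exact hDconj a⁻¹ (H.inv_mem ha) _ (D.inv_mem (h1 x hx)) }
  have hFn : F.Normal := by
    constructor
    rintro ⟨a, ha⟩ h1 ⟨g, hg⟩ x hx
    show (g * a * g⁻¹) * x ^ p * (g * a * g⁻¹)⁻¹ * (x ^ p)⁻¹ ∈ D
    have hz : g⁻¹ * x * (g⁻¹)⁻¹ ∈ P := hPconj g⁻¹ (H.inv_mem hg) x hx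
    have h2 := h1 _ hz
    have e1 : (g⁻¹ * x * (g⁻¹)⁻¹) ^ p = g⁻¹ * x ^ p * g := by
      rw [conj_pow]; group
    simp only at h2
    rw [e1] at h2
    have e : (g * a * g⁻¹) * x ^ p * (g * a * g⁻¹)⁻¹ * (x ^ p)⁻¹ =
        g * (a * (g⁻¹ * x ^ p * g) * a⁻¹ * (g⁻¹ * x ^ p * g)⁻¹) * g⁻¹ := by group
    rw [e]
    exact hDconj g hg _ h2
  have hYF : ∀ y ∈ Y, ∀ x ∈ P, y * x ^ p * y⁻¹ * (x ^ p)⁻¹ ∈ D := by
    intro y hy x hx
    set a := y * x * y⁻¹ * x⁻¹ with ha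
    have hac : a⁻¹ = ⁅x, y⁆ := by
      rw [ha, commutatorElement_def]; group
    have haC : a ∈ (⁅P, Y⁆ : Subgroup G) := by
      have h1 : ⁅x, y⁆ ∈ (⁅P, Y⁆ : Subgroup G) := Subgroup.commutator_mem_commutator hx hy
      rw [← hac] at h1
      simpa using Subgroup.inv_mem _ h1
    have hap : a ^ p = 1 := hel.2 a haC
    have haP : a ∈ P := by
      have h1 := hPconj y (hYH hy) x hx
      exact P.mul_mem h1 (P.inv_mem hx)
    have e1 : y * x ^ p * y⁻¹ = (a * x) ^ p := by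
      rw [← conj_pow]; congr 1; rw [ha]; group
    have h2 := mul_pow_mem_commutator P haP hx p
    rw [hap, one_mul] at h2
    rw [e1]
    exact h2
  have hNF : ∀ n ∈ NY, ∀ x ∈ P, n * x ^ p * n⁻¹ * (x ^ p)⁻¹ ∈ D := by
    have h1 : Subgroup.normalClosure ((Y.subgroupOf H : Subgroup ↥H) : Set ↥H) ≤ F := by
      apply Subgroup.normalClosure_le_normal
      intro y hy x hx
      exact hYF y (Subgroup.mem_subgroupOf.1 hy) x hx
    intro n hn x hx
    rw [hNY] at hn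
    obtain ⟨m, hm, rfl⟩ := hn
    exact h1 hm x hx
  -- Step 3: `Φ(P)`
  have hnP : ∀ n ∈ NY, ∀ x ∈ P, n * x * n⁻¹ ∈ P := fun n hn => hPconj n (hNYH hn)
  let N₀ : Subgroup ↥P :=
    { carrier := {x | ∀ n ∈ NY, n * (x : G) * n⁻¹ * (x : G)⁻¹ ∈ D}
      one_mem' := by
        intro n _
        simp [D.one_mem]
      mul_mem' := by
        rintro ⟨a, ha⟩ ⟨b, hb⟩ h1 h2 n hn
        show n * (a * b) * n⁻¹ * (a * b)⁻¹ ∈ D
        have e : n * (a * b) * n⁻¹ * (a * b)⁻¹ =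
            (n * a * n⁻¹) * (n * b * n⁻¹ * b⁻¹) * (n * a * n⁻¹)⁻¹ * (n * a * n⁻¹ * a⁻¹) := by group
        rw [e]
        have h3 := (Subgroup.mem_normalizer_iff.1 (hPD (hnP n hn a ha)) _).1 (h2 n hn)
        exact D.mul_mem h3 (h1 n hn)
      inv_mem' := by
        rintro ⟨a, ha⟩ h1 n hn
        show n * a⁻¹ * n⁻¹ * (a⁻¹)⁻¹ ∈ D
        have e : n * a⁻¹ * n⁻¹ * (a⁻¹)⁻¹ = a⁻¹ * (n * a * n⁻¹ * a⁻¹)⁻¹ * (a⁻¹)⁻¹ := by group
        rw [e]
        exact (Subgroup.mem_normalizer_iff.1 (hPD (P.inv_mem ha)) _).1 (D.inv_mem (h1 n hn)) }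
  have hDN₀ : ∀ x : ↥P, (x : G) ∈ D → x ∈ N₀ := by
    intro x hx n hn
    have := Subgroup.mem_centralizer_iff.1 (hNC hn) x hx
    have e : n * (x : G) * n⁻¹ * (x : G)⁻¹ = 1 := by
      rw [← this]; group
    rw [e]; exact D.one_mem
  have hN₀n : N₀.Normal := by
    constructor
    intro x hx g
    have h1 : ((g : G) * x * (g : G)⁻¹ * (x : G)⁻¹) ∈ D := by
      have : ⁅(g : G), (x : G)⁆ ∈ D := Subgroup.commutator_mem_commutator g.2 x.2
      rwa [commutatorElement_def] at this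
    have h2 : g * x * g⁻¹ * x⁻¹ ∈ N₀ := hDN₀ _ h1
    have e : g * x * g⁻¹ = (g * x * g⁻¹ * x⁻¹) * x := by group
    rw [e]
    exact N₀.mul_mem h2 hx
  have hle : frattini ↥P ≤ N₀ := by
    apply Cfsg.Agent.Lib.Transfer.frattini_le_of_elementary (p := p)
    · intro x n hn
      have := hNF n hn x x.2
      simpa using this
    · intro x z
      apply hDN₀
      have : ⁅(x : G), (z : G)⁆ ∈ D := Subgroup.commutator_mem_commutator x.2 z.2
      rwa [commutatorElement_def] at this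
  -- Step 4: coprime action
  rw [Subgroup.map_le_iff_le_comap]
  delta pResidual
  rw [Subgroup.closure_le]
  intro g hg
  have hgc : (orderOf (g : G)).Coprime p := by
    rw [Subgroup.orderOf_coe]; exact hg
  show (g : G) ∈ Subgroup.centralizer _
  have hΦp : IsPGroup p ((frattini ↥P).map P.subtype) := (hP.to_subgroup _).map _
  have h1 := coprime_commute_of_commutator_mem hgc hΦp (commutator_le_frattini_map P hP)
    (fun a ha => by
      have := Subgroup.mem_centralizer_iff.1 (hNC g.2) a ha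
      exact this.symm)
    (by
      rintro _ ⟨b, hb, rfl⟩
      have h2 := hle hb (g : G) g.2
      have e : (b : G) * (g : G) * (b : G)⁻¹ * (g : G)⁻¹ = ((g : G) * b * (g : G)⁻¹ * (b : G)⁻¹)⁻¹ := by group
      show (b : G) * (g : G) * (b : G)⁻¹ * (g : G)⁻¹ ∈ D
      rw [e]
      exact D.inv_mem h2)
  refine Subgroup.mem_centralizer_iff.2 ?_
  intro b hb
  exact (h1 b hb).symm

end Cfsg.Agent.Lib.LocalEven
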