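import Cfsg.Agent.Lib.LocalEven.InvZJ3

/-! Glauberman's argument for the control of strong fusion by `N_G(Z(J(D)))`, under the hypothesis that no
nontrivial `q`-element is inverted in this normalizer: the two forked steps. -/

set_option autoImplicit false
set_option linter.unusedSectionVars false
set_option linter.style.haveILetI false

namespace Cfsg.Agent.Lib.LocalEven.InvZJ

open Subgroup Cfsg Cfsg.Agent.Lib.LocalEven Cfsg.Agent.Lib.LocalEven2
open scoped commutatorElement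

universe u

variable {p : ℕ} [Fact p.Prime]

/-- The end of Glauberman's argument, with the dichotomy as a hypothesis. -/
theorem zj_core_inv (hp : p ≠ 2) (e : ℕ) {G : Type u} [Group G] [Finite G] (P : Sylow p G)
    (D : Subgroup G) (hD : IsStronglyClosed D (P : Subgroup G))
    (hZQ : zjZ e D ≤ pCore p G)
    (hdich : ∀ B : Subgroup G, B.Normal → B ≤ normalClosure ((zjZ e D : Subgroup G) : Set G) →
      ∀ A ∈ zjFam e D, B ≤ normalizer (A : Set G) →
      A ≤ pCore p G ∨ ∀ g : G, ∃ c ∈ centralizer (B : Set G), ∃ t ∈ (P : Subgroup G), g = c * t) :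
    (zjZ e D).Normal := by
  classical
  by_contra hnot
  obtain ⟨Q, hQdef⟩ : ∃ Q : Subgroup G, Q = pCore p G := ⟨_, rfl⟩
  rw [← hQdef] at hdich hZQ
  have hQn : Q.Normal := hQdef ▸ Cfsg.Agent.Lib.Basic.pCore_normal (G := G) p
  have hQp : IsPGroup p Q := hQdef ▸ Cfsg.Agent.Lib.Basic.pCore_isPGroup (G := G) p
  have hQP : Q ≤ P := hQdef ▸ Cfsg.Agent.Lib.Basic.pCore_le_sylow P
  have hQmax : ∀ N : Subgroup G, N.Normal → IsPGroup p N → N ≤ Q := fun N h1 h2 =>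
    hQdef ▸ Cfsg.Agent.Lib.Basic.le_pCore h1 h2
  have hDP : D ≤ P := hD.1
  have hDp : IsPGroup p D := P.isPGroup'.to_le hDP
  have hPD : (P : Subgroup G) ≤ normalizer (D : Set G) := fun t ht =>
    Cfsg.Agent.Lib.PGroups.mem_normalizer_of_conj_le' D t (fun x hx =>
      hD.2 x hx t (P.mul_mem (P.mul_mem ht (hDP hx)) (P.inv_mem ht)))
  obtain ⟨Z, hZdef⟩ : ∃ Z : Subgroup G, Z = zjZ e D := ⟨_, rfl⟩
  rw [← hZdef] at hnot hZQ hdich
  have hPZ : (P : Subgroup G) ≤ normalizer (Z : Set G) := fun t ht => by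
    rw [hZdef]; exact zjZ_mem_normalizer (hPD ht)
  have hZc : ∀ a ∈ Z, ∀ b ∈ Z, a * b = b * a := by rw [hZdef]; exact zjZ_comm
  have hZD : Z ≤ D := by rw [hZdef]; exact zjZ_le
  have hZA : ∀ A ∈ zjFam e D, Z ≤ A := fun A hA => by rw [hZdef]; exact zjZ_le_of_mem hA
  have hF6 : ∀ B : Subgroup G, Z ≤ B →
      (∀ g : G, ∃ c ∈ centralizer (B : Set G), ∃ t ∈ (P : Subgroup G), g = c * t) → False := by
    intro B hZB hall
    apply hnot
    constructor
    intro z hz g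
    obtain ⟨c, hc₁, t, ht, rfl⟩ := hall g
    have h1 : t * z * t⁻¹ ∈ Z := (mem_normalizer_iff.1 (hPZ ht) z).1 hz
    have h2 := mem_centralizer_iff.1 hc₁ _ (hZB h1)
    have e2 : c * t * z * (c * t)⁻¹ = c * (t * z * t⁻¹) * c⁻¹ := by group
    rw [e2, ← h2]
    have e3 : t * z * t⁻¹ * c * c⁻¹ = t * z * t⁻¹ := by group
    rw [e3]
    exact h1
  obtain ⟨V, hVdef⟩ : ∃ V : Subgroup G, V = normalClosure (Z : Set G) := ⟨_, rfl⟩
  have hVn : V.Normal := by rw [hVdef]; infer_instance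
  have hZV : Z ≤ V := by rw [hVdef]; exact subset_normalClosure
  have hVQ : V ≤ Q := by rw [hVdef]; exact normalClosure_le_normal hZQ
  have hVp : IsPGroup p V := hQp.to_le hVQ
  have hgenV : ∀ y ∈ Group.conjugatesOfSet (Z : Set G), ∃ z ∈ Z, ∃ g : G, y = g * z * g⁻¹ := by
    intro y hy
    obtain ⟨a, ha, hc'⟩ := Group.mem_conjugatesOfSet_iff.1 hy
    obtain ⟨c, hc'⟩ := isConj_iff.1 hc'
    exact ⟨a, ha, c, hc'.symm⟩
  have hVD : V ≤ D := by
    rw [hVdef]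
    refine (closure_le _).2 ?_
    intro y hy
    obtain ⟨z, hz, g, rfl⟩ := hgenV y hy
    exact hD.2 z (hZD hz) g (hQP (hQn.conj_mem z (hZQ hz) g))
  -- Step 3
  have hA0 : ∃ A ∈ zjFam e D, A ≤ Q := by
    let S : Set (Subgroup G) := {B | B.Normal ∧ B ≤ V ∧
      ¬ ∀ g : G, ∃ c ∈ centralizer (B : Set G), ∃ t ∈ (P : Subgroup G), g = c * t}
    have hVS : V ∈ S := ⟨hVn, le_rfl, fun h => hF6 V hZV h⟩
    obtain ⟨B, ⟨hBn, hBV, hBS⟩, hmin⟩ :=
      Set.exists_min_image S (fun B : Subgroup G => Nat.card B) (Set.toFinite _) ⟨V, hVS⟩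
    haveI := hBn
    haveI := hVn
    have hBp : IsPGroup p B := hVp.to_le hBV
    have hBP : B ≤ P := hBV.trans (hVQ.trans hQP)
    have hBne : B ≠ ⊥ := by
      rintro rfl
      apply hBS
      intro g
      refine ⟨g, ?_, 1, P.one_mem, by group⟩
      rw [mem_centralizer_iff]
      intro h hh
      rw [Subgroup.mem_bot.1 hh]; group
    have hWn : (⁅B, V⁆).Normal := Subgroup.commutator_normal B V
    have hWB : ⁅B, V⁆ ≤ B := Subgroup.commutator_le_left B V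
    have hWne := commutator_ne_of_isPGroup hVp hBV hBne
    have hWlt : ⁅B, V⁆ < B := lt_of_le_of_ne hWB hWne
    have hWall : ∀ g : G, ∃ c ∈ centralizer ((⁅B, V⁆ : Subgroup G) : Set G), ∃ t ∈ (P : Subgroup G), g = c * t := by
      by_contra hcon
      have := hmin _ ⟨hWn, hWB.trans hBV, hcon⟩
      exact absurd (Cfsg.Agent.Lib.OddLocal.card_lt_of_lt hWlt) (not_lt.2 this)
    have hXW : ⁅B, Z⁆ ≤ ⁅B, V⁆ := Subgroup.commutator_mono le_rfl hZV
    have hXZ : ⁅B, Z⁆ ≤ Z := by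
      rw [Subgroup.commutator_le]
      intro b hb z hz
      rw [commutatorElement_def]
      exact Z.mul_mem ((mem_normalizer_iff.1 (hPZ (hBP hb)) z).1 hz) (Z.inv_mem hz)
    have hXn : ∀ x ∈ ⁅B, Z⁆, ∀ g : G, g * x * g⁻¹ ∈ ⁅B, Z⁆ := by
      intro x hx g
      obtain ⟨c, hc₁, t, ht, rfl⟩ := hWall g
      have h1 : t * x * t⁻¹ ∈ ⁅B, Z⁆ := conj_mem_commutator (fun b hb => hBn.conj_mem b hb t)
        (fun z hz => (mem_normalizer_iff.1 (hPZ ht) z).1 hz) x hx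
      have h2 := mem_centralizer_iff.1 hc₁ _ (hXW h1)
      have e2 : c * t * x * (c * t)⁻¹ = c * (t * x * t⁻¹) * c⁻¹ := by group
      rw [e2, ← h2]
      have e3 : t * x * t⁻¹ * c * c⁻¹ = t * x * t⁻¹ := by group
      rw [e3]
      exact h1
    have hBVX : ⁅B, V⁆ ≤ ⁅B, Z⁆ := by
      rw [Subgroup.commutator_le]
      intro b hb v hv
      rw [hVdef] at hv
      unfold normalClosure at hv
      induction hv using Subgroup.closure_induction generalizing b with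
      | mem y hy =>
        obtain ⟨z, hz, g, rfl⟩ := hgenV y hy
        have h1 : g⁻¹ * b * g⁻¹⁻¹ ∈ B := hBn.conj_mem b hb g⁻¹
        have h2 : ⁅g⁻¹ * b * g⁻¹⁻¹, z⁆ ∈ ⁅B, Z⁆ := Subgroup.commutator_mem_commutator h1 hz
        have e2 : ⁅b, g * z * g⁻¹⁆ = g * ⁅g⁻¹ * b * g⁻¹⁻¹, z⁆ * g⁻¹ := by
          simp only [commutatorElement_def]; group
        rw [e2]
        exact hXn _ h2 g
      | one =>
        rw [commutatorElement_one_right]; exact one_mem _
      | mul v w _ _ ihv ihw =>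
        have e2 : ⁅b, v * w⁆ = ⁅b, v⁆ * (v * ⁅b, w⁆ * v⁻¹) := by
          simp only [commutatorElement_def]; group
        rw [e2]
        exact mul_mem (ihv b hb) (hXn _ (ihw b hb) v)
      | inv v _ ihv =>
        have e2 : ⁅b, v⁻¹⁆ = v⁻¹ * (⁅b, v⁆)⁻¹ * v⁻¹⁻¹ := by
          simp only [commutatorElement_def]; group
        rw [e2]
        exact hXn _ (inv_mem (ihv b hb)) v⁻¹
    have hXV : ∀ x ∈ ⁅B, Z⁆, ∀ v ∈ V, x * v = v * x := by
      intro x hx v hv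
      rw [hVdef] at hv
      have hle : closure (Group.conjugatesOfSet (Z : Set G)) ≤ centralizer ({x} : Set G) := by
        refine (closure_le _).2 ?_
        intro y hy
        obtain ⟨z, hz, g, rfl⟩ := hgenV y hy
        rw [SetLike.mem_coe, mem_centralizer_iff]
        intro u hu
        rw [Set.mem_singleton_iff.1 hu]
        have h1 : g⁻¹ * x * g⁻¹⁻¹ ∈ ⁅B, Z⁆ := hXn x hx g⁻¹
        have h2 := hZc _ (hXZ h1) z hz
        calc x * (g * z * g⁻¹) = g * ((g⁻¹ * x * g⁻¹⁻¹) * z) * g⁻¹ := by group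
          _ = g * (z * (g⁻¹ * x * g⁻¹⁻¹)) * g⁻¹ := by rw [h2]
          _ = _ := by group
      exact mem_centralizer_iff.1 (hle hv) x rfl
    have hB'X : ⁅B, B⁆ ≤ ⁅B, Z⁆ := (Subgroup.commutator_mono le_rfl hBV).trans hBVX
    have hB2 : ⁅⁅B, B⁆, B⁆ = ⊥ := by
      rw [eq_bot_iff, Subgroup.commutator_le]
      intro u hu v hv
      rw [Subgroup.mem_bot, commutatorElement_eq_one_iff_mul_comm]
      exact hXV u (hB'X hu) v (hBV hv)
    obtain ⟨A, hA, hmax⟩ := Set.exists_max_image (zjFam e D)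
      (fun A : Subgroup G => Nat.card (A ⊓ B : Subgroup G)) (Set.toFinite _) (zjFam_nonempty e D)
    have hBD : B ≤ D := hBV.trans hVD
    have hBN : B ≤ normalizer (A : Set G) := by
      by_contra hcon
      obtain ⟨A', hA', -, hlt⟩ := zj_replace hp hDp hA hBD hB2
        ((hB'X.trans hXZ).trans (hZA A hA))
        (by rw [Subgroup.normalizer_eq_top_iff.2 hBn]; exact le_top) hcon
      exact absurd hlt (not_lt.2 (hmax A' hA'))
    refine ⟨A, hA, ?_⟩
    rcases hdich B hBn (hVdef ▸ hBV) A hA hBN with h | h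
    · exact h
    · exact absurd h hBS
  -- Step 4
  obtain ⟨A₀, hA₀, hA₀Q⟩ := hA0
  obtain ⟨D₀, hD₀def⟩ : ∃ D₀ : Subgroup G, D₀ = D ⊓ Q := ⟨_, rfl⟩
  have hD₀n : D₀.Normal := by
    constructor
    intro x hx g
    rw [hD₀def] at hx ⊢
    have h1 : g * x * g⁻¹ ∈ Q := hQn.conj_mem x hx.2 g
    exact ⟨hD.2 x hx.1 g (hQP h1), h1⟩
  have hfam1 : ∀ A, A ∈ zjFam e D → A ≤ Q → A ∈ zjFam e D₀ := by
    intro A hA hAQ
    refine ⟨by rw [hD₀def]; exact le_inf hA.1 hAQ, hA.2.1, hA.2.2.1, ?_⟩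
    intro B hB h2 h3
    exact hA.2.2.2 B (hB.trans (by rw [hD₀def]; exact inf_le_left)) h2 h3
  have hA₀' := hfam1 A₀ hA₀ hA₀Q
  have hfam2 : ∀ A, A ∈ zjFam e D₀ → A ∈ zjFam e D := by
    intro A hA
    refine ⟨hA.1.trans (by rw [hD₀def]; exact inf_le_left), hA.2.1, hA.2.2.1, ?_⟩
    intro B hB h2 h3
    exact (hA₀.2.2.2 B hB h2 h3).trans (hA.2.2.2 A₀ hA₀'.1 hA₀.2.1 hA₀.2.2.1)
  obtain ⟨V₄, hV₄def⟩ : ∃ V₄ : Subgroup G, V₄ = zjZ e D₀ := ⟨_, rfl⟩
  have hV₄c : ∀ a ∈ V₄, ∀ b ∈ V₄, a * b = b * a := by rw [hV₄def]; exact zjZ_comm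
  have hV₄n : V₄.Normal := by
    apply Subgroup.normalizer_eq_top_iff.1
    rw [eq_top_iff]
    intro g _
    rw [hV₄def]
    apply zjZ_mem_normalizer
    rw [Subgroup.normalizer_eq_top_iff.2 hD₀n]
    exact mem_top g
  have hV₄D₀ : V₄ ≤ D₀ := by rw [hV₄def]; exact zjZ_le
  have hV₄D : V₄ ≤ D := hV₄D₀.trans (by rw [hD₀def]; exact inf_le_left)
  have hV₄Q : V₄ ≤ Q := hV₄D₀.trans (by rw [hD₀def]; exact inf_le_right)
  have hV₄p : IsPGroup p V₄ := hQp.to_le hV₄Q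
  have hZV₄ : Z ≤ V₄ := by
    intro z hz
    rw [hV₄def, mem_zjZ]
    have hzD : z ∈ zjZ e D := hZdef ▸ hz
    obtain ⟨-, h2, h3⟩ := mem_zjZ.1 hzD
    refine ⟨le_zjJ hA₀' (hZA A₀ hA₀ hz), ?_, h3⟩
    have hle : zjJ e D₀ ≤ zjJ e D := sSup_le fun A hA => le_zjJ (hfam2 A hA)
    rw [mem_centralizer_iff]
    intro j hj
    exact mem_centralizer_iff.1 h2 j (hle hj)
  have hVV₄ : V ≤ V₄ := by
    rw [hVdef]
    exact @normalClosure_le_normal _ _ _ _ hV₄n hZV₄
  have hallA : ∀ A ∈ zjFam e D, A ≤ Q := by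
    by_contra hcon
    push Not at hcon
    obtain ⟨A₁, hA₁, hA₁Q⟩ := hcon
    obtain ⟨A, ⟨hA, hAQ⟩, hmax⟩ := Set.exists_max_image {A | A ∈ zjFam e D ∧ ¬ A ≤ Q}
      (fun A : Subgroup G => Nat.card (A ⊓ V : Subgroup G)) (Set.toFinite _) ⟨A₁, hA₁, hA₁Q⟩
    have hN : V ≤ normalizer (A : Set G) := by
      by_contra hcon
      have hcomm : ⁅V, V⁆ = ⊥ := by
        rw [eq_bot_iff, Subgroup.commutator_le]
        intro u hu v hv
        rw [Subgroup.mem_bot, commutatorElement_eq_one_iff_mul_comm]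
        exact hV₄c u (hVV₄ hu) v (hVV₄ hv)
      obtain ⟨A', hA', hA'N, hlt⟩ := zj_replace hp hDp hA hVD
        (by rw [hcomm, Subgroup.commutator_bot_left]) (by rw [hcomm]; exact bot_le)
        (by rw [Subgroup.normalizer_eq_top_iff.2 hVn]; exact le_top) hcon
      have hA'Q : A' ≤ Q := by
        by_contra hcon2
        exact absurd hlt (not_lt.2 (hmax A' ⟨hA', hcon2⟩))
      have h5 : V ≤ A' := by
        refine hVV₄.trans ?_
        rw [hV₄def]
        exact zjZ_le_of_mem (hfam1 A' hA' hA'Q)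
      exact hcon (h5.trans hA'N)
    rcases hdich V hVn (hVdef ▸ le_rfl) A hA hN with h | h
    · exact hAQ h
    · exact hF6 V hZV h
  have hfamEq : zjFam e D = zjFam e D₀ := by
    ext A
    exact ⟨fun hA => hfam1 A hA (hallA A hA), hfam2 A⟩
  apply hnot
  have hZeq : Z = V₄ := by
    rw [hZdef, hV₄def]
    unfold zjZ zjJ
    rw [hfamEq]
  rw [hZeq]
  exact hV₄n



section central

variable {G : Type*} [Group G] [Finite G]

/-- The case `G = C_G(Q) P`, `Q = O_p(G)`. -/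
theorem control_central_case' {e : ℕ} (hpe : p ∣ e) (P : Sylow p G) (D : Subgroup G)
    (hD : IsStronglyClosed D (P : Subgroup G))
    (Y : Subgroup G) [hY : Y.Normal]
    (hYdef : Y = pCore p G ⊓ centralizer ((pCore p G : Subgroup G) : Set G))
    (hcov : ∀ g : G, ∃ c ∈ centralizer ((pCore p G : Subgroup G) : Set G), ∃ t ∈ (P : Subgroup G), g = c * t)
    (hq : ∀ (Ph : Sylow p (G ⧸ Y)) (Dh : Subgroup (G ⧸ Y)), IsStronglyClosed Dh (Ph : Subgroup (G ⧸ Y)) →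
      (Ph : Subgroup (G ⧸ Y)) = (P : Subgroup G).map (QuotientGroup.mk' Y) →
      (normalizer ((zjZ e Dh : Subgroup (G ⧸ Y)) : Set (G ⧸ Y))).comap (QuotientGroup.mk' Y) ≠ ⊤ →
      ∀ Û : Subgroup (G ⧸ Y), Û ≤ (Ph : Subgroup (G ⧸ Y)) →
        SSc (normalizer ((zjZ e Dh : Subgroup (G ⧸ Y)) : Set (G ⧸ Y))) (Ph : Subgroup (G ⧸ Y)) Û)
    (hTM : ∀ H : Subgroup G, (P : Subgroup G) ≤ H → H ≠ ⊤ →
      CtrlIn (normalizer ((zjZ e D : Subgroup G) : Set G)) H (P : Subgroup G)) :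
    ∀ U : Subgroup G, U ≤ (P : Subgroup G) →
      SSc (normalizer ((zjZ e D : Subgroup G) : Set G)) (P : Subgroup G) U := by
  classical
  have hpp : p.Prime := Fact.out
  obtain ⟨Q, hQdef⟩ : ∃ Q : Subgroup G, Q = pCore p G := ⟨_, rfl⟩
  rw [← hQdef] at hYdef hcov
  have hQn : Q.Normal := hQdef ▸ Cfsg.Agent.Lib.Basic.pCore_normal (G := G) p
  have hQp : IsPGroup p Q := hQdef ▸ Cfsg.Agent.Lib.Basic.pCore_isPGroup (G := G) p
  have hQP : Q ≤ P := hQdef ▸ Cfsg.Agent.Lib.Basic.pCore_le_sylow P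
  have hQmax : ∀ N : Subgroup G, N.Normal → IsPGroup p N → N ≤ Q := fun N h1 h2 =>
    hQdef ▸ Cfsg.Agent.Lib.Basic.le_pCore h1 h2
  haveI := hQn
  have hCn : (centralizer (Q : Set G)).Normal := inferInstance
  have hYQ : Y ≤ Q := hYdef ▸ inf_le_left
  have hYC : Y ≤ centralizer (Q : Set G) := hYdef ▸ inf_le_right
  have hYP : Y ≤ (P : Subgroup G) := hYQ.trans hQP
  have hYp : IsPGroup p Y := hQp.to_le hYQ
  have hDP : D ≤ P := hD.1
  have hPD : (P : Subgroup G) ≤ normalizer (D : Set G) := fun t ht =>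
    Cfsg.Agent.Lib.PGroups.mem_normalizer_of_conj_le' D t (fun x hx =>
      hD.2 x hx t (P.mul_mem (P.mul_mem ht (hDP hx)) (P.inv_mem ht)))
  have hPX : (P : Subgroup G) ≤ normalizer ((zjZ e D : Subgroup G) : Set G) := fun t ht =>
    zjZ_mem_normalizer (hPD ht)
  let π : G →* G ⧸ Y := QuotientGroup.mk' Y
  have hπ : Function.Surjective π := QuotientGroup.mk'_surjective Y
  have hπe : ∀ x y : G, π x = π y → x⁻¹ * y ∈ Y := fun x y h => QuotientGroup.eq.1 h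
  have hπ1 : ∀ x : G, π x = 1 ↔ x ∈ Y := fun x => QuotientGroup.eq_one_iff x
  -- the Sylow subgroup of the quotient
  obtain ⟨Ph, hPh⟩ : ∃ Ph : Sylow p (G ⧸ Y), (Ph : Subgroup (G ⧸ Y)) = (P : Subgroup G).map π :=
    ⟨P.mapSurjective hπ, Sylow.coe_mapSurjective _ _⟩
  have hmemP : ∀ x, π x ∈ (Ph : Subgroup (G ⧸ Y)) → x ∈ (P : Subgroup G) := by
    intro x hx
    rw [hPh] at hx
    obtain ⟨t, ht, he⟩ := hx
    have h1 := hYP (hπe t x he)
    have h2 := P.mul_mem ht h1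
    simpa using h2
  obtain ⟨D₁, hD₁⟩ : ∃ D₁ : Subgroup G, D₁ = (P : Subgroup G) ⊓ centralizer (Q : Set G) := ⟨_, rfl⟩
  have hYD₁ : Y ≤ D₁ := by
    rw [hD₁]
    exact le_inf hYP hYC
  have hD₁P : D₁ ≤ P := hD₁ ▸ inf_le_left
  have hD₁C : D₁ ≤ centralizer (Q : Set G) := hD₁ ▸ inf_le_right
  obtain ⟨Dh, hDh⟩ : ∃ Dh : Subgroup (G ⧸ Y), Dh = D₁.map π := ⟨_, rfl⟩
  have hmemD : ∀ x, π x ∈ Dh → x ∈ D₁ := by
    intro x hx
    rw [hDh] at hx
    obtain ⟨t, ht, he⟩ := hx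
    have h1 := hYD₁ (hπe t x he)
    have h2 := D₁.mul_mem ht h1
    simpa using h2
  have hDhP : Dh ≤ (Ph : Subgroup (G ⧸ Y)) := by
    rw [hDh, hPh]
    exact Subgroup.map_mono hD₁P
  have hDhsc : IsStronglyClosed Dh (Ph : Subgroup (G ⧸ Y)) := by
    refine ⟨hDhP, ?_⟩
    intro x hx g hg
    obtain ⟨g', rfl⟩ := hπ g
    rw [hDh] at hx
    obtain ⟨d, hd, rfl⟩ := hx
    have e1 : π g' * π d * (π g')⁻¹ = π (g' * d * g'⁻¹) := by simp only [map_mul, map_inv]
    rw [e1] at hg ⊢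
    rw [hDh]
    refine ⟨g' * d * g'⁻¹, ?_, rfl⟩
    rw [hD₁]
    exact ⟨hmemP _ hg, hCn.conj_mem d (hD₁C hd) g'⟩
  have hPhN : (Ph : Subgroup (G ⧸ Y)) ≤ normalizer (Dh : Set (G ⧸ Y)) := fun t ht =>
    Cfsg.Agent.Lib.PGroups.mem_normalizer_of_conj_le' Dh t (fun x hx =>
      hDhsc.2 x hx t (Ph.mul_mem (Ph.mul_mem ht (hDhP hx)) (Ph.inv_mem ht)))
  -- the preimage
  obtain ⟨M, hM⟩ : ∃ M : Subgroup G, M = (normalizer ((zjZ e Dh : Subgroup (G ⧸ Y)) : Set (G ⧸ Y))).comap π := ⟨_, rfl⟩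
  have hMmem : ∀ x, x ∈ M ↔ π x ∈ normalizer ((zjZ e Dh : Subgroup (G ⧸ Y)) : Set (G ⧸ Y)) := by
    intro x
    rw [hM]
    exact Iff.rfl
  have hPM : (P : Subgroup G) ≤ M := by
    intro t ht
    rw [hMmem]
    apply zjZ_mem_normalizer
    apply hPhN
    rw [hPh]
    exact ⟨t, ht, rfl⟩
  have hbC : ∀ b : G, ¬ p ∣ orderOf b → ∀ y ∈ Y, b * y = y * b := by
    intro b hb y hy
    have h1 := mem_of_not_dvd_of_cover (C := centralizer (Q : Set G)) P hcov hb
    exact (Subgroup.mem_centralizer_iff.1 h1 y (hYQ hy)).symm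
  have hC1 : M ≠ ⊤ → ∀ U : Subgroup G, U ≤ (P : Subgroup G) → SSc M (P : Subgroup G) U := by
    intro hMne
    apply alperin_descent P
    intro V hV T₀ hT₀ IHd h hh
    have hhV : ∀ v ∈ V, h * v * h⁻¹ ∈ V := fun v hv => (mem_normalizer_iff.1 hh v).1 hv
    by_cases hYV : Y ≤ V
    · have hVh : V.map π ≤ (Ph : Subgroup (G ⧸ Y)) := by
        rw [hPh]
        exact Subgroup.map_mono hV
      obtain ⟨xh, hxh, hxhc⟩ := hq Ph Dh hDhsc hPh (by rw [← hM]; exact hMne) (V.map π) hVh (π h) (by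
        rintro _ ⟨v, hv, rfl⟩
        rw [hPh]
        refine ⟨h * v * h⁻¹, hV (hhV v hv), ?_⟩
        simp only [map_mul, map_inv])
      obtain ⟨x, rfl⟩ := hπ xh
      have hxc : ∀ v ∈ V, π (x * v * x⁻¹) = π (h * v * h⁻¹) := by
        intro v hv
        have h1 := hxhc (π v) ⟨v, hv, rfl⟩
        simpa only [map_mul, map_inv] using h1
      have hxV : ∀ v ∈ V, x * v * x⁻¹ ∈ V := by
        intro v hv
        have h1 := hπe _ _ (hxc v hv).symm
        have h2 := V.mul_mem (hhV v hv) (hYV h1)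
        rwa [mul_inv_cancel_left] at h2
      have hxN : x ∈ normalizer (V : Set G) := Cfsg.Agent.Lib.PGroups.mem_normalizer_of_conj_le' V x hxV
      obtain ⟨y, hydef⟩ : ∃ y : G, y = x⁻¹ * h := ⟨_, rfl⟩
      have hyN : y ∈ normalizer (V : Set G) := by
        rw [hydef]
        exact mul_mem (inv_mem hxN) hh
      have hy : ∀ v ∈ V, (y * v * y⁻¹) * v⁻¹ ∈ Y := by
        intro v hv
        rw [← hπ1, hydef]
        have h1 := hxc v hv
        simp only [map_mul, map_inv, mul_inv_rev, inv_inv] at h1 ⊢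
        have e : (π x)⁻¹ * π h * π v * ((π h)⁻¹ * π x) * (π v)⁻¹ =
            (π x)⁻¹ * (π h * π v * (π h)⁻¹) * π x * (π v)⁻¹ := by group
        rw [e, ← h1]
        group
      obtain ⟨t, ht, hte⟩ := exists_sylow_action hYp hbC T₀ hyN hy
      have htP : t ∈ (P : Subgroup G) := by
        rw [hT₀] at ht
        exact ht.2
      refine ⟨x * t, M.mul_mem ((hMmem x).2 hxh) (hPM htP), fun v hv => ?_⟩
      have e : (x * t) * v * (x * t)⁻¹ = x * (t * v * t⁻¹) * x⁻¹ := by group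
      rw [e, ← hte v hv, hydef]
      group
    · -- enlarge `V`
      have hV'le : V ⊔ Y ≤ (P : Subgroup G) := sup_le hV hYP
      have hcard : Nat.card V < Nat.card (V ⊔ Y : Subgroup G) := by
        apply Cfsg.Agent.Lib.OddLocal.card_lt_of_lt
        refine lt_of_le_of_ne le_sup_left ?_
        intro he
        exact hYV (by rw [he]; exact le_sup_right)
      have hconj : V ⊔ Y ≤ (P : Subgroup G).comap (MulAut.conj h).toMonoidHom := by
        refine sup_le ?_ ?_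
        · intro v hv
          exact hV (hhV v hv)
        · intro y hy
          exact hYP (hY.conj_mem y hy h)
      obtain ⟨x, hx, hxu⟩ := IHd (V ⊔ Y) hV'le hcard h (fun u hu => hconj hu)
      exact ⟨x, hx, fun u hu => hxu u (le_sup_left (a := V) (b := Y) hu)⟩
  by_cases hMtop : M = ⊤
  · -- the normalizer is everything
    have hZtn : (zjZ e Dh : Subgroup (G ⧸ Y)).Normal := by
      apply Subgroup.normalizer_eq_top_iff.1
      rw [eq_top_iff]
      intro x _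
      obtain ⟨x', rfl⟩ := hπ x
      have : x' ∈ M := by rw [hMtop]; trivial
      exact (hMmem x').1 this
    have hZtle : (zjZ e Dh : Subgroup (G ⧸ Y)).comap π ≤ D₁ := fun x hx => hmemD x (zjZ_le hx)
    have hZtQ : (zjZ e Dh : Subgroup (G ⧸ Y)).comap π ≤ Q :=
      hQmax _ (hZtn.comap π) (P.isPGroup'.to_le (hZtle.trans hD₁P))
    have hZtY : (zjZ e Dh : Subgroup (G ⧸ Y)).comap π ≤ Y := by
      intro x hx
      have h0 : x ∈ Q ⊓ centralizer (Q : Set G) := ⟨hZtQ hx, hD₁C (hZtle hx)⟩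
      rw [← hYdef] at h0
      exact h0
    have hZtbot : (zjZ e Dh : Subgroup (G ⧸ Y)) = ⊥ := by
      rw [eq_bot_iff]
      intro z hz
      obtain ⟨z', rfl⟩ := hπ z
      rw [Subgroup.mem_bot, hπ1]
      exact hZtY hz
    have hDhbot : Dh = ⊥ := by
      by_contra hne
      obtain ⟨z, hzD, hz1, hzp, hzc⟩ := Cfsg.Agent.Lib.LocalEven2.exists_central_order_p Ph.isPGroup' hDhP hPhN hne
      have h1 : z ∈ zjZ e Dh := by
        refine mem_zjZ_of_central hzD ?_ (fun x hx => hzc x (hDhP hx))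
        obtain ⟨r, rfl⟩ := hpe
        rw [pow_mul, hzp, one_pow]
      rw [hZtbot] at h1
      exact hz1 (Subgroup.mem_bot.1 h1)
    refine control_base P hPX Q hcov ?_
    rw [← hD₁]
    intro d hd
    have h1 : π d ∈ Dh := by
      rw [hDh]
      exact ⟨d, hd, rfl⟩
    rw [hDhbot, Subgroup.mem_bot, hπ1] at h1
    exact hYQ h1
  · intro U hU g hg
    obtain ⟨x, hx, hxu⟩ := hC1 hMtop U hU g hg
    obtain ⟨x', hx', hx'u⟩ := hTM M hPM hMtop U hU x hx (fun u hu => by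
      rw [hxu u hu]
      exact hg u hu)
    exact ⟨x', hx', fun u hu => by rw [hx'u u hu, hxu u hu]⟩

end central

end Cfsg.Agent.Lib.LocalEven.InvZJ
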