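import Mathlib
import Cfsg.Agent.Lib.Transfer.Rank
import Cfsg.Agent.Lib.OddLocal.Rank2D
import Cfsg.Agent.Lib.Basic.Nilpotent
import Cfsg.Agent.Lib.Coprime.Action
import Cfsg.Agent.Lib.Basic.CoprimeAction2
import Cfsg.Agent.Lib.Basic.Glauberman
import Cfsg.Agent.Lib.Transfer.Frattini
import Cfsg.Agent.Lib.LocalEven.DerLen

/-!
A `p`-group (`p` odd) acting on a finite abelian group of order prime to `p`, generated by each of two
subsets `C` and `D` with `V = C_V(c) + C_V(d)` for all `c ∈ C`, `d ∈ D`, acts trivially.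
-/

set_option autoImplicit false

universe u v

namespace Cfsg.Agent.Lib.LocalEven.ModBlock

open Finset

section RingLemmas

variable {A : Type*} [Ring A] {p k : ℕ}

/-- The averaging element. -/
def Av (k p : ℕ) (s : A) : A := (k : A) * ∑ i ∈ range p, s ^ i

theorem mul_geom {s : A} (hs : s ^ p = 1) : s * ∑ i ∈ range p, s ^ i = ∑ i ∈ range p, s ^ i := by
  rw [Finset.mul_sum]
  have h1 := Finset.sum_range_succ (fun i => s ^ i) p
  have h2 := Finset.sum_range_succ' (fun i => s ^ i) p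
  simp only [pow_zero, hs] at h1 h2
  have h3 : ∑ i ∈ range p, s * s ^ i = ∑ i ∈ range p, s ^ (i + 1) :=
    Finset.sum_congr rfl (fun i _ => (pow_succ' s i).symm)
  rw [h3]
  exact add_right_cancel (h2.symm.trans h1)

theorem geom_comm (s : A) (p : ℕ) : Commute s (∑ i ∈ range p, s ^ i) :=
  Commute.sum_right _ _ _ (fun i _ => Commute.pow_right (Commute.refl s) i)

theorem Av_s {s : A} (hs : s ^ p = 1) : s * Av k p s = Av k p s := by
  unfold Av
  rw [← mul_assoc, ((Nat.cast_commute k s).symm).eq, mul_assoc, mul_geom hs]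

theorem Av_mul_s {s : A} (hs : s ^ p = 1) : Av k p s * s = Av k p s := by
  unfold Av
  rw [mul_assoc, ((geom_comm s p).symm).eq, mul_geom hs]

theorem pow_Av {s : A} (hs : s ^ p = 1) (m : ℕ) : s ^ m * Av k p s = Av k p s := by
  induction m with
  | zero => simp
  | succ m ih => rw [pow_succ, mul_assoc, Av_s hs, ih]

theorem Av_pow {s : A} (hs : s ^ p = 1) (m : ℕ) : Av k p s * s ^ m = Av k p s := by
  induction m with
  | zero => simp
  | succ m ih => rw [pow_succ, ← mul_assoc, ih, Av_mul_s hs]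

theorem geom_Av {s : A} (hs : s ^ p = 1) : (∑ i ∈ range p, s ^ i) * Av k p s = (p : A) * Av k p s := by
  rw [Finset.sum_mul, Finset.sum_congr rfl (fun i _ => pow_Av (k := k) hs i), Finset.sum_const,
    Finset.card_range, nsmul_eq_mul]

theorem Av_idem (hk : (k : A) * (p : A) = 1) {s : A} (hs : s ^ p = 1) :
    Av k p s * Av k p s = Av k p s := by
  conv_lhs => lhs; unfold Av
  rw [mul_assoc, geom_Av hs, ← mul_assoc, hk, one_mul]

theorem Av_commute {u s : A} (h : Commute u s) : Commute u (Av k p s) := by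
  unfold Av
  exact ((Nat.cast_commute k u).symm).mul_right
    (Commute.sum_right _ _ _ (fun i _ => h.pow_right i))

theorem conj_pow_ring {g g' s : A} (hg : g * g' = 1) (hg' : g' * g = 1) (i : ℕ) :
    (g * s * g') ^ i = g * s ^ i * g' := by
  induction i with
  | zero => simpa using hg.symm
  | succ i ih =>
    rw [pow_succ, ih, pow_succ]
    calc g * s ^ i * g' * (g * s * g') = g * s ^ i * (g' * g) * s * g' := by noncomm_ring
      _ = g * (s ^ i * s) * g' := by rw [hg']; noncomm_ring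

theorem Av_conj {g g' s : A} (hg : g * g' = 1) (hg' : g' * g = 1) :
    g * Av k p s * g' = Av k p (g * s * g') := by
  unfold Av
  have h1 : ∑ i ∈ range p, (g * s * g') ^ i = g * (∑ i ∈ range p, s ^ i) * g' := by
    rw [Finset.mul_sum, Finset.sum_mul]
    exact Finset.sum_congr rfl (fun i _ => conj_pow_ring hg hg' i)
  rw [h1]
  calc g * ((k : A) * ∑ i ∈ range p, s ^ i) * g' = (g * (k : A)) * (∑ i ∈ range p, s ^ i) * g' := by
        simp only [mul_assoc]
    _ = ((k : A) * g) * (∑ i ∈ range p, s ^ i) * g' := by rw [(Nat.cast_commute k g).eq]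
    _ = _ := by simp only [mul_assoc]

theorem Av_eq_one_imp {s : A} (hs : s ^ p = 1) (h : Av k p s = 1) : s = 1 := by
  have := Av_s (k := k) hs
  rw [h, mul_one] at this
  exact this

theorem Av_eq_zero_imp (hk : (k : A) * (p : A) = 1) {s : A} (h : Av k p s = 0) :
    ∑ i ∈ range p, s ^ i = 0 := by
  unfold Av at h
  have h1 : (p : A) * (k : A) = 1 := by rw [(Nat.cast_commute p (k : A)).eq, hk]
  calc ∑ i ∈ range p, s ^ i = (p : A) * ((k : A) * ∑ i ∈ range p, s ^ i) := by
        rw [← mul_assoc, h1, one_mul]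
    _ = 0 := by rw [h, mul_zero]

theorem sum_Av (hk : (k : A) * (p : A) = 1) {Z B : A} (hc : Commute B Z) (hp : 0 < p)
    (hsum : ∀ i, 0 < i → i < p → ∑ j ∈ range p, (Z ^ i) ^ j = 0) :
    ∑ j ∈ range p, Av k p (B * Z ^ j) = 1 := by
  unfold Av
  rw [← Finset.mul_sum]
  have h1 : ∑ j ∈ range p, ∑ i ∈ range p, (B * Z ^ j) ^ i =
      ∑ i ∈ range p, B ^ i * ∑ j ∈ range p, (Z ^ i) ^ j := by
    rw [Finset.sum_comm]
    refine Finset.sum_congr rfl (fun i _ => ?_)
    rw [Finset.mul_sum]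
    refine Finset.sum_congr rfl (fun j _ => ?_)
    rw [(hc.pow_right j).mul_pow, pow_right_comm]
  rw [h1, Finset.sum_eq_single 0]
  · simp [hk]
  · intro i hi hi0
    rw [hsum i (Nat.pos_of_ne_zero hi0) (Finset.mem_range.1 hi), mul_zero]
  · intro h
    exact absurd (Finset.mem_range.2 hp) h

theorem Av_orth {w y : A} (hc : Commute w y) (hw : w ^ p = 1)
    (hy : ∑ m ∈ range p, y ^ m = 0) : Av k p w * Av k p (w * y) = 0 := by
  conv_lhs => rhs; unfold Av
  have h1 : ∀ m, Av k p w * (w * y) ^ m = Av k p w * y ^ m := by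
    intro m
    rw [hc.mul_pow, ← mul_assoc, Av_pow hw]
  rw [← mul_assoc, ((Nat.cast_commute k (Av k p w)).symm).eq, mul_assoc, Finset.mul_sum,
    Finset.sum_congr rfl (fun m _ => h1 m), ← Finset.mul_sum, hy, mul_zero, mul_zero]

end RingLemmas

section Blocks

variable {V : Type u} [AddCommGroup V] {p k : ℕ}

theorem natCast_apply_end (n : ℕ) (v : V) : ((n : AddMonoid.End V)) v = n • v :=
  AddMonoid.End.natCast_apply n v

theorem sum_apply_end {ι : Type*} (s : Finset ι) (f : ι → AddMonoid.End V) (v : V) :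
    (∑ i ∈ s, f i) v = ∑ i ∈ s, f i v := by
  classical
  induction s using Finset.induction_on with
  | empty => simp
  | insert a s ha ih =>
    rw [Finset.sum_insert ha, Finset.sum_insert ha, ← ih]
    rfl

/-- The family of idempotents. -/
noncomputable def ee (k p : ℕ) (B Z : AddMonoid.End V) (j : ℕ) : AddMonoid.End V := Av k p (B * Z ^ j)

variable {B Z γ γ' : AddMonoid.End V}

theorem Z_pow_mod (hZ : Z ^ p = 1) (j : ℕ) : Z ^ j = Z ^ (j % p) := by
  conv_lhs => rw [← Nat.div_add_mod j p, pow_add, pow_mul, hZ, one_pow, one_mul]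

theorem ee_mod (hZ : Z ^ p = 1) (j : ℕ) : ee k p B Z j = ee k p B Z (j % p) := by
  unfold ee
  rw [← Z_pow_mod hZ]

theorem ee_modEq (hZ : Z ^ p = 1) {j l : ℕ} (h : j % p = l % p) : ee k p B Z j = ee k p B Z l := by
  rw [ee_mod hZ j, ee_mod hZ l, h]

theorem ee_pow (hc : Commute B Z) (hB : B ^ p = 1) (hZ : Z ^ p = 1) (j : ℕ) : (B * Z ^ j) ^ p = 1 := by
  rw [(hc.pow_right j).mul_pow, hB, one_mul, pow_right_comm, hZ, one_pow]

theorem ee_idem (hk : (k : AddMonoid.End V) * (p : AddMonoid.End V) = 1) (hc : Commute B Z)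
    (hB : B ^ p = 1) (hZ : Z ^ p = 1) (j : ℕ) : ee k p B Z j * ee k p B Z j = ee k p B Z j :=
  Av_idem hk (ee_pow hc hB hZ j)

theorem ee_orth (hc : Commute B Z) (hB : B ^ p = 1) (hZ : Z ^ p = 1)
    (hsum : ∀ i, ¬ p ∣ i → ∑ j ∈ range p, (Z ^ i) ^ j = 0) (j t : ℕ) (ht : ¬ p ∣ t) :
    ee k p B Z j * ee k p B Z (j + t) = 0 := by
  unfold ee
  have h1 : B * Z ^ (j + t) = (B * Z ^ j) * Z ^ t := by rw [pow_add, mul_assoc]
  rw [h1]
  apply Av_orth
  · exact Commute.mul_left (hc.pow_right t) ((Commute.refl Z).pow_pow j t)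
  · exact ee_pow hc hB hZ j
  · exact hsum t ht

theorem ee_conj (hg : γ * γ' = 1) (hg' : γ' * γ = 1) (hcZ : Commute γ Z) {s : ℕ}
    (hs : γ * B * γ' = B * Z ^ s) (j : ℕ) : γ * ee k p B Z j * γ' = ee k p B Z (j + s) := by
  unfold ee
  rw [Av_conj hg hg']
  have h1 : γ * (B * Z ^ j) * γ' = B * Z ^ (j + s) := by
    have h2 : γ * Z ^ j = Z ^ j * γ := (hcZ.pow_right j).eq
    calc γ * (B * Z ^ j) * γ' = γ * B * (γ' * γ) * Z ^ j * γ' := by
          rw [hg']; noncomm_ring
      _ = γ * B * γ' * (γ * Z ^ j) * γ' := by noncomm_ring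
      _ = γ * B * γ' * (Z ^ j * γ) * γ' := by rw [h2]
      _ = γ * B * γ' * Z ^ j * (γ * γ') := by noncomm_ring
      _ = B * Z ^ s * Z ^ j := by rw [hg, hs, mul_one]
      _ = B * Z ^ (j + s) := by rw [mul_assoc, ← pow_add, Nat.add_comm]
  rw [h1]

theorem ee_conj_pow (hg : γ * γ' = 1) (hg' : γ' * γ = 1) (hcZ : Commute γ Z) {s : ℕ}
    (hs : γ * B * γ' = B * Z ^ s) (m j : ℕ) :
    γ ^ m * ee k p B Z j * γ' ^ m = ee k p B Z (j + m * s) := by
  induction m with
  | zero => simp
  | succ m ih =>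
    have h1 : γ ^ (m + 1) * ee k p B Z j * γ' ^ (m + 1) =
        γ * (γ ^ m * ee k p B Z j * γ' ^ m) * γ' := by
      rw [pow_succ' γ m, pow_succ γ' m]; noncomm_ring
    rw [h1, ih, ee_conj hg hg' hcZ hs]
    congr 1
    ring

/-- Fixed points of an endomorphism. -/
def fixA (γ : AddMonoid.End V) : AddSubgroup V where
  carrier := {v | γ v = v}
  zero_mem' := map_zero γ
  add_mem' := by
    intro a b ha hb
    simp only [Set.mem_setOf_eq] at *
    rw [map_add, ha, hb]
  neg_mem' := by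
    intro a ha
    simp only [Set.mem_setOf_eq] at *
    rw [map_neg, ha]

theorem mem_fixA (γ : AddMonoid.End V) (v : V) : v ∈ fixA γ ↔ γ v = v := Iff.rfl

theorem exists_mul_mod {p s : ℕ} (hp : p.Prime) (hs : ¬ p ∣ s) (j : ℕ) : ∃ m, (m * s) % p = j % p := by
  have hcop : s.Coprime p := ((Nat.Prime.coprime_iff_not_dvd hp).2 hs).symm
  obtain ⟨m, -, hm⟩ := Nat.exists_mul_mod_eq_one_of_coprime hcop hp.one_lt
  refine ⟨j * m, ?_⟩
  have : j * m * s = j * (s * m) := by ring
  rw [this, Nat.mul_mod, hm, mul_one, Nat.mod_mod]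

theorem block_false [Finite V] [Nontrivial V] (hp : p.Prime) (hp3 : 3 ≤ p)
    (hk : (k : AddMonoid.End V) * (p : AddMonoid.End V) = 1)
    (hc : Commute B Z) (hB : B ^ p = 1) (hZ : Z ^ p = 1)
    (hsum : ∀ i, ¬ p ∣ i → ∑ j ∈ range p, (Z ^ i) ^ j = 0)
    {c c' d d' : AddMonoid.End V} (hcc : c * c' = 1) (hcc' : c' * c = 1) (hdd : d * d' = 1)
    (hdd' : d' * d = 1) (hcZ : Commute c Z) (hdZ : Commute d Z) {s t : ℕ}
    (hs : c * B * c' = B * Z ^ s) (ht : d * B * d' = B * Z ^ t) (hsp : ¬ p ∣ s) (htp : ¬ p ∣ t)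
    (hV : ∀ v : V, ∃ a b : V, v = a + b ∧ c a = a ∧ d b = b) : False := by
  classical
  have hp0 : 0 < p := hp.pos
  set e := ee k p B Z with he
  have hone : ∑ j ∈ range p, e j = 1 :=
    sum_Av hk hc hp0 (fun i hi0 hip => hsum i (Nat.not_dvd_of_pos_of_lt hi0 hip))
  have hdec : ∀ v : V, v = ∑ j ∈ range p, e j v := by
    intro v
    have h1 : (∑ j ∈ range p, e j) v = (1 : AddMonoid.End V) v := by rw [hone]
    rw [sum_apply_end] at h1
    exact h1.symm
  have hidem : ∀ j, e j * e j = e j := ee_idem hk hc hB hZ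
  have horth0 := ee_orth (k := k) hc hB hZ hsum
  have hort : ∀ j l, j % p ≠ l % p → e j * e l = 0 := by
    intro j l hjl
    have h2 : j ≤ l + p * j := by
      have : j ≤ p * j := Nat.le_mul_of_pos_left j hp0
      omega
    have h1 : e l = e (j + (l + p * j - j)) := by
      apply ee_modEq hZ
      have : j + (l + p * j - j) = l + p * j := by omega
      rw [this, Nat.add_mul_mod_self_left]
    rw [h1]
    apply horth0
    intro hd
    apply hjl
    have h3 : j ≡ l + p * j [MOD p] := (Nat.modEq_iff_dvd' h2).2 hd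
    have h4 : j % p = (l + p * j) % p := h3
    rw [h4, Nat.add_mul_mod_self_left]
  -- the conjugates of `e 0`
  have hconj : ∀ (γ γ' : AddMonoid.End V) (u : ℕ), γ * γ' = 1 → γ' * γ = 1 → Commute γ Z →
      γ * B * γ' = B * Z ^ u → ¬ p ∣ u → ∀ j, ∃ m, e j = γ ^ m * e 0 * γ' ^ m := by
    intro γ γ' u h1 h2 h3 h4 h5 j
    obtain ⟨m, hm⟩ := exists_mul_mod hp h5 j
    refine ⟨m, ?_⟩
    rw [ee_conj_pow h1 h2 h3 h4 m 0, Nat.zero_add]
    exact ee_modEq hZ hm.symm
  have hkill : ∀ (γ γ' : AddMonoid.End V) (u : ℕ), γ * γ' = 1 → γ' * γ = 1 → Commute γ Z →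
      γ * B * γ' = B * Z ^ u → ¬ p ∣ u → ∀ v : V, γ v = v → e 0 v = 0 → v = 0 := by
    intro γ γ' u h1 h2 h3 h4 h5 v hv h0
    have hv' : γ' v = v := by
      have h6 : (γ' * γ) v = γ' (γ v) := rfl
      rw [h2, hv] at h6
      exact h6.symm
    have hvm : ∀ m, (γ' ^ m) v = v := by
      intro m
      induction m with
      | zero => rfl
      | succ m ih =>
        have : (γ' ^ (m + 1)) v = (γ' ^ m) (γ' v) := by rw [pow_succ]; rfl
        rw [this, hv', ih]
    rw [hdec v]
    apply Finset.sum_eq_zero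
    intro j _
    obtain ⟨m, hm⟩ := hconj γ γ' u h1 h2 h3 h4 h5 j
    have : (γ ^ m * e 0 * γ' ^ m) v = (γ ^ m) (e 0 ((γ' ^ m) v)) := rfl
    rw [hm, this, hvm, h0, map_zero]
  -- sizes
  let V₀ : AddSubgroup V := (e 0 : V →+ V).range
  have hV₀ : ∀ v ∈ V₀, e 0 v = v := by
    rintro _ ⟨w, rfl⟩
    have : (e 0 * e 0) w = e 0 w := by rw [hidem]
    exact this
  have hfix : ∀ (γ γ' : AddMonoid.End V) (u : ℕ), γ * γ' = 1 → γ' * γ = 1 → Commute γ Z →
      γ * B * γ' = B * Z ^ u → ¬ p ∣ u → Nat.card (fixA γ) ≤ Nat.card V₀ := by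
    intro γ γ' u h1 h2 h3 h4 h5
    let f : fixA γ → V₀ := fun v => ⟨e 0 v, ⟨v, rfl⟩⟩
    apply Nat.card_le_card_of_injective f
    intro a b hab
    have h6 : e 0 (a : V) = e 0 (b : V) := congrArg Subtype.val hab
    have h7 : γ ((a : V) - b) = (a : V) - b := by
      rw [map_sub, a.2, b.2]
    have h8 := hkill γ γ' u h1 h2 h3 h4 h5 _ h7 (by rw [map_sub, h6, sub_self])
    exact Subtype.ext (sub_eq_zero.1 h8)
  have hsurj : Nat.card V ≤ Nat.card (fixA c) * Nat.card (fixA d) := by
    rw [← Nat.card_prod]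
    have : Function.Surjective (fun x : fixA c × fixA d => (x.1 : V) + x.2) := by
      intro v
      obtain ⟨a, b, rfl, ha, hb⟩ := hV v
      exact ⟨(⟨a, ha⟩, ⟨b, hb⟩), rfl⟩
    exact Nat.card_le_card_of_surjective _ this
  -- three blocks
  have hp2 : ¬ p ∣ 2 := by
    intro h
    have := Nat.le_of_dvd (by norm_num) h
    omega
  have h2sp : ¬ p ∣ 2 * s := by
    intro h
    rcases (Nat.Prime.dvd_mul hp).1 h with h1 | h1
    · exact hp2 h1
    · exact hsp h1
  have hs0 : 0 % p ≠ s % p := by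
    rw [Nat.zero_mod]
    intro h
    exact hsp (Nat.dvd_of_mod_eq_zero h.symm)
  have h2s0 : 0 % p ≠ (2 * s) % p := by
    rw [Nat.zero_mod]
    intro h
    exact h2sp (Nat.dvd_of_mod_eq_zero h.symm)
  have hs2s : s % p ≠ (2 * s) % p := by
    intro h
    apply hsp
    have h1 : s ≤ 2 * s := by omega
    have h3 : s ≡ 2 * s [MOD p] := h
    have h4 := (Nat.modEq_iff_dvd' h1).1 h3
    have h5 : 2 * s - s = s := by omega
    rwa [h5] at h4
  have hcomm1 : ∀ v : V, e s (c v) = c (e 0 v) := by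
    intro v
    have h1 := ee_conj (k := k) (p := p) hcc hcc' hcZ hs 0
    rw [Nat.zero_add] at h1
    have h2 : c * e 0 = e s * c := by
      calc c * e 0 = c * e 0 * (c' * c) := by rw [hcc', mul_one]
        _ = (c * e 0 * c') * c := by simp only [mul_assoc]
        _ = e s * c := by rw [h1]
    have h3 : (c * e 0) v = (e s * c) v := by rw [h2]
    exact h3.symm
  have hcc2 : (c * c) * (c' * c') = 1 := by
    calc (c * c) * (c' * c') = c * (c * c') * c' := by simp only [mul_assoc]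
      _ = 1 := by rw [hcc, mul_one, hcc]
  have hcc2' : (c' * c') * (c * c) = 1 := by
    calc (c' * c') * (c * c) = c' * (c' * c) * c := by simp only [mul_assoc]
      _ = 1 := by rw [hcc', mul_one, hcc']
  have hcomm2 : ∀ v : V, e (2 * s) (c (c v)) = c (c (e 0 v)) := by
    intro v
    have h1 := ee_conj_pow (k := k) (p := p) hcc hcc' hcZ hs 2 0
    rw [Nat.zero_add, pow_two, pow_two] at h1
    have h2 : (c * c) * e 0 = e (2 * s) * (c * c) := by
      calc (c * c) * e 0 = (c * c) * e 0 * ((c' * c') * (c * c)) := by rw [hcc2', mul_one]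
        _ = ((c * c) * e 0 * (c' * c')) * (c * c) := by simp only [mul_assoc]
        _ = e (2 * s) * (c * c) := by rw [h1]
    have h3 : ((c * c) * e 0) v = (e (2 * s) * (c * c)) v := by rw [h2]
    exact h3.symm
  have happ : ∀ {f g : AddMonoid.End V} (v : V), f * g = 0 → f (g v) = 0 := by
    intro f g v h
    have : (f * g) v = (0 : AddMonoid.End V) v := by rw [h]
    exact this
  have hid : ∀ (j : ℕ) (v : V), e j (e j v) = e j v := by
    intro j v
    have : (e j * e j) v = e j v := by rw [hidem]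
    exact this
  have hc_inj : ∀ v w : V, c v = c w → v = w := by
    intro v w h
    have h1 : (c' * c) v = (c' * c) w := congrArg c' h
    rw [hcc'] at h1
    exact h1
  have htriple : Nat.card V₀ ^ 3 ≤ Nat.card V := by
    have e3 : Nat.card V₀ ^ 3 = Nat.card (V₀ × V₀ × V₀) := by
      rw [Nat.card_prod, Nat.card_prod]; ring
    rw [e3]
    let f : V₀ × V₀ × V₀ → V := fun x => (x.1 : V) + c (x.2.1 : V) + c (c (x.2.2 : V))
    apply Nat.card_le_card_of_injective f
    have hrec : ∀ x : V₀ × V₀ × V₀, e 0 (f x) = x.1 ∧ e s (f x) = c (x.2.1 : V) ∧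
        e (2 * s) (f x) = c (c (x.2.2 : V)) := by
      rintro ⟨⟨u, hu⟩, ⟨v, hv⟩, ⟨w, hw⟩⟩
      have hu0 := hV₀ u hu
      have hv0 := hV₀ v hv
      have hw0 := hV₀ w hw
      have hcv : c v = e s (c v) := by rw [hcomm1, hv0]
      have hcw : c (c w) = e (2 * s) (c (c w)) := by rw [hcomm2, hw0]
      simp only [f, map_add]
      refine ⟨?_, ?_, ?_⟩
      · rw [hu0, hcv, hcw, happ _ (hort 0 s hs0), happ _ (hort 0 (2 * s) h2s0), add_zero, add_zero]
      · have h1 : e s u = 0 := by
          rw [← hu0]; exact happ _ (hort s 0 hs0.symm)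
        rw [h1, zero_add, hcv, hcw, happ _ (hort s (2 * s) hs2s), add_zero, hid]
      · have h1 : e (2 * s) u = 0 := by
          rw [← hu0]; exact happ _ (hort (2 * s) 0 h2s0.symm)
        rw [h1, zero_add, hcv, hcw, happ _ (hort (2 * s) s hs2s.symm), zero_add, hid]
    rintro ⟨a1, a2, a3⟩ ⟨b1, b2, b3⟩ hab
    obtain ⟨h1, h2, h3⟩ := hrec ⟨a1, a2, a3⟩
    obtain ⟨h4, h5, h6⟩ := hrec ⟨b1, b2, b3⟩
    rw [hab] at h1 h2 h3
    have e1 : a1 = b1 := Subtype.ext (h1.symm.trans h4)
    have e2 : a2 = b2 := Subtype.ext (hc_inj _ _ (h2.symm.trans h5))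
    have e3' : a3 = b3 := Subtype.ext (hc_inj _ _ (hc_inj _ _ (h3.symm.trans h6)))
    rw [e1, e2, e3']
  have hN : Nat.card V₀ ^ 3 ≤ Nat.card V₀ * Nat.card V₀ :=
    htriple.trans (hsurj.trans (Nat.mul_le_mul (hfix c c' s hcc hcc' hcZ hs hsp)
      (hfix d d' t hdd hdd' hdZ ht htp)))
  have hN0 : 0 < Nat.card V₀ := Nat.card_pos
  have hN1 : Nat.card V₀ ≤ 1 := by
    by_contra hcon
    have h2 : 2 ≤ Nat.card V₀ := by omega
    nlinarith [Nat.mul_le_mul h2 (le_refl (Nat.card V₀ * Nat.card V₀))]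
  have hsub : Subsingleton V₀ := (Nat.card_eq_one_iff_unique.1 (le_antisymm hN1 hN0)).1
  have hzero : ∀ v : V, e 0 v = 0 := by
    intro v
    exact congrArg Subtype.val (Subsingleton.elim (⟨e 0 v, ⟨v, rfl⟩⟩ : V₀) 0)
  have hall : ∀ v : V, v = 0 := by
    intro v
    rw [hdec v]
    apply Finset.sum_eq_zero
    intro j _
    obtain ⟨m, hm⟩ := hconj c c' s hcc hcc' hcZ hs hsp j
    have : (c ^ m * e 0 * c' ^ m) v = (c ^ m) (e 0 ((c' ^ m) v)) := rfl
    rw [hm, this, hzero, map_zero]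
  obtain ⟨v, hv⟩ := exists_ne (0 : V)
  exact hv (hall v)

end Blocks

section Main

open Subgroup

variable {P : Type*} [Group P] [Finite P] {p : ℕ} [hpf : Fact p.Prime]

/-- Restriction of the action to an invariant subgroup. -/
def resRho {V : Type u} [AddCommGroup V] (ρ : P →* AddMonoid.End V) (W : AddSubgroup V)
    (hW : ∀ g, ∀ x ∈ W, ρ g x ∈ W) : P →* AddMonoid.End W where
  toFun g :=
    { toFun := fun x => ⟨ρ g x, hW g x x.2⟩
      map_zero' := by
        apply Subtype.ext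
        exact map_zero (ρ g)
      map_add' := by
        intro a b
        apply Subtype.ext
        exact map_add (ρ g) _ _ }
  map_one' := by
    apply DFunLike.ext
    intro x
    apply Subtype.ext
    show ρ 1 (x : V) = x
    rw [map_one]
    rfl
  map_mul' := by
    intro a b
    apply DFunLike.ext
    intro x
    apply Subtype.ext
    show ρ (a * b) (x : V) = ρ a (ρ b x)
    rw [map_mul]
    rfl

theorem resRho_val {V : Type u} [AddCommGroup V] (ρ : P →* AddMonoid.End V) (W : AddSubgroup V)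
    (hW : ∀ g, ∀ x ∈ W, ρ g x ∈ W) (g : P) (x : W) : ((resRho ρ W hW g x : W) : V) = ρ g x := rfl

theorem ML (hp3 : 3 ≤ p) (hP : IsPGroup p P) {C D : Set P} (hC : closure C = ⊤) (hD : closure D = ⊤) :
    ∀ (n : ℕ) (V : Type u) [AddCommGroup V] [Finite V], Nat.card V = n → (Nat.card V).Coprime p →
      ∀ ρ : P →* AddMonoid.End V,
        (∀ c ∈ C, ∀ d ∈ D, ∀ v : V, ∃ a b : V, v = a + b ∧ ρ c a = a ∧ ρ d b = b) →
        ∀ g v, ρ g v = v := by
  intro n
  induction n using Nat.strong_induction_on with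
  | _ n ih =>
  intro V _ _ hn hcop ρ hV g₀ v₀
  classical
  by_contra hne
  have hp : p.Prime := hpf.out
  have hp2 : p ≠ 2 := by omega
  have hv₀ : v₀ ≠ 0 := by
    rintro rfl
    exact hne (map_zero _)
  haveI hVnt : Nontrivial V := nontrivial_of_ne v₀ 0 hv₀
  have hcard1 : 1 < Nat.card V := Finite.one_lt_card
  obtain ⟨k, -, hk0⟩ := Nat.exists_mul_mod_eq_one_of_coprime hcop.symm hcard1
  have hkv : ∀ v : V, k • (p • v) = v := by
    intro v
    rw [smul_smul, mul_comm]
    conv_lhs => rw [← Nat.div_add_mod (p * k) (Nat.card V), hk0, add_smul, mul_smul,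
      card_nsmul_eq_zero', one_smul]
    simp
  have hk : (k : AddMonoid.End V) * (p : AddMonoid.End V) = 1 := by
    ext v
    exact hkv v
  -- the reduction
  have hres : ∀ π : AddMonoid.End V, π * π = π → (∀ g, ρ g * π = π * ρ g) → π ≠ 1 →
      ∀ g v, ρ g (π v) = π v := by
    intro π hπ hπe hπ1 g v
    let W : AddSubgroup V := (π : V →+ V).range
    have hπv : ∀ w : V, π (π w) = π w := by
      intro w
      have : (π * π) w = π w := by rw [hπ]
      exact this
    have hWmem : ∀ x ∈ W, π x = x := by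
      rintro _ ⟨w, rfl⟩
      exact hπv w
    have hcomm : ∀ g w, ρ g (π w) = π (ρ g w) := by
      intro g w
      have : (ρ g * π) w = (π * ρ g) w := by rw [hπe]
      exact this
    have hW : ∀ g, ∀ x ∈ W, ρ g x ∈ W := by
      rintro g _ ⟨w, rfl⟩
      exact ⟨ρ g w, (hcomm g w).symm⟩
    have hWne : W ≠ ⊤ := by
      intro h
      apply hπ1
      ext x
      have hx : x ∈ W := by rw [h]; trivial
      exact hWmem x hx
    have hlt : Nat.card W < n := by
      rw [← hn]
      refine lt_of_le_of_ne (AddSubgroup.card_le_card_addGroup W) ?_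
      intro h
      exact hWne ((AddSubgroup.card_eq_iff_eq_top W).1 h)
    have hcopW : (Nat.card W).Coprime p :=
      Nat.Coprime.coprime_dvd_left (AddSubgroup.card_addSubgroup_dvd_card W) hcop
    have h1 := ih _ hlt W rfl hcopW (resRho ρ W hW) (by
      intro c hc d hd v
      obtain ⟨a, b, hab, ha, hb⟩ := hV c hc d hd v
      refine ⟨⟨π a, ⟨a, rfl⟩⟩, ⟨π b, ⟨b, rfl⟩⟩, ?_, ?_, ?_⟩
      · apply Subtype.ext
        show (v : V) = π a + π b
        rw [← map_add, ← hab, hWmem _ v.2]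
      · apply Subtype.ext
        show ρ c (π a) = π a
        rw [hcomm, ha]
      · apply Subtype.ext
        show ρ d (π b) = π b
        rw [hcomm, hb]) g ⟨π v, ⟨v, rfl⟩⟩
    exact congrArg Subtype.val h1
  have hIND : ∀ π : AddMonoid.End V, π * π = π → (∀ g, ρ g * π = π * ρ g) → π = 0 ∨ π = 1 := by
    intro π hπ hπe
    by_contra hcon
    push Not at hcon
    obtain ⟨h0, h1⟩ := hcon
    have h2 := hres π hπ hπe h1 g₀ v₀
    have h3 := hres (1 - π) (by
      rw [mul_sub, sub_mul, sub_mul, one_mul, mul_one, one_mul, hπ, sub_self, sub_zero]) (by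
      intro g
      rw [mul_sub, sub_mul, mul_one, one_mul, hπe]) (by
      intro h
      apply h0
      have : π = 1 - (1 - π) := by abel
      rw [this, h, sub_self]) g₀ v₀
    apply hne
    have e1 : v₀ = π v₀ + (1 - π) v₀ := by
      show v₀ = π v₀ + (v₀ - π v₀)
      abel
    rw [e1, map_add, h2, h3]
  -- the image group
  let ρ₁ := ρ.toHomUnits
  let Q : Subgroup (AddMonoid.End V)ˣ := ρ₁.range
  let q : P →* Q := ρ₁.rangeRestrict
  have hq : Function.Surjective q := ρ₁.rangeRestrict_surjective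
  let cq : Q → AddMonoid.End V := fun x => ((x : (AddMonoid.End V)ˣ) : AddMonoid.End V)
  have hcq_q : ∀ g, cq (q g) = ρ g := fun g => rfl
  have hcq_mul : ∀ x y, cq (x * y) = cq x * cq y := fun x y => rfl
  have hcq_one : cq 1 = 1 := rfl
  have hcq_pow : ∀ (x : Q) (n : ℕ), cq (x ^ n) = cq x ^ n := by
    intro x n
    show (((x ^ n : Q) : (AddMonoid.End V)ˣ) : AddMonoid.End V) = _
    rw [Subgroup.coe_pow, Units.val_pow_eq_pow_val]
  have hcq_inj : ∀ x y, cq x = cq y → x = y := fun x y h => Subtype.ext (Units.ext h)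
  haveI : Finite Q := Finite.of_surjective q hq
  have hQp : IsPGroup p Q := hP.of_surjective q hq
  have hcqcomm : ∀ (u : Q), u ∈ center Q → ∀ g, Commute (ρ g) (cq u) := by
    intro u hu g
    have h1 : q g * u = u * q g := mem_center_iff.1 hu (q g)
    show ρ g * cq u = cq u * ρ g
    rw [← hcq_q, ← hcq_mul, ← hcq_mul, h1]
  have hK1 : ∀ u : Q, u ∈ center Q → u ^ p = 1 → u ≠ 1 → ∑ j ∈ range p, cq u ^ j = 0 := by
    intro u huc hup hu1
    have hs : cq u ^ p = 1 := by rw [← hcq_pow, hup, hcq_one]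
    rcases hIND (Av k p (cq u)) (Av_idem hk hs) (fun g => (Av_commute (hcqcomm u huc g)).eq) with h | h
    · exact Av_eq_zero_imp hk h
    · exfalso
      apply hu1
      apply hcq_inj
      rw [Av_eq_one_imp hs h, hcq_one]
  by_cases hpc : ∀ w : Q, w ^ p = 1 → w ∈ center Q
  · -- all elements of order `p` are central
    have hfix : ∀ g, ρ g ≠ 1 → ∀ v : V, ρ g v = v → v = 0 := by
      intro g hg v hv
      have hx1 : q g ≠ 1 := by
        intro h
        apply hg
        rw [← hcq_q, h, hcq_one]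
      obtain ⟨t, ht⟩ := (IsPGroup.iff_orderOf.1 hQp) (q g)
      have ht0 : t ≠ 0 := by
        rintro rfl
        rw [pow_zero, orderOf_eq_one_iff] at ht
        exact hx1 ht
      obtain ⟨t', rfl⟩ := Nat.exists_eq_succ_of_ne_zero ht0
      set w := q g ^ (p ^ t') with hw
      have hwp : w ^ p = 1 := by
        rw [hw, ← pow_mul, ← pow_succ, ← ht]
        exact pow_orderOf_eq_one _
      have hw1 : w ≠ 1 := by
        apply pow_ne_one_of_lt_orderOf (pow_ne_zero _ hp.ne_zero)
        rw [ht]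
        exact Nat.pow_lt_pow_right hp.one_lt (Nat.lt_succ_self t')
      have h1 := hK1 w (hpc w hwp) hwp hw1
      have hfixm : ∀ m : ℕ, (ρ g ^ m) v = v := by
        intro m
        induction m with
        | zero => rfl
        | succ m ih2 =>
          have : (ρ g ^ (m + 1)) v = (ρ g ^ m) (ρ g v) := by rw [pow_succ]; rfl
          rw [this, hv, ih2]
      have hcw : ∀ j : ℕ, (cq w ^ j) v = v := by
        intro j
        rw [hw, hcq_pow, hcq_q, ← pow_mul]
        exact hfixm _
      have h2 : (∑ j ∈ range p, cq w ^ j) v = p • v := by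
        rw [sum_apply_end, Finset.sum_congr rfl (fun j _ => hcw j), Finset.sum_const, Finset.card_range]
      rw [h1] at h2
      have h3 : p • v = 0 := h2.symm
      rw [← hkv v, h3, smul_zero]
    have hex : ∀ {S : Set P}, closure S = ⊤ → ∃ c ∈ S, ρ c ≠ 1 := by
      intro S hS
      by_contra hcon
      push Not at hcon
      have h1 : closure S ≤ ρ.ker := by
        rw [closure_le]
        intro c hc
        exact hcon c hc
      rw [hS] at h1
      have h2 : g₀ ∈ ρ.ker := h1 (mem_top _)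
      rw [MonoidHom.mem_ker] at h2
      apply hne
      rw [h2]
      rfl
    obtain ⟨c, hc, hc1⟩ := hex hC
    obtain ⟨d, hd, hd1⟩ := hex hD
    obtain ⟨a, b, hab, ha, hb⟩ := hV c hc d hd v₀
    rw [hfix c hc1 a ha, hfix d hd1 b hb, add_zero] at hab
    exact hv₀ hab
  -- an element of order `p` which is not central
  push Not at hpc
  obtain ⟨w, hwp, hwc⟩ := hpc
  have hnc : ¬ IsCyclic Q := by
    intro hcyc
    apply hwc
    obtain ⟨g, hg⟩ := hcyc
    rw [mem_center_iff]
    intro y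
    obtain ⟨a, ha⟩ := mem_zpowers_iff.1 (hg w)
    obtain ⟨b, hb⟩ := mem_zpowers_iff.1 (hg y)
    rw [← ha, ← hb]
    exact ((Commute.refl g).zpow_zpow b a).eq
  obtain ⟨E₀, hE₀n, hE₀e, hE₀c⟩ := Cfsg.Agent.Lib.Transfer.exists_normal_elementary_sq hp2 hQp hnc
  haveI : Group.IsNilpotent Q := hQp.isNilpotent
  have hE₀ne : E₀ ≠ ⊥ := by
    rintro rfl
    rw [card_bot] at hE₀c
    have := hp.one_lt
    nlinarith
  have hinf := Cfsg.Agent.Lib.Basic.normal_inf_center_ne_bot E₀ hE₀ne
  obtain ⟨z, ⟨hzE, hzc⟩, hz1⟩ : ∃ z ∈ E₀ ⊓ center Q, z ≠ 1 := by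
    by_contra hcon
    push Not at hcon
    exact hinf ((Subgroup.eq_bot_iff_forall _).2 hcon)
  have hzp : z ^ p = 1 := hE₀e.2 z hzE
  have hzo : orderOf z = p := orderOf_eq_prime hzp hz1
  have hzcard : Nat.card (zpowers z) = p := by rw [Nat.card_zpowers, hzo]
  obtain ⟨a, haE, haz⟩ : ∃ a ∈ E₀, a ∉ zpowers z := by
    by_contra hcon
    push Not at hcon
    have h1 : Nat.card E₀ ≤ Nat.card (zpowers z) := Subgroup.card_le_of_le hcon
    rw [hE₀c, hzcard] at h1
    have := hp.one_lt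
    nlinarith
  have hap : a ^ p = 1 := hE₀e.2 a haE
  set Z := cq z with hZdef
  set B := cq a with hBdef
  have hZp : Z ^ p = 1 := by rw [hZdef, ← hcq_pow, hzp, hcq_one]
  have hBp : B ^ p = 1 := by rw [hBdef, ← hcq_pow, hap, hcq_one]
  have hBZ : Commute B Z := by
    have h1 : a * z = z * a := (mem_center_iff.1 hzc a)
    show cq a * cq z = cq z * cq a
    rw [← hcq_mul, ← hcq_mul, h1]
  have hsumZ : ∀ i, ¬ p ∣ i → ∑ j ∈ range p, (Z ^ i) ^ j = 0 := by
    intro i hi
    have h1 := hK1 (z ^ i) (pow_mem hzc i) (by rw [← pow_mul, mul_comm, pow_mul, hzp, one_pow]) (by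
      intro h
      apply hi
      rw [← hzo]
      exact orderOf_dvd_of_pow_eq_one h)
    rw [hcq_pow] at h1
    exact h1
  have hone : ∑ j ∈ range p, Av k p (B * Z ^ j) = 1 :=
    sum_Av hk hBZ hp.pos (fun i hi0 hip => hsumZ i (Nat.not_dvd_of_pos_of_lt hi0 hip))
  by_cases hac : a ∈ center Q
  · exfalso
    have h10 : (1 : AddMonoid.End V) ≠ 0 := by
      intro h
      apply hv₀
      have : (1 : AddMonoid.End V) v₀ = (0 : AddMonoid.End V) v₀ := by rw [h]
      exact this
    rw [← hone] at h10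
    obtain ⟨j, -, hj⟩ := Finset.exists_ne_zero_of_sum_ne_zero h10
    have hpow : (B * Z ^ j) ^ p = 1 := ee_pow hBZ hBp hZp j
    rcases hIND _ (Av_idem hk hpow) (fun g => (Av_commute (k := k) (p := p) (u := ρ g) (s := B * Z ^ j)
      ((hcqcomm a hac g).mul_right ((hcqcomm z hzc g).pow_right j))).eq) with h | h
    · exact hj h
    · have h1 := Av_eq_one_imp hpow h
      have h2 : a * z ^ j = 1 := by
        apply hcq_inj
        rw [hcq_mul, hcq_pow, hcq_one]
        exact h1
      apply haz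
      have h3 : a = (z ^ j)⁻¹ := eq_inv_of_mul_eq_one_left h2
      rw [h3]
      exact inv_mem (pow_mem (mem_zpowers z) j)
  -- the central part of `E₀`
  have hE₀Z : ∀ x ∈ E₀, x ∈ center Q → x ∈ zpowers z := by
    intro x hxE hxc
    by_contra hxz
    apply hac
    set A := zpowers z ⊔ zpowers x with hA
    have hAle : A ≤ E₀ := sup_le (by rw [zpowers_le]; exact hzE) (by rw [zpowers_le]; exact hxE)
    have hlt : zpowers z ≠ A := by
      intro h
      apply hxz
      rw [h]
      exact (le_sup_right : zpowers x ≤ A) (mem_zpowers x)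
    have h3 := Cfsg.Agent.Lib.LocalEven.DerLen.card_step hQp (le_sup_left : zpowers z ≤ A) hlt
    rw [hzcard] at h3
    have h4 : A = E₀ := Subgroup.eq_of_le_of_card_ge hAle (by rw [hE₀c, pow_two]; exact h3)
    have h5 : A ≤ center Q := sup_le (by rw [zpowers_le]; exact hzc) (by rw [zpowers_le]; exact hxc)
    exact h5 (h4.symm ▸ haE)
  have hzs : ∀ g : Q, ∃ s : ℕ, g * a * g⁻¹ = a * z ^ s := by
    intro g
    have h1 : E₀ ≤ Subgroup.upperCentralSeries Q 2 :=
      Cfsg.Agent.Lib.OddLocal.normal_sq_le_Z2 p hQp E₀ hE₀c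
    have h2 := h1 haE
    have h3 : a * g * a⁻¹ * g⁻¹ ∈ Subgroup.upperCentralSeries Q 1 :=
      (Subgroup.mem_upperCentralSeries_succ_iff).1 h2 g
    rw [Subgroup.upperCentralSeries_one] at h3
    set x := g * a * g⁻¹ * a⁻¹ with hx
    have h4 : x = (a * g * a⁻¹ * g⁻¹)⁻¹ := by rw [hx]; group
    have hxc : x ∈ center Q := by rw [h4]; exact inv_mem h3
    have hxE : x ∈ E₀ := E₀.mul_mem (hE₀n.conj_mem a haE g) (E₀.inv_mem haE)
    have hxz := hE₀Z x hxE hxc
    obtain ⟨s, hs⟩ := mem_powers_iff_mem_zpowers.2 hxz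
    refine ⟨s, ?_⟩
    have h5 : g * a * g⁻¹ = x * a := by rw [hx]; group
    rw [h5, ← hs]
    exact ((mem_center_iff.1 (pow_mem hzc s)) a).symm
  -- elements moving `a`
  have hex : ∀ {S : Set P}, closure S = ⊤ → ∃ c ∈ S, q c * a ≠ a * q c := by
    intro S hS
    by_contra hcon
    push Not at hcon
    have h1 : closure S ≤ (centralizer ({a} : Set Q)).comap q := by
      rw [closure_le]
      intro c hc
      show q c ∈ centralizer ({a} : Set Q)
      rw [mem_centralizer_singleton_iff]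
      exact hcon c hc
    rw [hS] at h1
    apply hac
    rw [mem_center_iff]
    intro y
    obtain ⟨g, rfl⟩ := hq y
    have h2 : q g ∈ centralizer ({a} : Set Q) := h1 (mem_top g)
    rw [mem_centralizer_singleton_iff] at h2
    exact h2
  have hdata : ∀ c, q c * a ≠ a * q c → ∃ s : ℕ, ρ c * B * ρ c⁻¹ = B * Z ^ s ∧ ¬ p ∣ s := by
    intro c hc
    obtain ⟨s, hs⟩ := hzs (q c)
    refine ⟨s, ?_, ?_⟩
    · have h1 := congrArg cq hs
      rw [hcq_mul, hcq_mul, hcq_mul, hcq_pow, hcq_q, ← map_inv, hcq_q] at h1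
      exact h1
    · intro hd
      apply hc
      have h1 : z ^ s = 1 := by
        rw [← hzo] at hd
        exact orderOf_dvd_iff_pow_eq_one.1 hd
      rw [h1, mul_one] at hs
      calc q c * a = q c * a * (q c)⁻¹ * q c := by group
        _ = a * q c := by rw [hs]
  obtain ⟨c, hc, hc1⟩ := hex hC
  obtain ⟨d, hd, hd1⟩ := hex hD
  obtain ⟨s, hs, hsp⟩ := hdata c hc1
  obtain ⟨t, ht, htp⟩ := hdata d hd1
  have hinv1 : ∀ g : P, ρ g * ρ g⁻¹ = 1 := fun g => by rw [← map_mul, mul_inv_cancel, map_one]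
  have hinv2 : ∀ g : P, ρ g⁻¹ * ρ g = 1 := fun g => by rw [← map_mul, inv_mul_cancel, map_one]
  exact block_false hp hp3 hk hBZ hBp hZp hsumZ (hinv1 c) (hinv2 c) (hinv1 d) (hinv2 d)
    (hcqcomm z hzc c) (hcqcomm z hzc d) hs ht hsp htp (hV c hc d hd)

end Main

section Final

open Subgroup

variable {G : Type u} [Group G] [Finite G] {p : ℕ} [hpf : Fact p.Prime]

theorem comm_of_conj_mem {N P : Subgroup G} [hNn : N.Normal] (hNP : N ⊓ P = ⊥) {n b : G} (hn : n ∈ N)
    (hb : b ∈ P) (h : n⁻¹ * b * n ∈ P) : n * b = b * n := by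
  have h1 : n⁻¹ * b * n * b⁻¹ ∈ P := P.mul_mem h (P.inv_mem hb)
  have h2 : n⁻¹ * b * n * b⁻¹ ∈ N := by
    have : n⁻¹ * b * n * b⁻¹ = n⁻¹ * (b * n * b⁻¹) := by group
    rw [this]
    exact N.mul_mem (N.inv_mem hn) (hNn.conj_mem n hn b)
  have h3 : n⁻¹ * b * n * b⁻¹ ∈ N ⊓ P := ⟨h2, h1⟩
  rw [hNP, mem_bot] at h3
  have h4 : n⁻¹ * b * n = b := mul_inv_eq_one.1 h3
  calc n * b = n * (n⁻¹ * b * n) := by rw [h4]
    _ = b * n := by group

theorem star (P : Sylow p G) (N : Subgroup G) [hNn : N.Normal] (hNP : N ⊓ (P : Subgroup G) = ⊥)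
    (T : Subgroup G) (hTN : T ≤ N) (hPT : (P : Subgroup G) ≤ normalizer (T : Set G)) {x c d : G}
    (hx : x ∈ T) (hc : c ∈ (P : Subgroup G)) (hd : d ∈ (P : Subgroup G))
    (hS : IsPGroup p ↥(closure ({x * c * x⁻¹, d} : Set G))) :
    ∃ n ∈ T, ∃ u ∈ T, x = n * u ∧ n * d = d * n ∧ u * c = c * u := by
  classical
  set G₁ : Subgroup G := T ⊔ (P : Subgroup G) with hG₁
  have hPG₁ : (P : Subgroup G) ≤ G₁ := le_sup_right
  have hTG₁ : T ≤ G₁ := le_sup_left
  set S := closure ({x * c * x⁻¹, d} : Set G) with hSdef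
  have hSG₁ : S ≤ G₁ := by
    rw [hSdef, closure_le]
    rintro y (rfl | rfl)
    · exact G₁.mul_mem (G₁.mul_mem (hTG₁ hx) (hPG₁ hc)) (G₁.inv_mem (hTG₁ hx))
    · exact hPG₁ hd
  have hS₁ : IsPGroup p ↥(S.subgroupOf G₁) := hS.comap_of_injective G₁.subtype G₁.subtype_injective
  obtain ⟨Sig, hSig⟩ := hS₁.exists_le_sylow
  let P₁ : Sylow p G₁ := P.subtype hPG₁
  obtain ⟨g, hg⟩ := MulAction.exists_smul_eq G₁ P₁ Sig
  obtain ⟨t, ht, y, hy, hgty⟩ := (Cfsg.Agent.Lib.Coprime.mem_sup_iff_of_le_normalizer hPT (g : G)).1 g.2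
  have hkey : ∀ s ∈ S, t⁻¹ * s * t ∈ (P : Subgroup G) := by
    intro s hs
    have h1 : (⟨s, hSG₁ hs⟩ : G₁) ∈ (Sig : Subgroup G₁) := hSig (by rw [mem_subgroupOf]; exact hs)
    rw [← hg, Sylow.coe_subgroup_smul, Subgroup.mem_pointwise_smul_iff_inv_smul_mem] at h1
    have h2 : g⁻¹ * (⟨s, hSG₁ hs⟩ : G₁) * g ∈ (P₁ : Subgroup G₁) := by
      simpa [MulAut.smul_def, MulAut.conj_inv_apply] using h1
    have h3 : (g : G)⁻¹ * s * g ∈ (P : Subgroup G) := by
      rw [Sylow.coe_subtype, mem_subgroupOf] at h2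
      exact h2
    rw [hgty] at h3
    have h4 : t⁻¹ * s * t = y * ((t * y)⁻¹ * s * (t * y)) * y⁻¹ := by group
    rw [h4]
    exact (P : Subgroup G).mul_mem ((P : Subgroup G).mul_mem hy h3) ((P : Subgroup G).inv_mem hy)
  have h1 := hkey d (subset_closure (Or.inr rfl))
  have h2 := hkey (x * c * x⁻¹) (subset_closure (Or.inl rfl))
  have htd := comm_of_conj_mem hNP (hTN ht) hd h1
  set u := t⁻¹ * x with hu
  have huT : u ∈ T := T.mul_mem (T.inv_mem ht) hx
  have h3 : (u⁻¹)⁻¹ * c * u⁻¹ ∈ (P : Subgroup G) := by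
    have : (u⁻¹)⁻¹ * c * u⁻¹ = t⁻¹ * (x * c * x⁻¹) * t := by rw [hu]; group
    rw [this]
    exact h2
  have huc := comm_of_conj_mem hNP (N.inv_mem (hTN huT)) hc h3
  refine ⟨t, ht, u, huT, by rw [hu]; group, htd, ?_⟩
  calc u * c = u * (c * u⁻¹) * u := by group
    _ = u * (u⁻¹ * c) * u := by rw [huc]
    _ = c * u := by group

/-- The conjugation automorphism of a subgroup. -/
def conjEquiv (T : Subgroup G) {g : G} (hg : g ∈ normalizer (T : Set G)) : T ≃* T where
  toFun r := ⟨g * r * g⁻¹, (mem_normalizer_iff.1 hg r).1 r.2⟩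
  invFun r := ⟨g⁻¹ * r * g, by
    apply (mem_normalizer_iff.1 hg (g⁻¹ * r * g)).2
    have : g * (g⁻¹ * r * g) * g⁻¹ = r := by group
    rw [this]
    exact r.2⟩
  left_inv := by
    intro r
    apply Subtype.ext
    show g⁻¹ * (g * r * g⁻¹) * g = r
    group
  right_inv := by
    intro r
    apply Subtype.ext
    show g * (g⁻¹ * r * g) * g⁻¹ = r
    group
  map_mul' := by
    intro a b
    apply Subtype.ext
    show g * (a * b) * g⁻¹ = g * a * g⁻¹ * (g * b * g⁻¹)
    group

/-- The action on the abelianization. -/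
noncomputable def rhoAb (P T : Subgroup G) (hPT : P ≤ normalizer (T : Set G)) :
    P →* AddMonoid.End (Additive (Abelianization T)) where
  toFun g := MonoidHom.toAdditive (Abelianization.map (conjEquiv T (hPT g.2)).toMonoidHom)
  map_one' := by
    apply DFunLike.ext
    intro v
    induction v using Additive.rec with
    | _ v =>
    obtain ⟨x, rfl⟩ := QuotientGroup.mk'_surjective _ v
    apply congrArg Additive.ofMul
    apply congrArg (Abelianization.of)
    apply Subtype.ext
    show (1 : G) * x * (1 : G)⁻¹ = x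
    group
  map_mul' := by
    intro a b
    apply DFunLike.ext
    intro v
    induction v using Additive.rec with
    | _ v =>
    obtain ⟨x, rfl⟩ := QuotientGroup.mk'_surjective _ v
    apply congrArg Additive.ofMul
    apply congrArg (Abelianization.of)
    apply Subtype.ext
    show ((a : G) * b) * x * ((a : G) * b)⁻¹ = a * (b * x * (b : G)⁻¹) * (a : G)⁻¹
    group

theorem rhoAb_of (P T : Subgroup G) (hPT : P ≤ normalizer (T : Set G)) (g : P) (x : T) :
    rhoAb P T hPT g (Additive.ofMul (Abelianization.of x)) =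
      Additive.ofMul (Abelianization.of (conjEquiv T (hPT g.2) x)) := rfl

theorem central_of_rgroup (hp3 : 3 ≤ p) (P : Sylow p G) (N : Subgroup G) [hNn : N.Normal]
    (hN : (Nat.card N).Coprime p) {C D : Set G}
    (hC : closure C = (P : Subgroup G)) (hD : closure D = (P : Subgroup G))
    (h : ∀ x ∈ N, ∀ c ∈ C, ∀ d ∈ D, IsPGroup p ↥(closure ({x * c * x⁻¹, d} : Set G)))
    (T : Subgroup G) (hTN : T ≤ N) (hPT : (P : Subgroup G) ≤ normalizer (T : Set G))
    {r : ℕ} [hrf : Fact r.Prime] (hT : IsPGroup r T) :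
    (P : Subgroup G) ≤ centralizer (T : Set G) := by
  classical
  obtain ⟨m, hm⟩ := P.isPGroup'.exists_card_eq
  have hNP : N ⊓ (P : Subgroup G) = ⊥ := by
    apply Subgroup.inf_eq_bot_of_coprime
    rw [hm]
    exact Nat.Coprime.pow_right m hN
  have hCP : ∀ c ∈ C, c ∈ (P : Subgroup G) := fun c hc => hC ▸ subset_closure hc
  have hDP : ∀ c ∈ D, c ∈ (P : Subgroup G) := fun c hc => hD ▸ subset_closure hc
  set C' : Set ↥(P : Subgroup G) := Subtype.val ⁻¹' C with hC'def
  set D' : Set ↥(P : Subgroup G) := Subtype.val ⁻¹' D with hD'def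
  have hgen : ∀ {E : Set G}, closure E = (P : Subgroup G) →
      closure ((Subtype.val : ↥(P : Subgroup G) → G) ⁻¹' E) = ⊤ := by
    intro E hE
    rw [eq_top_iff]
    rintro ⟨g, hg⟩ -
    have hg' : g ∈ closure E := by rw [hE]; exact hg
    have hsub : closure E ≤ ((closure ((Subtype.val : ↥(P : Subgroup G) → G) ⁻¹' E)).map
        (P : Subgroup G).subtype) := by
      rw [closure_le]
      intro e he
      have he' : e ∈ (P : Subgroup G) := by rw [← hE]; exact subset_closure he
      exact ⟨⟨e, he'⟩, subset_closure he, rfl⟩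
    obtain ⟨y, hy, hyg⟩ := hsub hg'
    have : y = ⟨g, hg⟩ := Subtype.ext hyg
    rw [← this]
    exact hy
  have hC' : closure C' = ⊤ := hgen hC
  have hD' : closure D' = ⊤ := hgen hD
  haveI : Finite (Additive (Abelianization T)) :=
    Finite.of_equiv _ (Additive.ofMul (α := Abelianization T))
  have hcardAb : Nat.card (Additive (Abelianization T)) ∣ Nat.card N := by
    have h1 : Nat.card (Additive (Abelianization T)) = Nat.card (Abelianization T) :=
      (Nat.card_congr (Additive.ofMul (α := Abelianization T))).symm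
    rw [h1]
    exact (Subgroup.card_quotient_dvd_card (commutator T)).trans (Subgroup.card_dvd_of_le hTN)
  have hcopV : (Nat.card (Additive (Abelianization T))).Coprime p :=
    Nat.Coprime.coprime_dvd_left hcardAb hN
  have hML := ML (P := ↥(P : Subgroup G)) hp3 P.isPGroup' hC' hD' _ (Additive (Abelianization T)) rfl hcopV
    (rhoAb (P : Subgroup G) T hPT) (by
      intro c hc d hd v
      induction v using Additive.rec with
      | _ v =>
      obtain ⟨x, rfl⟩ := QuotientGroup.mk'_surjective _ v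
      obtain ⟨n, hn, u, hu, hx, hnd, huc⟩ := star P N hNP T hTN hPT x.2 c.2 d.2
        (h x (hTN x.2) c hc d hd)
      refine ⟨Additive.ofMul (Abelianization.of ⟨u, hu⟩), Additive.ofMul (Abelianization.of ⟨n, hn⟩),
        ?_, ?_, ?_⟩
      · rw [← ofMul_mul]
        apply congrArg Additive.ofMul
        rw [mul_comm, ← map_mul]
        apply congrArg (Abelianization.of)
        apply Subtype.ext
        exact hx
      · rw [rhoAb_of]
        apply congrArg Additive.ofMul
        apply congrArg (Abelianization.of)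
        apply Subtype.ext
        show (c : G) * u * (c : G)⁻¹ = u
        rw [← huc]
        group
      · rw [rhoAb_of]
        apply congrArg Additive.ofMul
        apply congrArg (Abelianization.of)
        apply Subtype.ext
        show (d : G) * n * (d : G)⁻¹ = n
        rw [← hnd]
        group)
  apply Cfsg.Agent.Lib.Basic.le_centralizer_of_trivial_on_frattini hPT
  · rw [hm]
    apply Nat.Coprime.pow_left
    apply Nat.Coprime.symm
    exact Nat.Coprime.coprime_dvd_left ((Subgroup.card_subgroup_dvd_card _).trans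
      (Subgroup.card_dvd_of_le hTN)) hN
  · intro a ha k hk
    have h1 := hML ⟨a, ha⟩ (Additive.ofMul (Abelianization.of ⟨k, hk⟩))
    rw [rhoAb_of] at h1
    have h2 := Additive.ofMul.injective h1
    have h3 : Abelianization.of ((conjEquiv T (hPT ha) ⟨k, hk⟩) * (⟨k, hk⟩ : T)⁻¹) = 1 := by
      rw [map_mul, h2, map_inv, mul_inv_cancel]
    have h4 : (conjEquiv T (hPT ha) ⟨k, hk⟩) * (⟨k, hk⟩ : T)⁻¹ ∈ commutator T :=
      (QuotientGroup.eq_one_iff _).1 h3
    have h5 := Cfsg.Agent.Lib.Transfer.commutator_le_frattini hT h4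
    exact ⟨_, h5, rfl⟩

theorem commutator_bot (hp3 : 3 ≤ p) (P : Sylow p G) (N : Subgroup G) [hNn : N.Normal]
    (hN : (Nat.card N).Coprime p) {C D : Set G}
    (hC : closure C = (P : Subgroup G)) (hD : closure D = (P : Subgroup G))
    (h : ∀ x ∈ N, ∀ c ∈ C, ∀ d ∈ D, IsPGroup p ↥(closure ({x * c * x⁻¹, d} : Set G))) :
    ⁅(P : Subgroup G), N⁆ = ⊥ := by
  classical
  obtain ⟨m, hm⟩ := P.isPGroup'.exists_card_eq
  have hPN : (P : Subgroup G) ≤ normalizer (N : Set G) := by
    rw [show normalizer (N : Set G) = ⊤ from Subgroup.normalizer_eq_top N]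
    exact le_top
  have hcop : (Nat.card (P : Subgroup G)).Coprime (Nat.card N) := by
    rw [hm]
    exact Nat.Coprime.pow_left m hN.symm
  have hsolvP : Group.IsSolvable ↥(P : Subgroup G) := by
    haveI : Group.IsNilpotent ↥(P : Subgroup G) := P.isPGroup'.isNilpotent
    exact inferInstance
  have hcenN : N ≤ centralizer ((P : Subgroup G) : Set G) := by
    set Cn : Subgroup N := (centralizer ((P : Subgroup G) : Set G)).subgroupOf N with hCn
    have hidx : Cn.index = 1 := by
      rw [Nat.eq_one_iff_not_exists_prime_dvd]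
      intro r hr hrd
      haveI : Fact r.Prime := ⟨hr⟩
      obtain ⟨R, hR⟩ := Cfsg.Agent.Lib.Basic.exists_invariant_sylow hPN hcop (Or.inl hsolvP) r
      have hT : IsPGroup r ↥((R : Subgroup N).map N.subtype) :=
        R.isPGroup'.map N.subtype
      have hle := central_of_rgroup hp3 P N hN hC hD h _
        (by rintro _ ⟨y, -, rfl⟩; exact y.2) hR hT
      have hRC : (R : Subgroup N) ≤ Cn := by
        intro y hy
        rw [hCn, mem_subgroupOf]
        rw [mem_centralizer_iff]
        intro g hg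
        have h1 := hle hg
        rw [mem_centralizer_iff] at h1
        exact (h1 y ⟨y, hy, rfl⟩).symm
      have h2 : Cn.index ∣ (R : Subgroup N).index := Subgroup.index_dvd_of_le hRC
      exact R.not_dvd_index (hrd.trans h2)
    have h3 : Cn = ⊤ := Subgroup.index_eq_one.1 hidx
    intro y hy
    have h4 : (⟨y, hy⟩ : N) ∈ Cn := by rw [h3]; trivial
    rw [hCn, mem_subgroupOf] at h4
    exact h4
  rw [Subgroup.commutator_eq_bot_iff_le_centralizer]
  rw [le_centralizer_iff]
  exact hcenN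

end Final

end Cfsg.Agent.Lib.LocalEven.ModBlock
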