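/-
Maximal subgroups of `PSL₂(q)` from Dickson's theorem (helper23).
-/
import Mathlib
import Cfsg.Agent.Lib.Classical.DDih
import Cfsg.Agent.Lib.Classical.PslIco

set_option autoImplicit false
set_option linter.unusedSimpArgs false
set_option linter.unusedVariables false
set_option linter.unusedSectionVars false
set_option linter.style.haveILetI false

namespace Cfsg.Agent.Lib.LocalEven.PslMax

open Cfsg.Agent.Lib.Classical Matrix
open scoped MatrixGroups

variable {F : Type*} [Field F]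

/-- Squares commute in dihedral groups. -/
theorem dih_sq_comm (c : ℕ) (x y : DihedralGroup c) : x ^ 2 * y ^ 2 = y ^ 2 * x ^ 2 := by
  rcases x with i | i <;> rcases y with j | j <;> simp [pow_two, add_comm]

/-- The master criterion for maximality from Dickson's theorem. -/
theorem coatom_master [Fintype F] {q : ℕ} (hF : Fintype.card F = q) (p : ℕ) [Fact p.Prime] [CharP F p]
    (H₀ : Subgroup (Pe F)) (hne : H₀ ≠ ⊤) {a b : Pe F} (ha : a ∈ H₀) (hb : b ∈ H₀)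
    (hab : a ^ 2 * b ^ 2 ≠ b ^ 2 * a ^ 2)
    (hA4 : ∀ L : Subgroup (Pe F), H₀ ≤ L → L ≠ H₀ → L ≠ ⊤ →
      Nonempty (L ≃* alternatingGroup (Fin 4)) → False)
    (hS4 : ∀ L : Subgroup (Pe F), H₀ ≤ L → L ≠ H₀ → L ≠ ⊤ →
      Nonempty (L ≃* Equiv.Perm (Fin 4)) → False)
    (hA5 : ∀ L : Subgroup (Pe F), H₀ ≤ L → L ≠ H₀ → L ≠ ⊤ →
      Nonempty (L ≃* alternatingGroup (Fin 5)) → False)
    (hB : ∀ (L : Subgroup (Pe F)) (P : GL (Fin 2) F), H₀ ≤ L →
      (∀ A : SL(2, F), mkP A ∈ conjSub P L → A.1 1 0 = 0) → False)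
    (hK : ∀ (L : Subgroup (Pe F)) (K₀ : Subfield F) (P : GL (Fin 2) F) (m : ℕ), H₀ ≤ L → L ≠ H₀ → L ≠ ⊤ →
      (Nat.card K₀) ^ m = q → 2 ≤ m → Nat.card L ≤ Nat.card K₀ * (Nat.card K₀ ^ 2 - 1) →
      (∀ x ∈ conjSub P L, x ^ p ≠ 1 → orderOf x ∣ Nat.card K₀ - 1 ∨ orderOf x ∣ Nat.card K₀ + 1) →
      (Nonempty (L ≃* Pe K₀) ∨ Nonempty (L ≃* Matrix.ProjGenLinGroup (Fin 2) K₀)) → False) :
    IsCoatom H₀ := by
  refine ⟨hne, fun L hL => ?_⟩
  by_contra hLtop
  have hle := hL.le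
  have hne' : L ≠ H₀ := hL.ne'
  let a' : L := ⟨a, hle ha⟩
  let b' : L := ⟨b, hle hb⟩
  have hab' : a' ^ 2 * b' ^ 2 ≠ b' ^ 2 * a' ^ 2 := fun h => hab (congrArg Subtype.val h)
  rcases dickson_num hF p L with ⟨h1, -⟩ | ⟨c, -, -, ⟨e⟩⟩ | h | h | h | ⟨P, hP⟩ |
      ⟨K₀, P, m, hm, hm1, hc, htop, hord, hiso⟩
  · letI := IsCyclic.commGroup (α := L)
    exact hab' (mul_comm _ _)
  · apply hab'
    apply e.injective
    simp only [map_mul, map_pow]
    exact dih_sq_comm c _ _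
  · exact hA4 L hle hne' hLtop h
  · exact hS4 L hle hne' hLtop h
  · exact hA5 L hle hne' hLtop h
  · exact hB L P hle hP
  · by_cases hm2 : m = 1
    · exact hLtop (htop hm2)
    · exact hK L K₀ P m hle hne' hLtop hm (by omega) hc hord hiso

section Borel

variable (p : ℕ) [hp : Fact p.Prime] [CharP F p]

theorem uu_pow_char (s : F) : mkP (uu s) ^ p = 1 := by
  apply pow_char_of_eig p (uu s) (v := ![1, 0]) (l := 1) (by simp) (by simp)
  ext i
  fin_cases i <;> simp [Matrix.mulVec, dotProduct, Fin.sum_univ_two, uu]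

theorem ll_pow_char (s : F) : mkP (ll s) ^ p = 1 := by
  apply pow_char_of_eig p (ll s) (v := ![0, 1]) (l := 1) (by simp) (by simp)
  ext i
  fin_cases i <;> simp [Matrix.mulVec, dotProduct, Fin.sum_univ_two, ll]

omit [CharP F p] hp in
theorem upper_eig (A : SL(2, F)) (h0 : A.1 1 0 = 0) :
    (A : Matrix (Fin 2) (Fin 2) F) *ᵥ ![1, 0] = A.1 0 0 • ![1, 0] := by
  ext i
  fin_cases i <;> simp [Matrix.mulVec, dotProduct, Fin.sum_univ_two, h0]

omit [CharP F p] hp in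
/-- An upper triangular matrix with diagonal `±1` is `± uu`. -/
theorem mkP_upper_eq (A : SL(2, F)) (h0 : A.1 1 0 = 0) (h1 : A.1 0 0 ^ 2 = 1) :
    mkP A = mkP (uu (A.1 0 0 * A.1 0 1)) := by
  have hd := sl_det A
  rw [h0] at hd
  have h11 : A.1 1 1 = A.1 0 0 := by
    linear_combination (A.1 0 0) * hd - (A.1 1 1) * h1
  have h2 : (A.1 0 0 - 1) * (A.1 0 0 + 1) = 0 := by linear_combination h1
  rw [mkP_eq_iff]
  rcases mul_eq_zero.mp h2 with h3 | h3
  · left
    have h4 : A.1 0 0 = 1 := by linear_combination h3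
    apply sl_ext <;> simp [h0, h11, h4]
  · right
    have h4 : A.1 0 0 = -1 := by linear_combination h3
    ext i j
    fin_cases i <;> fin_cases j <;> simp [h0, h11, h4, uu]

theorem mkP_uu_comm (s t : F) : mkP (uu s) * mkP (uu t) = mkP (uu t) * mkP (uu s) := by
  rw [← mkP_mul, ← mkP_mul]
  congr 1
  apply sl_ext <;> simp [sl_mul_apply, add_comm]

/-- `p`-elements commute in a Borel subgroup. -/
theorem borel_p_comm (K : Subgroup (Pe F)) (hK : ∀ A : SL(2, F), mkP A ∈ K → A.1 1 0 = 0) {x y : Pe F}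
    (hx : x ∈ K) (hy : y ∈ K) (hxp : x ^ p = 1) (hyp : y ^ p = 1) : x * y = y * x := by
  obtain ⟨A, rfl⟩ := mkP_surj x
  obtain ⟨B, rfl⟩ := mkP_surj y
  have hA := hK A hx
  have hB := hK B hy
  have h1 := (pow_char_iff p A (v := ![1, 0]) (by simp) (upper_eig A hA)).1 hxp
  have h2 := (pow_char_iff p B (v := ![1, 0]) (by simp) (upper_eig B hB)).1 hyp
  rw [mkP_upper_eq A hA h1, mkP_upper_eq B hB h2]
  exact mkP_uu_comm _ _

/-- Commutators of a Borel subgroup are `p`-elements. -/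
theorem borel_comm_pow (K : Subgroup (Pe F)) (hK : ∀ A : SL(2, F), mkP A ∈ K → A.1 1 0 = 0) {x y : Pe F}
    (hx : x ∈ K) (hy : y ∈ K) : (x * y * x⁻¹ * y⁻¹) ^ p = 1 := by
  obtain ⟨A, rfl⟩ := mkP_surj x
  obtain ⟨B, rfl⟩ := mkP_surj y
  obtain ⟨s, hs⟩ := comm_upper A B (hK A hx) (hK B hy)
  rw [← mkP_inv, ← mkP_inv, ← mkP_mul, ← mkP_mul, ← mkP_mul, hs]
  exact uu_pow_char p s

/-- `p`-elements of a subgroup conjugate into a Borel subgroup commute. -/
theorem conj_borel_p_comm {L : Subgroup (Pe F)} {P : GL (Fin 2) F}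
    (hP : ∀ A : SL(2, F), mkP A ∈ conjSub P L → A.1 1 0 = 0) {x y : Pe F}
    (hx : x ∈ L) (hy : y ∈ L) (hxp : x ^ p = 1) (hyp : y ^ p = 1) : x * y = y * x := by
  have h1 : (Th P).symm x ∈ conjSub P L := by
    rw [mem_conjSub, MulEquiv.apply_symm_apply]; exact hx
  have h2 : (Th P).symm y ∈ conjSub P L := by
    rw [mem_conjSub, MulEquiv.apply_symm_apply]; exact hy
  have h3 := borel_p_comm p _ hP h1 h2 (by rw [← map_pow, hxp, map_one]) (by rw [← map_pow, hyp, map_one])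
  apply (Th P).symm.injective
  simpa using h3

/-- Commutators of order two do not occur in a subgroup conjugate into a Borel subgroup, `p` odd. -/
theorem conj_borel_comm {L : Subgroup (Pe F)} {P : GL (Fin 2) F} (hp2 : p ≠ 2)
    (hP : ∀ A : SL(2, F), mkP A ∈ conjSub P L → A.1 1 0 = 0) {x y : Pe F}
    (hx : x ∈ L) (hy : y ∈ L) (h2 : (x * y * x⁻¹ * y⁻¹) ^ 2 = 1) : x * y * x⁻¹ * y⁻¹ = 1 := by
  have h1 : (Th P).symm x ∈ conjSub P L := by
    rw [mem_conjSub, MulEquiv.apply_symm_apply]; exact hx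
  have h1' : (Th P).symm y ∈ conjSub P L := by
    rw [mem_conjSub, MulEquiv.apply_symm_apply]; exact hy
  have h3 := borel_comm_pow p _ hP h1 h1'
  have h4 : (x * y * x⁻¹ * y⁻¹) ^ p = 1 := by
    apply (Th P).symm.injective
    simpa using h3
  have h5 : orderOf (x * y * x⁻¹ * y⁻¹) ∣ Nat.gcd 2 p :=
    Nat.dvd_gcd (orderOf_dvd_of_pow_eq_one h2) (orderOf_dvd_of_pow_eq_one h4)
  have h6 : Nat.gcd 2 p = 1 := by
    rw [← Nat.coprime_iff_gcd_eq_one]
    exact (Nat.coprime_primes Nat.prime_two hp.out).2 (Ne.symm hp2)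
  rw [h6, Nat.dvd_one, orderOf_eq_one_iff] at h5
  exact h5

end Borel

/-- `uu 1` and `ll 1` do not commute. -/
theorem uu_ll_ne : mkP (uu (1 : F)) * mkP (ll 1) ≠ mkP (ll 1) * mkP (uu 1) := by
  intro h
  rw [← mkP_mul, ← mkP_mul, mkP_eq_iff] at h
  rcases h with h | h
  · have h1 := congrArg (fun A : SL(2, F) => A.1 0 0) h
    simp [sl_mul_apply] at h1
  · have h1 := congrFun (congrFun h 0) 0
    have h2 := congrFun (congrFun h 0) 1
    have h3 : (ll (1 : F) * uu 1).1 0 0 = - (uu (1 : F) * ll 1).1 0 0 := h1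
    have h4 : (ll (1 : F) * uu 1).1 0 1 = - (uu (1 : F) * ll 1).1 0 1 := h2
    simp [sl_mul_apply] at h3 h4
    have h5 : (2 : F) = 0 := by linear_combination h4
    have h6 : (1 : F) = 0 := by linear_combination h3 - h5
    exact one_ne_zero h6

/-- Squares of `uu 1` and `ll 1` do not commute, characteristic not two. -/
theorem uu_ll_sq_ne (h2 : (2 : F) ≠ 0) :
    mkP (uu (1 : F)) ^ 2 * mkP (ll 1) ^ 2 ≠ mkP (ll 1) ^ 2 * mkP (uu 1) ^ 2 := by
  intro h
  rw [pow_two, pow_two, ← mkP_mul, ← mkP_mul, ← mkP_mul, ← mkP_mul, mkP_eq_iff] at h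
  have h4 : (4 : F) ≠ 0 := by
    have : (4 : F) = 2 * 2 := by norm_num
    rw [this]
    exact mul_ne_zero h2 h2
  rcases h with h | h
  · have h1 := congrArg (fun A : SL(2, F) => A.1 0 0) h
    simp [sl_mul_apply] at h1
    apply h2
    linear_combination h1
  · have h1 := congrFun (congrFun h 0) 1
    have h3 : (ll (1 : F) * ll 1 * (uu 1 * uu 1)).1 0 1 = - (uu (1 : F) * uu 1 * (ll 1 * ll 1)).1 0 1 := h1
    simp [sl_mul_apply] at h3
    apply h4
    linear_combination h3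

/-- Squares of a diagonal element and a conjugate do not commute, characteristic two. -/
theorem dg_sq_ne (h2 : (2 : F) = 0) (t : F) (ht : t ≠ 0) (ht1 : t ≠ 1) :
    mkP (dg t ht) ^ 2 * mkP (uu 1 * dg t ht * uu 1) ^ 2 ≠ mkP (uu 1 * dg t ht * uu 1) ^ 2 * mkP (dg t ht) ^ 2 := by
  intro h
  have hu : uu (1 : F) * uu 1 = 1 := by
    apply sl_ext <;> simp [sl_mul_apply]
    · linear_combination h2
  have e : (uu 1 * dg t ht * uu 1) ^ 2 = uu 1 * (dg t ht * dg t ht) * uu 1 := by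
    rw [pow_two]
    calc uu 1 * dg t ht * uu 1 * (uu 1 * dg t ht * uu 1)
        = uu 1 * dg t ht * (uu 1 * uu 1) * dg t ht * uu 1 := by group
      _ = _ := by rw [hu]; group
  rw [← mkP_pow, ← mkP_pow, ← mkP_mul, ← mkP_mul, e, mkP_eq_iff] at h
  have hneg : ∀ x : F, -x = x := fun x => by linear_combination (-x) * h2
  have hx : t ^ 4 * (t⁻¹) ^ 4 = 1 := by field_simp
  have hkey : (t ^ 2 + (t⁻¹) ^ 2) * (t ^ 2 + (t⁻¹) ^ 2) = 0 := by
    rcases h with h | h
    · have h1 := congrArg (fun A : SL(2, F) => A.1 0 1) h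
      simp [sl_mul_apply, pow_two] at h1
      have h3 := hneg (t * t * (t * t))
      have h4 := hneg (t⁻¹ * t⁻¹ * (t⁻¹ * t⁻¹))
      ring_nf at h1 h3 h4 ⊢
      grind
    · have h1 := congrFun (congrFun h 0) 1
      have h3 : (uu 1 * (dg t ht * dg t ht) * uu 1 * (dg t ht * dg t ht)).1 0 1 =
          - (dg t ht * dg t ht * (uu 1 * (dg t ht * dg t ht) * uu 1)).1 0 1 := by
        simpa [pow_two] using h1
      simp [sl_mul_apply, pow_two] at h3
      have h3' := hneg (t * t * (t * t))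
      have h4' := hneg (t⁻¹ * t⁻¹ * (t⁻¹ * t⁻¹))
      ring_nf at h3 h3' h4' ⊢
      grind
  have h5 : t ^ 2 + (t⁻¹) ^ 2 = 0 := mul_self_eq_zero.mp hkey
  have h6 : t ^ 4 = 1 := by
    have : t ^ 2 * (t ^ 2 + (t⁻¹) ^ 2) = t ^ 4 + 1 := by field_simp
    rw [h5, mul_zero] at this
    linear_combination -this - h2
  have h7 : (t - 1) ^ 4 = 0 := by
    have : (t - 1) ^ 4 = t ^ 4 + 1 + 2 * (- 2 * t ^ 3 + 3 * t ^ 2 - 2 * t) := by ring
    rw [this, h2, h6]
    linear_combination h2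
  exact ht1 (sub_eq_zero.mp (pow_eq_zero_iff (by norm_num) |>.mp h7))

/-! ### Small groups -/

set_option maxRecDepth 100000 in
theorem a4_elems : ∃ x y : alternatingGroup (Fin 4), x ^ 2 * y ^ 2 ≠ y ^ 2 * x ^ 2 ∧
    (x * y * x⁻¹ * y⁻¹) ^ 2 = 1 ∧ x * y * x⁻¹ * y⁻¹ ≠ 1 := by
  decide +kernel

set_option maxRecDepth 100000 in
theorem s4_elems : ∃ x y : Equiv.Perm (Fin 4), x ^ 2 * y ^ 2 ≠ y ^ 2 * x ^ 2 ∧
    (x * y * x⁻¹ * y⁻¹) ^ 2 = 1 ∧ x * y * x⁻¹ * y⁻¹ ≠ 1 := by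
  decide +kernel

set_option maxRecDepth 100000 in
theorem a5_elems : ∃ x y : alternatingGroup (Fin 5), x ^ 2 * y ^ 2 ≠ y ^ 2 * x ^ 2 ∧
    (x * y * x⁻¹ * y⁻¹) ^ 2 = 1 ∧ x * y * x⁻¹ * y⁻¹ ≠ 1 := by
  decide +kernel

set_option maxRecDepth 100000 in
theorem s4_four : ∃ x : Equiv.Perm (Fin 4), x ^ 2 ≠ 1 ∧ x ^ 4 = 1 := by
  decide +kernel

set_option maxRecDepth 100000 in
theorem a5_five : ∃ x : alternatingGroup (Fin 5), x ≠ 1 ∧ x ^ 5 = 1 := by
  decide +kernel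

theorem card_perm_four : Nat.card (Equiv.Perm (Fin 4)) = 24 := by
  rw [Nat.card_eq_fintype_card, Fintype.card_perm, Fintype.card_fin]
  rfl

/-- Elements transported along an isomorphism. -/
theorem elems_of_equiv {G X : Type*} [Group G] [Group X] {H : Subgroup G} (e : H ≃* X)
    (h : ∃ x y : X, x ^ 2 * y ^ 2 ≠ y ^ 2 * x ^ 2 ∧ (x * y * x⁻¹ * y⁻¹) ^ 2 = 1 ∧ x * y * x⁻¹ * y⁻¹ ≠ 1) :
    ∃ a ∈ H, ∃ b ∈ H, a ^ 2 * b ^ 2 ≠ b ^ 2 * a ^ 2 ∧ (a * b * a⁻¹ * b⁻¹) ^ 2 = 1 ∧ a * b * a⁻¹ * b⁻¹ ≠ 1 := by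
  obtain ⟨x, y, h1, h2, h3⟩ := h
  refine ⟨(e.symm x : G), (e.symm x).2, (e.symm y : G), (e.symm y).2, ?_, ?_, ?_⟩
  · intro h
    apply h1
    apply e.symm.injective
    apply Subtype.ext
    simpa using h
  · have := congrArg (fun z => (e.symm z : G)) h2
    simpa using this
  · intro h
    apply h3
    apply e.symm.injective
    apply Subtype.ext
    simpa using h

theorem elem_order {G X : Type*} [Group G] [Group X] {H : Subgroup G} (e : H ≃* X) (x : X) :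
    ∃ g ∈ H, orderOf g = orderOf x :=
  ⟨(e.symm x : G), (e.symm x).2, by rw [Subgroup.orderOf_coe, MulEquiv.orderOf_eq]⟩

theorem order_five_alt : ∃ x : alternatingGroup (Fin 5), orderOf x = 5 := by
  obtain ⟨x, h1, h2⟩ := a5_five
  haveI : Fact (Nat.Prime 5) := ⟨by norm_num⟩
  exact ⟨x, orderOf_eq_prime h2 h1⟩

theorem order_four_perm : ∃ x : Equiv.Perm (Fin 4), orderOf x = 4 := by
  obtain ⟨x, h1, h2⟩ := s4_four
  haveI : Fact (Nat.Prime 2) := ⟨by norm_num⟩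
  exact ⟨x, orderOf_eq_prime_pow (p := 2) (n := 1) (by simpa using h1) (by simpa using h2)⟩

/-- A field of prime order has that characteristic. -/
theorem charP_of_card_prime [Fintype F] {p : ℕ} (hp : p.Prime) (hF : Fintype.card F = p) : CharP F p := by
  obtain ⟨l, hl⟩ := CharP.exists F
  have hlp : l.Prime := CharP.char_is_prime F l
  obtain ⟨n, -, hn⟩ := FiniteField.card F l
  have h1 : l ∣ p := by
    rw [← hF, hn]
    exact dvd_pow_self _ n.ne_zero
  have h2 : l = p := (Nat.prime_dvd_prime_iff_eq hlp hp).1 h1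
  rwa [h2] at hl

theorem gcd_two_odd {q : ℕ} (hq : q % 2 = 1) : Nat.gcd 2 (q - 1) = 2 :=
  Nat.gcd_eq_left (by omega)

section SmallMax

variable [Fintype F]

/-- `p`-th power nontrivial from order. -/
theorem pow_ne_one_of_order {G : Type*} [Group G] {g : G} {n p : ℕ} (hn : orderOf g = n) (hp : ¬ n ∣ p) :
    g ^ p ≠ 1 := by
  intro h
  apply hp
  rw [← hn]
  exact orderOf_dvd_of_pow_eq_one h

/-- `S₄` is maximal in `PSL₂(p)`, `p ≡ ±1 (8)`. -/
theorem main_S4 (p : ℕ) [hp : Fact p.Prime] (hF : Fintype.card F = p) (h8 : p % 8 = 1 ∨ p % 8 = 7) :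
    ∃ H : Subgroup (Pe F), IsCoatom H ∧ Nonempty (H ≃* Equiv.Perm (Fin 4)) := by
  haveI := charP_of_card_prime hp.out hF
  have hodd : p % 2 = 1 := by omega
  have hp7 : 7 ≤ p := by
    by_contra hlt
    have h1 : p < 7 := by omega
    have := hp.out.two_le
    interval_cases p <;> omega
  have hchar : ringChar F ≠ 2 := by
    intro h
    have h1 := ringChar.Nat.cast_ringChar (R := F)
    rw [h] at h1
    have h2 : (2 : F) ≠ 0 := two_ne_zero_of_odd (by rw [hF]; exact Nat.odd_iff.2 hodd)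
    exact h2 (by exact_mod_cast h1)
  have hsq : IsSquare (2 : F) := FiniteField.isSquare_two_iff.2 (by rw [hF]; omega)
  obtain ⟨s, hs⟩ := hsq
  have hs' : s ^ 2 = 2 := by rw [pow_two, hs]
  obtain ⟨S⟩ := QSplit.nonempty_of_odd (F := F) (by rw [hF]; exact hodd)
  let D := S.s4 s hs'
  obtain ⟨e⟩ := D.S_equiv
  have hcard : Nat.card D.S = 24 := D.card_S
  obtain ⟨a, ha, b, hb, hab, hc2, hc1⟩ := elems_of_equiv e s4_elems
  have hG : 2 * Nat.card (Pe F) = p * (p ^ 2 - 1) := card_psl2_odd hF (Nat.odd_iff.2 hodd)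
  have hG2 : 24 < Nat.card (Pe F) := by
    have h1 : p * 48 ≤ p * (p ^ 2 - 1) := Nat.mul_le_mul_left _ (by
      have : 49 ≤ p ^ 2 := by nlinarith
      omega)
    omega
  have hp2 : p ≠ 2 := by omega
  refine ⟨D.S, ?_, ⟨e⟩⟩
  refine coatom_master hF p D.S ?_ ha hb hab ?_ ?_ ?_ ?_ ?_
  · intro h
    have := Nat.card_congr (MulEquiv.subgroupCongr h).toEquiv
    rw [hcard, Nat.card_eq_of_bijective (fun x : (⊤ : Subgroup (Pe F)) => (x : Pe F))
      ⟨Subtype.val_injective, fun x => ⟨⟨x, trivial⟩, rfl⟩⟩] at this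
    omega
  · rintro L hL hne hne' ⟨e'⟩
    have h1 := Subgroup.card_dvd_of_le hL
    rw [hcard, Nat.card_congr e'.toEquiv, card_alt_four] at h1
    omega
  · rintro L hL hne hne' ⟨e'⟩
    apply hne
    symm
    apply Subgroup.eq_of_le_of_card_ge hL
    rw [hcard, Nat.card_congr e'.toEquiv, card_perm_four]
  · rintro L hL hne hne' ⟨e'⟩
    have h1 := Subgroup.card_dvd_of_le hL
    rw [hcard, Nat.card_congr e'.toEquiv, card_alt_five] at h1
    omega
  · intro L P hL hP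
    exact hc1 (conj_borel_comm p hp2 hP (hL ha) (hL hb) hc2)
  · intro L K₀ P m hL hne hne' hm hm2 _ _ _
    have h1 : (Nat.card K₀ ^ m).Prime := by rw [hm, ← hF]; rw [hF]; exact hp.out
    exact Nat.Prime.not_prime_pow hm2 h1

/-- `A₄` is maximal in `PSL₂(p)`. -/
theorem main_A4 (p : ℕ) [hp : Fact p.Prime] (hF : Fintype.card F = p) (h5 : 5 ≤ p)
    (h8 : p % 8 = 3 ∨ p % 8 = 5) (h10 : p % 10 ≠ 1 ∧ p % 10 ≠ 9) :
    ∃ H : Subgroup (Pe F), IsCoatom H ∧ Nonempty (H ≃* alternatingGroup (Fin 4)) := by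
  haveI := charP_of_card_prime hp.out hF
  have hodd : p % 2 = 1 := by omega
  obtain ⟨S⟩ := QSplit.nonempty_of_odd (F := F) (by rw [hF]; exact hodd)
  let D := S.a4
  obtain ⟨e⟩ := D.T_equiv
  have hcard : Nat.card D.T = 12 := D.card_T
  obtain ⟨a, ha, b, hb, hab, hc2, hc1⟩ := elems_of_equiv e a4_elems
  have hG : 2 * Nat.card (Pe F) = p * (p ^ 2 - 1) := card_psl2_odd hF (Nat.odd_iff.2 hodd)
  have hG2 : 12 < Nat.card (Pe F) := by
    have h1 : p * 24 ≤ p * (p ^ 2 - 1) := Nat.mul_le_mul_left _ (by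
      have : 25 ≤ p ^ 2 := by nlinarith
      omega)
    omega
  have hp2 : p ≠ 2 := by omega
  have hgcd := gcd_two_odd hodd
  refine ⟨D.T, ?_, ⟨e⟩⟩
  refine coatom_master hF p D.T ?_ ha hb hab ?_ ?_ ?_ ?_ ?_
  · intro h
    have := Nat.card_congr (MulEquiv.subgroupCongr h).toEquiv
    rw [hcard, Nat.card_eq_of_bijective (fun x : (⊤ : Subgroup (Pe F)) => (x : Pe F))
      ⟨Subtype.val_injective, fun x => ⟨⟨x, trivial⟩, rfl⟩⟩] at this
    omega
  · rintro L hL hne hne' ⟨e'⟩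
    apply hne
    symm
    apply Subgroup.eq_of_le_of_card_ge hL
    rw [hcard, Nat.card_congr e'.toEquiv, card_alt_four]
  · rintro L hL hne hne' ⟨e'⟩
    obtain ⟨x, hx⟩ := order_four_perm
    obtain ⟨g, -, hg⟩ := elem_order e' x
    rw [hx] at hg
    have h1 := ss_order p hF g (pow_ne_one_of_order hg (by
      intro hd
      have := Nat.le_of_dvd (by omega) hd
      omega))
    rw [hg, hgcd] at h1
    rcases h1 with ⟨k, hk⟩ | ⟨k, hk⟩ <;> omega
  · rintro L hL hne hne' ⟨e'⟩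
    by_cases hp5 : p = 5
    · apply hne'
      apply Subgroup.eq_top_of_card_eq
      rw [Nat.card_congr e'.toEquiv, card_alt_five]
      subst hp5
      norm_num at hG
      omega
    · obtain ⟨x, hx⟩ := order_five_alt
      obtain ⟨g, -, hg⟩ := elem_order e' x
      rw [hx] at hg
      have h1 := ss_order p hF g (pow_ne_one_of_order hg (by
        intro hd
        exact hp5 ((Nat.prime_dvd_prime_iff_eq (by norm_num) hp.out).1 hd).symm))
      rw [hg, hgcd] at h1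
      rcases h1 with ⟨k, hk⟩ | ⟨k, hk⟩ <;> omega
  · intro L P hL hP
    exact hc1 (conj_borel_comm p hp2 hP (hL ha) (hL hb) hc2)
  · intro L K₀ P m hL hne hne' hm hm2 _ _ _
    have h1 : (Nat.card K₀ ^ m).Prime := by rw [hm, ← hF]; rw [hF]; exact hp.out
    exact Nat.Prime.not_prime_pow hm2 h1

/-- `A₅` is maximal in `PSL₂(q)`. -/
theorem main_A5 (p : ℕ) [hp : Fact p.Prime] [CharP F p]
    (h : (Fintype.card F = p ∧ (p % 10 = 1 ∨ p % 10 = 9)) ∨ (Fintype.card F = p ^ 2 ∧ (p % 10 = 3 ∨ p % 10 = 7))) :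
    ∃ H : Subgroup (Pe F), IsCoatom H ∧ Nonempty (H ≃* alternatingGroup (Fin 5)) := by
  set q := Fintype.card F with hF
  have hpodd : p % 2 = 1 := by
    rcases h with ⟨-, h⟩ | ⟨-, h⟩ <;> omega
  have hodd : q % 2 = 1 := by
    rcases h with ⟨h, -⟩ | ⟨h, -⟩
    · rw [h]; exact hpodd
    · rw [h, Nat.pow_mod, hpodd]
  have hq9 : 9 ≤ q := by
    rcases h with ⟨h1, h2⟩ | ⟨h1, h2⟩
    · rw [h1]
      have := hp.out.two_le
      by_contra hlt
      have h3 : p < 9 := by omega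
      interval_cases p <;> omega
    · rw [h1]
      have : 3 ≤ p := by omega
      nlinarith
  have hq5 : q % 5 = 1 ∨ q % 5 = 4 := by
    rcases h with ⟨h1, h2⟩ | ⟨h1, h2⟩
    · rw [h1]; omega
    · rw [h1, Nat.pow_mod]
      have h3 : p % 5 = 3 ∨ p % 5 = 2 := by omega
      rcases h3 with h3 | h3 <;> rw [h3] <;> norm_num
  obtain ⟨φ, hφ⟩ := exists_phi hF.symm (Nat.odd_iff.2 hodd) (five_dvd_of_mod hq5)
  obtain ⟨S⟩ := QSplit.nonempty_of_odd (F := F) hodd
  let D := S.a5 φ hφ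
  obtain ⟨e⟩ := D.I_equiv
  have hcard : Nat.card D.I = 60 := D.card_I
  obtain ⟨a, ha, b, hb, hab, hc2, hc1⟩ := elems_of_equiv e a5_elems
  have hG : 2 * Nat.card (Pe F) = q * (q ^ 2 - 1) := card_psl2_odd hF.symm (Nat.odd_iff.2 hodd)
  have hG2 : 60 < Nat.card (Pe F) := by
    have h1 : q * 80 ≤ q * (q ^ 2 - 1) := Nat.mul_le_mul_left _ (by
      have : 81 ≤ q ^ 2 := by nlinarith
      omega)
    omega
  have hp2 : p ≠ 2 := by omega
  refine ⟨D.I, ?_, ⟨e⟩⟩
  refine coatom_master hF.symm p D.I ?_ ha hb hab ?_ ?_ ?_ ?_ ?_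
  · intro h
    have := Nat.card_congr (MulEquiv.subgroupCongr h).toEquiv
    rw [hcard, Nat.card_eq_of_bijective (fun x : (⊤ : Subgroup (Pe F)) => (x : Pe F))
      ⟨Subtype.val_injective, fun x => ⟨⟨x, trivial⟩, rfl⟩⟩] at this
    omega
  · rintro L hL hne hne' ⟨e'⟩
    have h1 := Subgroup.card_dvd_of_le hL
    rw [hcard, Nat.card_congr e'.toEquiv, card_alt_four] at h1
    omega
  · rintro L hL hne hne' ⟨e'⟩
    have h1 := Subgroup.card_dvd_of_le hL
    rw [hcard, Nat.card_congr e'.toEquiv, card_perm_four] at h1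
    omega
  · rintro L hL hne hne' ⟨e'⟩
    apply hne
    symm
    apply Subgroup.eq_of_le_of_card_ge hL
    rw [hcard, Nat.card_congr e'.toEquiv, card_alt_five]
  · intro L P hL hP
    exact hc1 (conj_borel_comm p hp2 hP (hL ha) (hL hb) hc2)
  · intro L K₀ P m hL hne hne' hm hm2 _ hord _
    rcases h with ⟨h1, h2⟩ | ⟨h1, h2⟩
    · have h3 : (Nat.card K₀ ^ m).Prime := by rw [hm, h1]; exact hp.out
      exact Nat.Prime.not_prime_pow hm2 h3
    · have hr2 : 2 ≤ Nat.card K₀ := Finite.one_lt_card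
      have hr : Nat.card K₀ = p := num_root hp.out Nat.prime_two (by rw [hm, h1]) hm2 hr2
      obtain ⟨x, hx⟩ := order_five_alt
      obtain ⟨g, hgm, hg⟩ := elem_order e x
      rw [hx] at hg
      have hgo : orderOf ((Th P).symm g) = 5 := by rw [MulEquiv.orderOf_eq, hg]
      have hgL : (Th P).symm g ∈ conjSub P L := by
        rw [mem_conjSub, MulEquiv.apply_symm_apply]
        exact hL hgm
      have h3 := hord _ hgL (pow_ne_one_of_order hgo (by
        intro hd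
        have := (Nat.prime_dvd_prime_iff_eq (by norm_num) hp.out).1 hd
        omega))
      rw [hgo, hr] at h3
      rcases h3 with ⟨k, hk⟩ | ⟨k, hk⟩ <;> omega

end SmallMax

/-! ### Subfield subgroups -/

theorem num_exp {l e a s m : ℕ} (hl : l.Prime) (hs : s.Prime) (hq : 3 ≤ l ^ e)
    (h : (l ^ e) ^ s = (l ^ a) ^ m) (hm : 2 ≤ m) (hd : (l ^ e) ^ 2 - 1 ∣ 2 * ((l ^ a) ^ 2 - 1)) : a = e := by
  have he : e ≠ 0 := by
    rintro rfl
    simp at hq
  have h1 : e * s = a * m := by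
    apply Nat.pow_right_injective hl.two_le
    simpa [pow_mul] using h
  have ha : a ≠ 0 := by
    rintro rfl
    have := Nat.mul_ne_zero he hs.ne_zero
    omega
  set g := Nat.gcd e a with hg
  have hg0 : g ≠ 0 := Nat.gcd_ne_zero_left he
  have e1 : (l ^ e) ^ 2 = (l ^ 2) ^ e := by rw [← pow_mul, ← pow_mul, mul_comm]
  have e2 : (l ^ a) ^ 2 = (l ^ 2) ^ a := by rw [← pow_mul, ← pow_mul, mul_comm]
  have hD : Nat.gcd ((l ^ e) ^ 2 - 1) ((l ^ a) ^ 2 - 1) = (l ^ 2) ^ g - 1 := by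
    rw [e1, e2, Nat.pow_sub_one_gcd_pow_sub_one]
  have hdvd : (l ^ e) ^ 2 - 1 ∣ 2 * ((l ^ 2) ^ g - 1) := by
    rw [← hD, ← Nat.gcd_mul_left]
    exact Nat.dvd_gcd (Dvd.intro_left _ rfl) hd
  have hge : g = e := by
    by_contra hne
    have hgd : g ∣ e := Nat.gcd_dvd_left _ _
    obtain ⟨c, hc⟩ := hgd
    have hc2 : 2 ≤ c := by
      rcases c with _ | _ | c
      · simp at hc; exact absurd hc he
      · simp at hc; exact absurd hc.symm hne
      · omega
    have h2g : 2 * g ≤ e := by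
      rw [hc, mul_comm 2]
      exact Nat.mul_le_mul_left _ hc2
    have h3 : (l ^ 2) ^ g ≤ l ^ e := by
      rw [← pow_mul]
      exact Nat.pow_le_pow_right hl.pos h2g
    have h4 : 4 ≤ (l ^ 2) ^ g := by
      have h5 : 4 ≤ l ^ 2 := by
        have := hl.two_le
        nlinarith
      calc 4 ≤ l ^ 2 := h5
        _ ≤ (l ^ 2) ^ g := Nat.le_self_pow hg0 _
    have h6 := Nat.le_of_dvd (by omega) hdvd
    set Q := l ^ e with hQ
    set x := (l ^ 2) ^ g with hx
    have h7 : 3 * Q ≤ Q ^ 2 := by nlinarith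
    omega
  have hea : e ∣ a := by
    rw [← hge]
    exact Nat.gcd_dvd_right _ _
  obtain ⟨c, rfl⟩ := hea
  have h2 : s = c * m := by
    apply Nat.eq_of_mul_eq_mul_left (Nat.pos_of_ne_zero he)
    rw [h1]
    ring
  have h3 : m ∣ s := ⟨c, by rw [h2]; ring⟩
  rcases (Nat.dvd_prime hs).1 h3 with h4 | h4
  · omega
  · have h5 : c = 1 := by
      have : 1 * m = c * m := by rw [one_mul, ← h2, h4]
      exact (Nat.eq_of_mul_eq_mul_right (by omega) this).symm
    rw [h5, mul_one]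

theorem kbranch {p q s m r Q : ℕ} (hp : p.Prime) (hs : s.Prime) (hq3 : 3 ≤ q) (hQ : Q = q ^ s)
    (hQp : ∃ n, Q = p ^ n) (hrm : r ^ m = Q) (hm : 2 ≤ m) (hd : q ^ 2 - 1 ∣ 2 * (r * (r ^ 2 - 1))) : r = q := by
  obtain ⟨n, hn⟩ := hQp
  have h1 : q ∣ p ^ n := by
    rw [← hn, hQ]
    exact dvd_pow_self _ hs.ne_zero
  have h2 : r ∣ p ^ n := by
    rw [← hn, ← hrm]
    exact dvd_pow_self _ (by omega)
  obtain ⟨e, -, rfl⟩ := (Nat.dvd_prime_pow hp).1 h1
  obtain ⟨a, -, rfl⟩ := (Nat.dvd_prime_pow hp).1 h2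
  have he : e ≠ 0 := by
    rintro rfl
    simp at hq3
  have hcop : Nat.Coprime ((p ^ e) ^ 2 - 1) (p ^ a) := by
    apply Nat.Coprime.pow_right
    rw [Nat.coprime_comm, Nat.Prime.coprime_iff_not_dvd hp]
    intro h3
    have h4 : p ∣ (p ^ e) ^ 2 := dvd_pow (dvd_pow_self _ he) (by norm_num)
    have h5 : 1 ≤ (p ^ e) ^ 2 := Nat.one_le_pow _ _ (by omega)
    have h6 : p ∣ 1 := by
      have := Nat.dvd_sub h4 h3
      rwa [Nat.sub_sub_self h5] at this
    exact hp.one_lt.ne' (Nat.dvd_one.1 h6)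
  have hd2 : (p ^ e) ^ 2 - 1 ∣ 2 * ((p ^ a) ^ 2 - 1) := by
    have h3 : 2 * (p ^ a * ((p ^ a) ^ 2 - 1)) = p ^ a * (2 * ((p ^ a) ^ 2 - 1)) := by ring
    rw [h3] at hd
    exact hcop.dvd_of_dvd_mul_left hd
  rw [num_exp hp hs hq3 (hQ.symm.trans hrm.symm) hm hd2]

section Sub

variable {K : Type*} [Field K] [Fintype K] [Fintype F]

theorem map_uu (ι : K →+* F) (s : K) : Matrix.SpecialLinearGroup.map ι (uu s) = uu (ι s) := by
  apply sl_ext <;> simp

theorem map_ll (ι : K →+* F) (s : K) : Matrix.SpecialLinearGroup.map ι (ll s) = ll (ι s) := by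
  apply sl_ext <;> simp

theorem map_dg (ι : K →+* F) (s : K) (hs : s ≠ 0) :
    Matrix.SpecialLinearGroup.map ι (dg s hs) = dg (ι s) ((map_ne_zero ι).2 hs) := by
  apply sl_ext <;> simp

theorem uu_mem_psl (ι : K →+* F) : mkP (uu (1 : F)) ∈ (pslEmbed ι).range :=
  ⟨mkP (uu 1), by rw [pslEmbed_mkP, map_uu, map_one]⟩

theorem ll_mem_psl (ι : K →+* F) : mkP (ll (1 : F)) ∈ (pslEmbed ι).range :=
  ⟨mkP (ll 1), by rw [pslEmbed_mkP, map_ll, map_one]⟩

theorem card_iso_dvd (K₀ : Subfield F) (L : Subgroup (Pe F))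
    (h : Nonempty (L ≃* Pe K₀) ∨ Nonempty (L ≃* Matrix.ProjGenLinGroup (Fin 2) K₀)) :
    Nat.card L ∣ Nat.card K₀ * (Nat.card K₀ ^ 2 - 1) := by
  classical
  rcases h with ⟨⟨e⟩⟩ | ⟨⟨e⟩⟩
  · rw [Nat.card_congr e.toEquiv]
    haveI : Fintype K₀ := Fintype.ofFinite _
    have h1 := card_gcd_mul (F := K₀) (q := Nat.card K₀) (Nat.card_eq_fintype_card).symm
    exact ⟨_, by rw [← h1, mul_comm]⟩
  · rw [Nat.card_congr e.toEquiv, card_pgl_eq]

omit [Fintype F] in
theorem exists_t {K : Type*} [Field K] [Fintype K] (h : 3 ≤ Fintype.card K) : ∃ t : K, t ≠ 0 ∧ t ≠ 1 := by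
  classical
  by_contra hcon
  push Not at hcon
  have h1 : (Finset.univ : Finset K) ⊆ {0, 1} := by
    intro t _
    by_cases ht : t = 0
    · simp [ht]
    · simp [hcon t ht]
  have h2 := Finset.card_le_card h1
  have h3 : ({0, 1} : Finset K).card ≤ 2 := Finset.card_le_two
  rw [Finset.card_univ] at h2
  omega

theorem num_lt {q Q : ℕ} (hq : 2 ≤ q) (h : q < Q) : q * (q ^ 2 - 1) < Q * (Q ^ 2 - 1) := by
  have h1 : q ^ 2 < Q ^ 2 := Nat.pow_lt_pow_left h (by norm_num)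
  have h2 : 1 ≤ q ^ 2 := Nat.one_le_pow _ _ (by omega)
  have h3 : 0 < q ^ 2 - 1 := by
    have : 4 ≤ q ^ 2 := by nlinarith
    omega
  exact Nat.mul_lt_mul'' h (by omega)

/-- The even case. -/
theorem main_even (q s : ℕ) (hK : Fintype.card K = q) (hF : Fintype.card F = q ^ s) (hq : Even q) (hq2 : q ≠ 2)
    (hs : s.Prime) : ∃ H : Subgroup (Pe F), IsCoatom H ∧ Nonempty (H ≃* Pe K) := by
  classical
  obtain ⟨ι⟩ := exists_ringHom_of_card_pow (K := K) (F := F) hs.one_le (by rw [hK, hF])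
  obtain ⟨p, hpc⟩ := CharP.exists F
  haveI hpf : Fact p.Prime := ⟨CharP.char_is_prime F p⟩
  have hq2' : 2 ≤ q := by rw [← hK]; exact Fintype.one_lt_card
  have hq4 : 4 ≤ q := by
    obtain ⟨k, hk⟩ := hq
    omega
  have hQe : Even (q ^ s) := hq.pow_of_ne_zero hs.ne_zero
  have h20 : (2 : F) = 0 := two_eq_zero_of_even (by rw [hF]; exact hQe)
  obtain ⟨t, ht0, ht1⟩ := exists_t (K := K) (by omega)
  set H₀ := (pslEmbed ι).range with hH₀
  let e₀ : H₀ ≃* Pe K := (MonoidHom.ofInjective (pslEmbed_injective ι)).symm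
  have hn₀ : Nat.card H₀ = q * (q ^ 2 - 1) := by
    rw [Nat.card_congr e₀.toEquiv]
    exact card_psl2_even hK hq
  have hn60 : 60 ≤ Nat.card H₀ := by
    rw [hn₀]
    have h1 : 15 ≤ q ^ 2 - 1 := by
      have : 16 ≤ q ^ 2 := by nlinarith
      omega
    calc 60 = 4 * 15 := rfl
      _ ≤ q * (q ^ 2 - 1) := Nat.mul_le_mul hq4 h1
  have hG : Nat.card (Pe F) = q ^ s * ((q ^ s) ^ 2 - 1) := card_psl2_even hF hQe
  have hqQ : q < q ^ s := by
    calc q < q ^ 2 := by nlinarith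
      _ ≤ q ^ s := Nat.pow_le_pow_right (by omega) hs.two_le
  have hne : H₀ ≠ ⊤ := by
    intro h
    have h1 := Nat.card_congr (MulEquiv.subgroupCongr h).toEquiv
    rw [hn₀, Nat.card_eq_of_bijective (fun x : (⊤ : Subgroup (Pe F)) => (x : Pe F))
      ⟨Subtype.val_injective, fun x => ⟨⟨x, trivial⟩, rfl⟩⟩, hG] at h1
    have h2 := num_lt hq2' hqQ
    omega
  have ha : mkP (dg (ι t) ((map_ne_zero ι).2 ht0)) ∈ H₀ :=
    ⟨mkP (dg t ht0), by rw [pslEmbed_mkP, map_dg]⟩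
  have hu := uu_mem_psl ι
  have hl := ll_mem_psl ι
  have hb : mkP (uu 1 * dg (ι t) ((map_ne_zero ι).2 ht0) * uu 1) ∈ H₀ := by
    rw [mkP_mul, mkP_mul]
    exact H₀.mul_mem (H₀.mul_mem hu ha) hu
  have ht1' : ι t ≠ 1 := fun h => ht1 (ι.injective (by rw [h, map_one]))
  refine ⟨H₀, ?_, ⟨e₀⟩⟩
  refine coatom_master hF p H₀ hne ha hb (dg_sq_ne h20 _ _ ht1') ?_ ?_ ?_ ?_ ?_
  · rintro L hL _ _ ⟨e'⟩
    have h1 := Subgroup.card_dvd_of_le hL
    rw [Nat.card_congr e'.toEquiv, card_alt_four] at h1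
    have := Nat.le_of_dvd (by norm_num) h1
    omega
  · rintro L hL _ _ ⟨e'⟩
    have h1 := Subgroup.card_dvd_of_le hL
    rw [Nat.card_congr e'.toEquiv, card_perm_four] at h1
    have := Nat.le_of_dvd (by norm_num) h1
    omega
  · rintro L hL hne1 _ ⟨e'⟩
    have h1 := Subgroup.card_dvd_of_le hL
    rw [Nat.card_congr e'.toEquiv, card_alt_five] at h1
    have := Nat.le_of_dvd (by norm_num) h1
    apply hne1
    symm
    apply Subgroup.eq_of_le_of_card_ge hL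
    rw [Nat.card_congr e'.toEquiv, card_alt_five]
    omega
  · intro L P hL hP
    exact uu_ll_ne (conj_borel_p_comm p hP (hL hu) (hL hl) (uu_pow_char p 1) (ll_pow_char p 1))
  · intro L K₀ P m hL hne1 _ hm hm2 _ _ hiso
    obtain ⟨n, -, hn⟩ := FiniteField.card F p
    have h1 := card_iso_dvd K₀ L hiso
    have h2 := Subgroup.card_dvd_of_le hL
    have hd : q ^ 2 - 1 ∣ 2 * (Nat.card K₀ * (Nat.card K₀ ^ 2 - 1)) := by
      apply Dvd.dvd.mul_left
      refine dvd_trans ?_ (dvd_trans h2 h1)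
      rw [hn₀]
      exact Dvd.intro_left _ rfl
    have hr := kbranch hpf.out hs (by omega) (rfl) ⟨n, hF.symm.trans hn⟩ hm hm2 hd
    apply hne1
    symm
    apply Subgroup.eq_of_le_of_card_ge hL
    rw [hn₀, ← hr]
    apply Nat.le_of_dvd _ h1
    have h5 : 0 < Nat.card K₀ ^ 2 - 1 := by
      rw [hr]
      have : 16 ≤ q ^ 2 := by nlinarith
      omega
    exact Nat.mul_pos Nat.card_pos h5

/-- The odd case. -/
theorem main_odd (q s : ℕ) (hK : Fintype.card K = q) (hF : Fintype.card F = q ^ s) (hq : Odd q) (hs2 : s ≠ 2)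
    (hs : s.Prime) : ∃ H : Subgroup (Pe F), IsCoatom H ∧ Nonempty (H ≃* Pe K) := by
  classical
  obtain ⟨ι⟩ := exists_ringHom_of_card_pow (K := K) (F := F) hs.one_le (by rw [hK, hF])
  obtain ⟨p, hpc⟩ := CharP.exists F
  haveI hpf : Fact p.Prime := ⟨CharP.char_is_prime F p⟩
  have hq2' : 2 ≤ q := by rw [← hK]; exact Fintype.one_lt_card
  have hq3 : 3 ≤ q := by
    obtain ⟨k, hk⟩ := hq
    omega
  have hsodd : s % 2 = 1 := by
    rcases hs.eq_two_or_odd with h | h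
    · exact absurd h hs2
    · exact h
  have hQo : Odd (q ^ s) := hq.pow
  have h20 : (2 : F) ≠ 0 := two_ne_zero_of_odd (by rw [hF]; exact hQo)
  set H₀ := (pslEmbed ι).range with hH₀
  let e₀ : H₀ ≃* Pe K := (MonoidHom.ofInjective (pslEmbed_injective ι)).symm
  have hn₀ : 2 * Nat.card H₀ = q * (q ^ 2 - 1) := by
    rw [Nat.card_congr e₀.toEquiv]
    exact card_psl2_odd hK hq
  have hG : 2 * Nat.card (Pe F) = q ^ s * ((q ^ s) ^ 2 - 1) := card_psl2_odd hF hQo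
  have hqQ : q < q ^ s := by
    calc q < q ^ 2 := by nlinarith
      _ ≤ q ^ s := Nat.pow_le_pow_right (by omega) hs.two_le
  have hne : H₀ ≠ ⊤ := by
    intro h
    have h1 := Nat.card_congr (MulEquiv.subgroupCongr h).toEquiv
    rw [Nat.card_eq_of_bijective (fun x : (⊤ : Subgroup (Pe F)) => (x : Pe F))
      ⟨Subtype.val_injective, fun x => ⟨⟨x, trivial⟩, rfl⟩⟩] at h1
    have h2 := num_lt hq2' hqQ
    omega
  have hu := uu_mem_psl ι
  have hl := ll_mem_psl ι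
  -- the order of `H₀` is `12`, `60` or at least `168`
  have hcases : (q = 3 ∧ Nat.card H₀ = 12) ∨ (q = 5 ∧ Nat.card H₀ = 60) ∨ (7 ≤ q ∧ 168 ≤ Nat.card H₀) := by
    obtain ⟨k, hk⟩ := hq
    rcases (by omega : q = 3 ∨ q = 5 ∨ 7 ≤ q) with h | h | h
    · left
      refine ⟨h, ?_⟩
      rw [h, show (3 : ℕ) * (3 ^ 2 - 1) = 24 by norm_num] at hn₀
      omega
    · right; left
      refine ⟨h, ?_⟩
      rw [h, show (5 : ℕ) * (5 ^ 2 - 1) = 120 by norm_num] at hn₀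
      omega
    · right; right
      refine ⟨h, ?_⟩
      have h1 : 48 ≤ q ^ 2 - 1 := by
        have : 49 ≤ q ^ 2 := by nlinarith
        omega
      have h2 : 7 * 48 ≤ q * (q ^ 2 - 1) := Nat.mul_le_mul h h1
      omega
  have hgcd : Nat.gcd 2 (q ^ s - 1) = 2 := gcd_two_odd (Nat.odd_iff.1 hQo)
  have hpodd : p ≠ 2 := by
    intro h
    subst h
    apply h20
    exact_mod_cast CharP.cast_eq_zero F 2
  have h3Q : q = 3 → q ^ s % 8 = 3 ∧ (q ^ s % 5 = 2 ∨ q ^ s % 5 = 3) := by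
    rintro rfl
    obtain ⟨k, rfl⟩ : ∃ k, s = 2 * k + 1 := ⟨s / 2, by omega⟩
    refine ⟨?_, mod5_three_pow k⟩
    rw [pow_succ, pow_mul, Nat.mul_mod, Nat.pow_mod]
    norm_num
  refine ⟨H₀, ?_, ⟨e₀⟩⟩
  refine coatom_master hF p H₀ hne hu hl (uu_ll_sq_ne h20) ?_ ?_ ?_ ?_ ?_
  · rintro L hL hne1 _ ⟨e'⟩
    have h1 := Subgroup.card_dvd_of_le hL
    rw [Nat.card_congr e'.toEquiv, card_alt_four] at h1
    have h2 := Nat.le_of_dvd (by norm_num) h1
    apply hne1
    symm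
    apply Subgroup.eq_of_le_of_card_ge hL
    rw [Nat.card_congr e'.toEquiv, card_alt_four]
    omega
  · rintro L hL _ _ ⟨e'⟩
    have h1 := Subgroup.card_dvd_of_le hL
    rw [Nat.card_congr e'.toEquiv, card_perm_four] at h1
    have h2 := Nat.le_of_dvd (by norm_num) h1
    have hq3' : q = 3 := by
      rcases hcases with h | h | h
      · exact h.1
      · omega
      · omega
    obtain ⟨h8, -⟩ := h3Q hq3'
    obtain ⟨x, hx⟩ := order_four_perm
    obtain ⟨g, -, hg⟩ := elem_order e' x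
    rw [hx] at hg
    have h3 := ss_order p hF g (pow_ne_one_of_order hg (by
      intro hd
      have h4 := (Nat.prime_two.eq_one_or_self_of_dvd 2 (by norm_num))
      have h5 : 2 ∣ p := dvd_trans (by norm_num) hd
      exact hpodd ((Nat.prime_dvd_prime_iff_eq Nat.prime_two hpf.out).1 h5).symm))
    rw [hg, hgcd] at h3
    rcases h3 with ⟨k, hk⟩ | ⟨k, hk⟩ <;> omega
  · rintro L hL hne1 _ ⟨e'⟩
    have h1 := Subgroup.card_dvd_of_le hL
    rw [Nat.card_congr e'.toEquiv, card_alt_five] at h1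
    have h2 := Nat.le_of_dvd (by norm_num) h1
    rcases hcases with h | h | h
    · obtain ⟨-, h5⟩ := h3Q h.1
      obtain ⟨x, hx⟩ := order_five_alt
      obtain ⟨g, -, hg⟩ := elem_order e' x
      rw [hx] at hg
      have hp3 : p ≠ 5 := by
        intro hp5
        obtain ⟨n, -, hn⟩ := FiniteField.card F p
        have h6 : 5 ∣ q ^ s := by
          rw [← hF, hn, hp5]
          exact dvd_pow_self _ n.ne_zero
        omega
      have h3 := ss_order p hF g (pow_ne_one_of_order hg (by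
        intro hd
        exact hp3 ((Nat.prime_dvd_prime_iff_eq (by norm_num) hpf.out).1 hd).symm))
      rw [hg, hgcd] at h3
      rcases h3 with ⟨k, hk⟩ | ⟨k, hk⟩ <;> omega
    · apply hne1
      symm
      apply Subgroup.eq_of_le_of_card_ge hL
      rw [Nat.card_congr e'.toEquiv, card_alt_five]
      omega
    · omega
  · intro L P hL hP
    exact uu_ll_ne (conj_borel_p_comm p hP (hL hu) (hL hl) (uu_pow_char p 1) (ll_pow_char p 1))
  · intro L K₀ P m hL hne1 _ hm hm2 _ _ hiso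
    obtain ⟨n, -, hn⟩ := FiniteField.card F p
    have h1 := card_iso_dvd K₀ L hiso
    have h2 := Subgroup.card_dvd_of_le hL
    have hd : q ^ 2 - 1 ∣ 2 * (Nat.card K₀ * (Nat.card K₀ ^ 2 - 1)) := by
      have h3 : 2 * Nat.card H₀ ∣ 2 * (Nat.card K₀ * (Nat.card K₀ ^ 2 - 1)) :=
        Nat.mul_dvd_mul_left 2 (dvd_trans h2 h1)
      refine dvd_trans ?_ h3
      rw [hn₀]
      exact Dvd.intro_left _ rfl
    have hr := kbranch hpf.out hs (by omega) (rfl) ⟨n, hF.symm.trans hn⟩ hm hm2 hd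
    have hms : m = s := by
      have hq1 : 1 < q := by omega
      rw [hr] at hm
      exact Nat.pow_right_injective hq2' hm
    rcases hiso with ⟨⟨e'⟩⟩ | ⟨⟨e'⟩⟩
    · apply hne1
      symm
      apply Subgroup.eq_of_le_of_card_ge hL
      haveI : Fintype K₀ := Fintype.ofFinite _
      have h3 : 2 * Nat.card (Pe K₀) = Nat.card K₀ * (Nat.card K₀ ^ 2 - 1) :=
        card_psl2_odd (Nat.card_eq_fintype_card).symm (by rw [hr]; exact hq)
      rw [Nat.card_congr e'.toEquiv]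
      rw [hr] at h3
      omega
    · haveI : Fintype K₀ := Fintype.ofFinite _
      have hm1 : Fintype.card K₀ ^ m = q ^ s := by
        rw [← Nat.card_eq_fintype_card, hm]
      have h3 := (subfield_psl_main (K := K₀) hF hQo m (by omega) hm1).2.1 ⟨L, ⟨e'⟩⟩
      rw [hms] at h3
      exact (Nat.not_even_iff_odd.2 (Nat.odd_iff.2 hsodd)) h3

end Sub

section Pgl

variable {K : Type*} [Field K] [Fintype K] [Fintype F]

theorem hsq_of_sq {q : ℕ} (hK : Fintype.card K = q) (hF : Fintype.card F = q ^ 2) (hq : Odd q) (ι : K →+* F) :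
    ∀ a : K, a ≠ 0 → IsSquare (ι a) := by
  intro a ha
  have hQo : Odd (q ^ 2) := hq.pow
  have hringChar : ringChar F ≠ 2 := by
    intro h
    have h1 := ringChar.Nat.cast_ringChar (R := F)
    rw [h] at h1
    exact two_ne_zero_of_odd (by rwa [hF]) (by exact_mod_cast h1)
  rw [FiniteField.isSquare_iff hringChar ((map_ne_zero ι).2 ha)]
  have hpow : a ^ (q - 1) = 1 := by
    rw [← hK]
    exact FiniteField.pow_card_sub_one_eq_one a ha
  obtain ⟨k, rfl⟩ := hq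
  have e : Fintype.card F / 2 = 2 * k * (k + 1) := by
    rw [hF]
    have : (2 * k + 1) ^ 2 = 2 * (2 * k * (k + 1)) + 1 := by ring
    rw [this]
    omega
  have e1 : 2 * k + 1 - 1 = 2 * k := by omega
  rw [e1] at hpow
  rw [e, pow_mul, ← map_pow, hpow, map_one, one_pow]

theorem map_mem_pgl (ι : K →+* F) (hsq : ∀ a : K, a ≠ 0 → IsSquare (ι a)) (A : SL(2, K)) :
    mkP (Matrix.SpecialLinearGroup.map ι A) ∈ (pglEmbed ι hsq).range := by
  let g : GL (Fin 2) K := Matrix.SpecialLinearGroup.toGL A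
  have hd : (g : Matrix (Fin 2) (Fin 2) K).det = 1 := A.2
  have hs : (1 : F) * 1 = ι (g : Matrix (Fin 2) (Fin 2) K).det := by rw [hd, map_one, one_mul]
  refine ⟨Matrix.ProjGenLinGroup.mk g, ?_⟩
  have e1 : pglEmbed ι hsq (Matrix.ProjGenLinGroup.mk g) = mkP (pglLift ι g 1 hs) := glToPsl_apply ι hsq g 1 hs
  rw [e1]
  congr 1
  apply Subtype.ext
  rw [pglLift_coe, inv_one, one_smul]
  rfl

/-- `PGL₂(q)` is maximal in `PSL₂(q²)`. -/
theorem main_pgl (q : ℕ) (hK : Fintype.card K = q) (hF : Fintype.card F = q ^ 2) (hq : Odd q) :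
    ∃ H : Subgroup (Pe F), IsCoatom H ∧ Nonempty (H ≃* Matrix.ProjGenLinGroup (Fin 2) K) := by
  classical
  obtain ⟨ι⟩ := exists_ringHom_of_card_pow (K := K) (F := F) (m := 2) (by norm_num) (by rw [hK, hF])
  have hsq := hsq_of_sq hK hF hq ι
  obtain ⟨p, hpc⟩ := CharP.exists F
  haveI hpf : Fact p.Prime := ⟨CharP.char_is_prime F p⟩
  have hq2' : 2 ≤ q := by rw [← hK]; exact Fintype.one_lt_card
  have hq3 : 3 ≤ q := by
    obtain ⟨k, hk⟩ := hq
    omega
  have hQo : Odd (q ^ 2) := hq.pow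
  have h20 : (2 : F) ≠ 0 := two_ne_zero_of_odd (by rw [hF]; exact hQo)
  set H₀ := (pglEmbed ι hsq).range with hH₀
  let e₀ : H₀ ≃* Matrix.ProjGenLinGroup (Fin 2) K := (MonoidHom.ofInjective (pglEmbed_injective ι hsq)).symm
  have hn₀ : Nat.card H₀ = q * (q ^ 2 - 1) := by
    rw [Nat.card_congr e₀.toEquiv, card_pgl_eq, Nat.card_eq_fintype_card, hK]
  have hG : 2 * Nat.card (Pe F) = q ^ 2 * ((q ^ 2) ^ 2 - 1) := card_psl2_odd hF hQo
  have hu : mkP (uu (1 : F)) ∈ H₀ := by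
    have := map_mem_pgl ι hsq (uu 1)
    rwa [map_uu, map_one] at this
  have hl : mkP (ll (1 : F)) ∈ H₀ := by
    have := map_mem_pgl ι hsq (ll 1)
    rwa [map_ll, map_one] at this
  have h9 : 9 ≤ q ^ 2 := by nlinarith
  have hn24 : 24 ≤ Nat.card H₀ := by
    rw [hn₀]
    calc 24 = 3 * 8 := rfl
      _ ≤ q * (q ^ 2 - 1) := Nat.mul_le_mul hq3 (by omega)
  have hne : H₀ ≠ ⊤ := by
    intro h
    have h1 := Nat.card_congr (MulEquiv.subgroupCongr h).toEquiv
    rw [Nat.card_eq_of_bijective (fun x : (⊤ : Subgroup (Pe F)) => (x : Pe F))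
      ⟨Subtype.val_injective, fun x => ⟨⟨x, trivial⟩, rfl⟩⟩] at h1
    rw [hn₀] at h1
    have h2 : 2 * (q * (q ^ 2 - 1)) < q ^ 2 * ((q ^ 2) ^ 2 - 1) := by
      have h3 : q ^ 2 - 1 ≤ (q ^ 2) ^ 2 - 1 := by
        have : q ^ 2 ≤ (q ^ 2) ^ 2 := Nat.le_self_pow (by norm_num) _
        omega
      have h4 : 2 * q < q ^ 2 := by nlinarith
      calc 2 * (q * (q ^ 2 - 1)) = (2 * q) * (q ^ 2 - 1) := by ring
        _ < q ^ 2 * (q ^ 2 - 1) := Nat.mul_lt_mul_of_pos_right h4 (by omega)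
        _ ≤ q ^ 2 * ((q ^ 2) ^ 2 - 1) := Nat.mul_le_mul_left _ h3
    omega
  refine ⟨H₀, ?_, ⟨e₀⟩⟩
  refine coatom_master hF p H₀ hne hu hl (uu_ll_sq_ne h20) ?_ ?_ ?_ ?_ ?_
  · rintro L hL _ _ ⟨e'⟩
    have h1 := Subgroup.card_dvd_of_le hL
    rw [Nat.card_congr e'.toEquiv, card_alt_four] at h1
    have h2 := Nat.le_of_dvd (by norm_num) h1
    omega
  · rintro L hL hne1 _ ⟨e'⟩
    have h1 := Subgroup.card_dvd_of_le hL
    rw [Nat.card_congr e'.toEquiv, card_perm_four] at h1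
    have h2 := Nat.le_of_dvd (by norm_num) h1
    apply hne1
    symm
    apply Subgroup.eq_of_le_of_card_ge hL
    rw [Nat.card_congr e'.toEquiv, card_perm_four]
    omega
  · rintro L hL _ _ ⟨e'⟩
    have h1 := Subgroup.card_dvd_of_le hL
    rw [Nat.card_congr e'.toEquiv, card_alt_five] at h1
    have h2 := Nat.le_of_dvd (by norm_num) h1
    rw [hn₀] at h1 h2
    obtain ⟨k, hk⟩ := hq
    rcases (by omega : q = 3 ∨ 5 ≤ q) with h | h
    · rw [h] at h1
      norm_num at h1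
    · have h3 : 24 ≤ q ^ 2 - 1 := by
        have : 25 ≤ q ^ 2 := by nlinarith
        omega
      have h4 : 5 * 24 ≤ q * (q ^ 2 - 1) := Nat.mul_le_mul h h3
      omega
  · intro L P hL hP
    exact uu_ll_ne (conj_borel_p_comm p hP (hL hu) (hL hl) (uu_pow_char p 1) (ll_pow_char p 1))
  · intro L K₀ P m hL hne1 _ hm hm2 hcard _ hiso
    obtain ⟨n, -, hn⟩ := FiniteField.card F p
    have h1 := card_iso_dvd K₀ L hiso
    have h2 := Subgroup.card_dvd_of_le hL
    have hd : q ^ 2 - 1 ∣ 2 * (Nat.card K₀ * (Nat.card K₀ ^ 2 - 1)) := by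
      apply Dvd.dvd.mul_left
      refine dvd_trans ?_ (dvd_trans h2 h1)
      rw [hn₀]
      exact Dvd.intro_left _ rfl
    have hr := kbranch hpf.out Nat.prime_two hq3 (rfl) ⟨n, hF.symm.trans hn⟩ hm hm2 hd
    apply hne1
    symm
    apply Subgroup.eq_of_le_of_card_ge hL
    rw [hn₀, ← hr]
    exact hcard

end Pgl

end Cfsg.Agent.Lib.LocalEven.PslMax
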