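/-
Maximal subgroups of `PSL₂(q)`: tori and dihedral subgroups (helper23).
-/
import Mathlib
import Cfsg.Agent.Lib.LocalEven.PslMax
import Cfsg.Agent.Lib.Classical.PSL2Simple

set_option autoImplicit false
set_option linter.unusedSimpArgs false
set_option linter.unusedVariables false
set_option linter.unusedSectionVars false
set_option linter.style.haveILetI false

namespace Cfsg.Agent.Lib.LocalEven.PslMax2

open Cfsg.Agent.Lib.Classical Cfsg.Agent.Lib.LocalEven.PslMax Matrix
open scoped MatrixGroups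

variable {F : Type*} [Field F]

theorem exists_noneig (A : SL(2, F)) (h : mkP A ≠ 1) :
    ∃ v : Fin 2 → F, dt v ((A : Matrix (Fin 2) (Fin 2) F) *ᵥ v) ≠ 0 := by
  by_contra hcon
  push Not at hcon
  have h1 := hcon ![1, 0]
  have h2 := hcon ![0, 1]
  have h3 := hcon ![1, 1]
  simp [dt, Matrix.mulVec, dotProduct, Fin.sum_univ_two] at h1 h2 h3
  apply h
  apply mkP_eq_one_of_scalar A (l := A.1 0 0)
  ext i j
  fin_cases i <;> fin_cases j <;> simp [h1, h2]
  rw [h1, h2] at h3
  linear_combination h3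

/-- Every nonscalar matrix is conjugate to a companion matrix. -/
theorem exists_conj_comp (A : SL(2, F)) (h : mkP A ≠ 1) :
    ∃ P : GL (Fin 2) F, ThS P (compM (A.1 0 0 + A.1 1 1)) = A := by
  obtain ⟨v, hv⟩ := exists_noneig A h
  refine ⟨colGL v ((A : Matrix (Fin 2) (Fin 2) F) *ᵥ v) hv, ?_⟩
  have hd := sl_det A
  apply ThS_eq_of_basis hv
  · simp
  · ext i
    fin_cases i
    · simp [Matrix.mulVec, dotProduct, Fin.sum_univ_two]
      linear_combination (-(v 0)) * hd
    · simp [Matrix.mulVec, dotProduct, Fin.sum_univ_two]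
      linear_combination (-(v 1)) * hd

/-- The trace in terms of an eigenvalue. -/
theorem eig_trace {E : Type*} [Field E] (A : SL(2, E)) {v : Fin 2 → E} {l : E} (hv0 : v ≠ 0)
    (hv : (A : Matrix (Fin 2) (Fin 2) E) *ᵥ v = l • v) : l ≠ 0 ∧ A.1 0 0 + A.1 1 1 = l + l⁻¹ := by
  have h6 : ((A : Matrix (Fin 2) (Fin 2) E) - l • 1).det = 0 := by
    apply Matrix.exists_mulVec_eq_zero_iff.1
    refine ⟨v, hv0, ?_⟩
    rw [Matrix.sub_mulVec, Matrix.smul_mulVec, Matrix.one_mulVec, hv, sub_self]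
  have hdet : (A : Matrix (Fin 2) (Fin 2) E).det = 1 := A.2
  rw [Matrix.det_fin_two] at h6 hdet
  simp at h6
  have hl0 : l ≠ 0 := by
    rintro rfl
    simp at h6
    rw [h6] at hdet
    exact zero_ne_one hdet
  refine ⟨hl0, ?_⟩
  apply mul_right_cancel₀ hl0
  have e : (l + l⁻¹) * l = l ^ 2 + 1 := by field_simp
  rw [e]
  linear_combination -h6 + hdet

theorem eig_pow {E : Type*} [Field E] (A : SL(2, E)) {v : Fin 2 → E} {l : E}
    (hv : (A : Matrix (Fin 2) (Fin 2) E) *ᵥ v = l • v) (k : ℕ) :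
    ((A ^ k : SL(2, E)) : Matrix (Fin 2) (Fin 2) E) *ᵥ v = (l ^ k) • v := by
  induction k with
  | zero => simp
  | succ k ih =>
    rw [pow_succ, Matrix.SpecialLinearGroup.coe_mul, ← Matrix.mulVec_mulVec, hv, Matrix.mulVec_smul, ih,
      smul_smul, pow_succ, mul_comm]

section Torus

variable [Fintype F] {q : ℕ} (hF : Fintype.card F = q) (p : ℕ) [hp : Fact p.Prime] [CharP F p]

include hF in
/-- Every semisimple element lies in the rotation subgroup of a big dihedral subgroup. -/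
theorem torus_data (g : Pe F) (hg : g ^ p ≠ 1) :
    ∃ N : ℕ, (N = q - 1 ∨ N = q + 1) ∧ 3 ≤ N ∧ ∃ ρ σ : Pe F, orderOf ρ = N / Nat.gcd 2 (q - 1) ∧ σ * σ = 1 ∧
      σ * ρ * σ⁻¹ = ρ⁻¹ ∧ σ ∉ Subgroup.zpowers ρ ∧ g ∈ Subgroup.zpowers ρ := by
  classical
  let E' := AlgebraicClosure F
  let j : F →+* E' := algebraMap F E'
  haveI : CharP E' p := charP_of_injective_algebraMap j.injective p
  obtain ⟨A₀, rfl⟩ := mkP_surj g
  set A := Matrix.SpecialLinearGroup.map j A₀ with hAdef
  obtain ⟨v, l, hv0, hv⟩ := exists_eigvec A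
  have hinj : ∀ (C₀ : SL(2, F)) (n : ℕ), mkP (Matrix.SpecialLinearGroup.map j C₀) ^ n = 1 → mkP C₀ ^ n = 1 := by
    intro C₀ n hn
    apply pslEmbed_injective j
    rw [map_pow, pslEmbed_mkP, hn, map_one]
  have hl : l ^ 2 ≠ 1 := fun h => hg (hinj A₀ p (pow_char_of_eig p A hv0 h hv))
  obtain ⟨hl0, htr⟩ := eig_trace A hv0 hv
  obtain ⟨n, -, hq⟩ := FiniteField.card F p
  rw [hF] at hq
  have hq2 : 2 ≤ q := by
    rw [← hF]
    exact Fintype.one_lt_card
  have hq1 : 1 ≤ q := by omega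
  set t := A₀.1 0 0 + A₀.1 1 1 with ht
  have htj : j t = l + l⁻¹ := by
    rw [← htr, ht, map_add]
    rfl
  have hfix : (j t) ^ q = j t := by
    rw [← map_pow, ← hF, FiniteField.pow_card]
  have hfrob : ∀ x y : E', (x + y) ^ q = x ^ q + y ^ q := by
    intro x y
    have := map_add (iterateFrobenius E' p n) x y
    simp only [iterateFrobenius_def] at this
    rwa [← hq] at this
  have hσ : l ^ q + (l ^ q)⁻¹ = l + l⁻¹ := by
    rw [← inv_pow, ← hfrob, ← htj, hfix]
  have hl2 : l ^ q ≠ 0 := pow_ne_zero _ hl0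
  have hfact : (l ^ q - l) * (l ^ q - l⁻¹) = 0 := by
    have e1 : l * l⁻¹ = 1 := mul_inv_cancel₀ hl0
    have e2 : l ^ q * (l ^ q)⁻¹ = 1 := mul_inv_cancel₀ hl2
    have e3 : (l ^ q) ^ 2 + 1 = (l + l⁻¹) * l ^ q := by
      rw [← hσ]
      linear_combination -e2
    linear_combination e3 + e1
  obtain ⟨N, hN, hlN⟩ : ∃ N : ℕ, (N = q - 1 ∨ N = q + 1) ∧ l ^ N = 1 := by
    rcases mul_eq_zero.1 hfact with h | h
    · refine ⟨q - 1, Or.inl rfl, ?_⟩
      have e : l ^ q = l := sub_eq_zero.1 h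
      have e2 : l ^ (q - 1) * l = l := by
        rw [← pow_succ, Nat.sub_add_cancel hq1, e]
      exact mul_right_cancel₀ hl0 (by rw [e2, one_mul])
    · refine ⟨q + 1, Or.inr rfl, ?_⟩
      have e : l ^ q = l⁻¹ := sub_eq_zero.1 h
      rw [pow_succ, e, inv_mul_cancel₀ hl0]
  have hN3 : 3 ≤ N := by
    by_contra hlt
    have hN1 : N = 1 ∨ N = 2 := by
      rcases hN with h | h <;> omega
    rcases hN1 with h | h
    · rw [h, pow_one] at hlN
      apply hl
      rw [hlN, one_pow]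
    · rw [h] at hlN
      exact hl hlN
  obtain ⟨ρ, σ, hρ, hσσ, hc, hn⟩ := exists_dih_data hF p N hN hN3
  obtain ⟨B₀, rfl⟩ := mkP_surj ρ
  set B := Matrix.SpecialLinearGroup.map j B₀ with hBdef
  obtain ⟨u, μ, hu0, hu⟩ := exists_eigvec B
  set d := Nat.gcd 2 (q - 1) with hdd
  have hd2 : d ∣ 2 := Nat.gcd_dvd_left _ _
  have hd12 : d = 1 ∨ d = 2 := (Nat.dvd_prime Nat.prime_two).1 hd2
  have hdq : d ∣ q - 1 := Nat.gcd_dvd_right _ _
  have hdN : d ∣ N := by
    rcases hN with h | h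
    · rw [h]; exact hdq
    · rw [h]
      have : q + 1 = (q - 1) + 2 := by omega
      rw [this]
      exact Nat.dvd_add hdq hd2
  obtain ⟨c, hc'⟩ := hdN
  have hNd : N / d = c := by
    rcases hd12 with h | h <;> rw [hc', h] <;> simp
  rw [hNd] at hρ
  have hc2 : 2 ≤ c := by
    rcases hd12 with h | h <;> rw [h] at hc' <;> omega
  have hpN : ¬ p ∣ N := by
    intro hpd
    have hpq : p ∣ q := by
      rw [hq]
      exact dvd_pow_self _ n.ne_zero
    have h1 : p ∣ 1 := by
      rcases hN with h | h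
      · rw [h] at hpd
        have := Nat.dvd_sub hpq hpd
        rwa [Nat.sub_sub_self hq1] at this
      · rw [h] at hpd
        exact (Nat.dvd_add_right hpq).1 hpd
    exact hp.out.one_lt.ne' (Nat.dvd_one.1 h1)
  have hμ : μ ^ 2 ≠ 1 := by
    intro h
    have h1 := hinj B₀ p (pow_char_of_eig p B hu0 h hu)
    have h2 := orderOf_dvd_of_pow_eq_one h1
    rw [hρ] at h2
    rcases (Nat.dvd_prime hp.out).1 h2 with h3 | h3
    · omega
    · apply hpN
      rw [hc', ← h3]
      exact Dvd.intro_left _ rfl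
  obtain ⟨w, hdw, hw⟩ := exists_second_eig B hu0 hu hμ
  have hdw' : dt u w ≠ 0 := by rw [hdw]; exact one_ne_zero
  have hμ0 : μ ≠ 0 := (triang B hdw' hu).1
  have hord : orderOf (μ ^ 2) = c := by
    rw [← hρ, orderOf_eq_orderOf_iff]
    intro m
    constructor
    · intro h
      apply hinj
      apply pow_eq_one_of_eig B hdw' m _ hu hw
      rw [← pow_mul, mul_comm, pow_mul]
      exact h
    · intro h
      have h1 : mkP B ^ m = 1 := by
        rw [hBdef, ← pslEmbed_mkP, ← map_pow, h, map_one]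
      have h2 := eig_pow_sq B hu0 m h1 hu
      rw [← pow_mul, mul_comm, pow_mul]
      exact h2
  have hprim : IsPrimitiveRoot (μ ^ 2) c := by
    rw [← hord]
    exact IsPrimitiveRoot.orderOf _
  have hlc : (l ^ 2) ^ c = 1 := by
    obtain ⟨c', hc''⟩ := hd2
    have e : 2 * c = N * c' := by
      rw [hc']
      nth_rw 1 [hc'']
      ring
    rw [← pow_mul, e, pow_mul, hlN, one_pow]
  haveI : NeZero c := ⟨by omega⟩
  obtain ⟨k, -, hk⟩ := hprim.eq_pow_of_pow_eq_one hlc
  have hk2 : (l - μ ^ k) * (l + μ ^ k) = 0 := by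
    rw [← pow_mul, mul_comm, pow_mul] at hk
    linear_combination -hk
  set C₀ := B₀ ^ k with hC₀
  have hCmap : Matrix.SpecialLinearGroup.map j C₀ = B ^ k := by
    rw [hC₀, map_pow]
  have hCeig : ((Matrix.SpecialLinearGroup.map j C₀ : SL(2, E')) : Matrix (Fin 2) (Fin 2) E') *ᵥ u = (μ ^ k) • u := by
    rw [hCmap]
    exact eig_pow B hu k
  obtain ⟨-, hCtr⟩ := eig_trace _ hu0 hCeig
  have hCtrj : j (C₀.1 0 0 + C₀.1 1 1) = μ ^ k + (μ ^ k)⁻¹ := by
    rw [← hCtr, map_add]
    rfl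
  have hC1 : mkP C₀ ≠ 1 := by
    intro h
    have h1 : mkP (Matrix.SpecialLinearGroup.map j C₀) ^ 1 = 1 := by
      rw [pow_one, ← pslEmbed_mkP, h, map_one]
    have h2 := eig_pow_sq _ hu0 1 h1 hCeig
    rw [pow_one, ← pow_mul, mul_comm, pow_mul, hk] at h2
    exact hl h2
  have hA1 : mkP A₀ ≠ 1 := by
    intro h
    apply hg
    rw [h, one_pow]
  -- a lift with the right trace
  obtain ⟨A₁, hA₁, htr₁⟩ : ∃ A₁ : SL(2, F), mkP A₁ = mkP A₀ ∧ A₁.1 0 0 + A₁.1 1 1 = C₀.1 0 0 + C₀.1 1 1 := by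
    rcases mul_eq_zero.1 hk2 with h | h
    · refine ⟨A₀, rfl, j.injective ?_⟩
      rw [hCtrj, ← ht, htj, sub_eq_zero.1 h]
    · have e : l = - μ ^ k := eq_neg_of_add_eq_zero_left h
      refine ⟨slScale (-1) (by ring) A₀, mkP_slScale _ _ _, j.injective ?_⟩
      rw [hCtrj]
      have e2 : (slScale (-1) (by ring) A₀).1 0 0 + (slScale (-1) (by ring) A₀).1 1 1 = -t := by
        rw [slScale_coe, ht]
        simp
        ring
      rw [e2, map_neg, htj, e, inv_neg]
      ring
  obtain ⟨P₁, hP₁⟩ := exists_conj_comp A₁ (by rw [hA₁]; exact hA1)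
  obtain ⟨P₂, hP₂⟩ := exists_conj_comp C₀ hC1
  rw [htr₁] at hP₁
  let Θ : Pe F ≃* Pe F := (Th P₂).symm.trans (Th P₁)
  have hΘ : Θ (mkP C₀) = mkP A₀ := by
    have e1 : Th P₂ (mkP (compM (C₀.1 0 0 + C₀.1 1 1))) = mkP C₀ := by
      rw [Th_mkP, hP₂]
    have e2 : Th P₁ (mkP (compM (C₀.1 0 0 + C₀.1 1 1))) = mkP A₀ := by
      rw [Th_mkP, hP₁, hA₁]
    show Th P₁ ((Th P₂).symm (mkP C₀)) = mkP A₀
    rw [← e1, MulEquiv.symm_apply_apply, e2]
  refine ⟨N, hN, hN3, Θ (mkP B₀), Θ σ, ?_, ?_, ?_, ?_, ?_⟩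
  · rw [MulEquiv.orderOf_eq, hρ, hNd]
  · rw [← map_mul, hσσ, map_one]
  · rw [← map_inv, ← map_inv, ← map_mul, ← map_mul, hc]
  · intro h
    obtain ⟨z, hz⟩ := Subgroup.mem_zpowers_iff.1 h
    apply hn
    apply Subgroup.mem_zpowers_iff.2
    refine ⟨z, Θ.injective ?_⟩
    rw [map_zpow, hz]
  · apply Subgroup.mem_zpowers_iff.2
    refine ⟨k, ?_⟩
    rw [zpow_natCast, ← map_pow, ← hΘ, hC₀, mkP_pow]

end Torus

section Max

theorem mem_norm_zpowers {G : Type*} [Group G] [Finite G] (r x : G) (h : x * r * x⁻¹ ∈ Subgroup.zpowers r) :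
    x ∈ Subgroup.normalizer (Subgroup.zpowers r : Set G) := by
  rw [Subgroup.mem_normalizer_iff]
  have hconj : ∀ y ∈ Subgroup.zpowers r, x * y * x⁻¹ ∈ Subgroup.zpowers r := by
    intro y hy
    obtain ⟨z, rfl⟩ := Subgroup.mem_zpowers_iff.1 hy
    rw [← conj_zpow]
    exact Subgroup.zpow_mem _ h _
  intro y
  refine ⟨hconj y, fun hy => ?_⟩
  let f : Subgroup.zpowers r → Subgroup.zpowers r := fun a => ⟨x * a * x⁻¹, hconj a a.2⟩
  have hf : Function.Injective f := by
    intro a b hab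
    apply Subtype.ext
    have : x * (a : G) * x⁻¹ = x * b * x⁻¹ := congrArg Subtype.val hab
    simpa using this
  obtain ⟨a, ha⟩ := (Finite.injective_iff_surjective.1 hf) ⟨_, hy⟩
  have h1 : x * (a : G) * x⁻¹ = x * y * x⁻¹ := congrArg Subtype.val ha
  have h2 : (a : G) = y := by simpa using h1
  rw [← h2]
  exact a.2

variable [Fintype F] {q : ℕ} (hF : Fintype.card F = q)

theorem not_cyclic_of_zpowers_top {r : Pe F} (h : Subgroup.zpowers r = ⊤) : False := by
  apply psl_not_comm (F := F)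
  rw [isMulCommutative_iff]
  intro a b
  have ha : a ∈ Subgroup.zpowers r := by rw [h]; trivial
  have hb : b ∈ Subgroup.zpowers r := by rw [h]; trivial
  obtain ⟨i, rfl⟩ := Subgroup.mem_zpowers_iff.1 ha
  obtain ⟨j, rfl⟩ := Subgroup.mem_zpowers_iff.1 hb
  exact (Commute.refl r).zpow_zpow i j

include hF in
/-- A maximal subgroup normalising a cyclic subgroup is its full normaliser. -/
theorem norm_le_of_coatom (hq4 : 4 ≤ q) {M : Subgroup (Pe F)} (hM : IsCoatom M) {r : Pe F} (hr : r ≠ 1)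
    (hMr : ∀ x ∈ M, x * r * x⁻¹ ∈ Subgroup.zpowers r) {y : Pe F} (hy : y * r * y⁻¹ ∈ Subgroup.zpowers r) : y ∈ M := by
  haveI simple : IsSimpleGroup (Pe F) :=
    Cfsg.Agent.Lib.Classical.psl_isSimpleGroup_of_four_le (by rw [Nat.card_eq_fintype_card, hF]; exact hq4)
  set N := Subgroup.normalizer (Subgroup.zpowers r : Set (Pe F)) with hN
  have hle : M ≤ N := fun x hx => mem_norm_zpowers r x (hMr x hx)
  have hNtop : N ≠ ⊤ := by
    intro h
    have hn : (Subgroup.zpowers r).Normal := Subgroup.normalizer_eq_top_iff.1 h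
    rcases IsSimpleGroup.eq_bot_or_eq_top_of_normal _ hn with h1 | h1
    · exact hr (Subgroup.zpowers_eq_bot.1 h1)
    · exact not_cyclic_of_zpowers_top h1
  have hNM : N = M := by
    by_contra hne
    exact hNtop (hM.2 N (lt_of_le_of_ne hle (Ne.symm hne)))
  rw [← hNM]
  exact mem_norm_zpowers r y hy

theorem dih_conj {c : ℕ} (i : ZMod c) (y : DihedralGroup c) :
    y * DihedralGroup.r i * y⁻¹ = DihedralGroup.r i ∨ y * DihedralGroup.r i * y⁻¹ = (DihedralGroup.r i)⁻¹ := by
  rcases y with j | j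
  · left
    simp [DihedralGroup.r_mul_r, DihedralGroup.inv_r]
  · right
    simp [DihedralGroup.sr_mul_r, DihedralGroup.inv_r, DihedralGroup.inv_sr, DihedralGroup.sr_mul_sr]

include hF in
theorem d_dvd_N {N : ℕ} (hq2 : 2 ≤ q) (hN : N = q - 1 ∨ N = q + 1) : Nat.gcd 2 (q - 1) ∣ N := by
  have hd2 : Nat.gcd 2 (q - 1) ∣ 2 := Nat.gcd_dvd_left _ _
  have hdq : Nat.gcd 2 (q - 1) ∣ q - 1 := Nat.gcd_dvd_right _ _
  rcases hN with h | h
  · rw [h]; exact hdq
  · rw [h]
    have : q + 1 = (q - 1) + 2 := by omega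
    rw [this]
    exact Nat.dvd_add hdq hd2

variable (p : ℕ) [hp : Fact p.Prime] [CharP F p]

include hF in
/-- The dihedral case. -/
theorem dih_main (hq4 : 4 ≤ q) {M : Subgroup (Pe F)} (hM : IsCoatom M) {c : ℕ} (hc3 : 3 ≤ c) (ρ : M)
    (hρ : orderOf ρ = c) (hρp : ρ ^ p ≠ 1) (e : M ≃* DihedralGroup c) :
    ∃ N : ℕ, (N = q - 1 ∨ N = q + 1) ∧ 3 ≤ N ∧ c = N / Nat.gcd 2 (q - 1) := by
  set r : Pe F := (ρ : Pe F) with hr
  have hro : orderOf r = c := by rw [hr, Subgroup.orderOf_coe, hρ]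
  have hr1 : r ≠ 1 := by
    intro h
    rw [h, orderOf_one] at hro
    omega
  have hrp : r ^ p ≠ 1 := fun h => hρp (Subtype.ext (by simpa using h))
  obtain ⟨N, hN, hN3, ρ', σ', ho, hσσ, hc, hn, hg⟩ := torus_data hF p r hrp
  refine ⟨N, hN, hN3, ?_⟩
  have heo : orderOf (e ρ) = c := by rw [MulEquiv.orderOf_eq, hρ]
  obtain ⟨i, hi⟩ : ∃ i, e ρ = DihedralGroup.r i := by
    rcases h : e ρ with i | i
    · exact ⟨i, rfl⟩
    · rw [h, DihedralGroup.orderOf_sr] at heo
      omega
  have hMr : ∀ x ∈ M, x * r * x⁻¹ ∈ Subgroup.zpowers r := by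
    intro x hx
    rcases dih_conj i (e ⟨x, hx⟩) with h | h
    · have h1 : (⟨x, hx⟩ : M) * ρ * (⟨x, hx⟩ : M)⁻¹ = ρ := by
        apply e.injective
        simp only [map_mul, map_inv]
        rw [hi, h]
      have h2 : x * r * x⁻¹ = r := congrArg Subtype.val h1
      rw [h2]
      exact Subgroup.mem_zpowers r
    · have h1 : (⟨x, hx⟩ : M) * ρ * (⟨x, hx⟩ : M)⁻¹ = ρ⁻¹ := by
        apply e.injective
        simp only [map_mul, map_inv]
        rw [hi, h]
      have h2 : x * r * x⁻¹ = r⁻¹ := congrArg Subtype.val h1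
      rw [h2]
      exact Subgroup.inv_mem _ (Subgroup.mem_zpowers r)
  have hcomm : ρ' * r = r * ρ' := by
    obtain ⟨z, hz⟩ := Subgroup.mem_zpowers_iff.1 hg
    rw [← hz]
    exact ((Commute.refl ρ').zpow_right z)
  have hρ'M : ρ' ∈ M := by
    apply norm_le_of_coatom hF hq4 hM hr1 hMr
    rw [hcomm, mul_inv_cancel_right]
    exact Subgroup.mem_zpowers r
  let ρ'' : M := ⟨ρ', hρ'M⟩
  have hcomm' : ρ'' * ρ = ρ * ρ'' := Subtype.ext hcomm
  have hecomm : e ρ'' * DihedralGroup.r i = DihedralGroup.r i * e ρ'' := by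
    rw [← hi, ← map_mul, ← map_mul, hcomm']
  haveI : NeZero c := ⟨by omega⟩
  obtain ⟨j, hj⟩ : ∃ j, e ρ'' = DihedralGroup.r j := by
    rcases h : e ρ'' with j | j
    · exact ⟨j, rfl⟩
    · exfalso
      rw [h, DihedralGroup.sr_mul_r, DihedralGroup.r_mul_sr] at hecomm
      have h2 : j + i = j - i := DihedralGroup.sr.inj hecomm
      have h3 : i + i = 0 := by linear_combination h2
      have h4 : (DihedralGroup.r i : DihedralGroup c) ^ 2 = 1 := by
        rw [pow_two, DihedralGroup.r_mul_r, h3]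
        rfl
      have h5 := orderOf_dvd_of_pow_eq_one h4
      rw [← hi, heo] at h5
      have := Nat.le_of_dvd (by norm_num) h5
      omega
  apply Nat.dvd_antisymm
  · rw [← ho, ← hro]
    exact orderOf_dvd_of_mem_zpowers hg
  · rw [← ho]
    have h1 : orderOf ρ' = orderOf (DihedralGroup.r j : DihedralGroup c) := by
      rw [← hj, MulEquiv.orderOf_eq]
      exact (Subgroup.orderOf_mk ρ' hρ'M).symm
    rw [h1, DihedralGroup.orderOf_r]
    exact Nat.div_dvd_of_dvd (Nat.gcd_dvd_left _ _)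

include hF in
/-- A maximal subgroup is not cyclic of semisimple type. -/
theorem cyc_main (hq4 : 4 ≤ q) {M : Subgroup (Pe F)} (hM : IsCoatom M) (hc : IsCyclic M)
    (hnp : ∀ g : M, g ≠ 1 → g ^ p ≠ 1) : False := by
  classical
  have hq2 : 2 ≤ q := by omega
  obtain ⟨g₀, hgen⟩ := IsCyclic.exists_generator (α := M)
  have hg1 : g₀ ≠ 1 := by
    intro h
    have hbot : M = ⊥ := by
      rw [Subgroup.eq_bot_iff_forall]
      intro x hx
      obtain ⟨z, hz⟩ := Subgroup.mem_zpowers_iff.1 (hgen ⟨x, hx⟩)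
      rw [h, _root_.one_zpow] at hz
      exact (congrArg Subtype.val hz).symm
    rw [hbot] at hM
    by_cases hall : ∀ x : Pe F, x = 1
    · apply psl_not_comm (F := F)
      rw [isMulCommutative_iff]
      intro a b
      rw [hall a, hall b]
    · push Not at hall
      obtain ⟨x, hx⟩ := hall
      have h1 := hM.2 (Subgroup.zpowers x) (bot_lt_iff_ne_bot.2 (by
        intro h2
        exact hx (Subgroup.zpowers_eq_bot.1 h2)))
      exact not_cyclic_of_zpowers_top h1
  set r : Pe F := (g₀ : Pe F) with hr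
  have hr1 : r ≠ 1 := fun h => hg1 (Subtype.ext h)
  have hrp : r ^ p ≠ 1 := fun h => hnp g₀ hg1 (Subtype.ext (by simpa using h))
  obtain ⟨N, hN, hN3, ρ', σ', ho, hσσ, hcc, hn, hg⟩ := torus_data hF p r hrp
  letI : CommGroup M := IsCyclic.commGroup
  have hMr : ∀ x ∈ M, x * r * x⁻¹ ∈ Subgroup.zpowers r := by
    intro x hx
    have h1 : (⟨x, hx⟩ : M) * g₀ * (⟨x, hx⟩ : M)⁻¹ = g₀ := by
      rw [mul_comm, inv_mul_cancel_left]
    have h2 : x * r * x⁻¹ = r := congrArg Subtype.val h1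
    rw [h2]
    exact Subgroup.mem_zpowers r
  obtain ⟨z, hz⟩ := Subgroup.mem_zpowers_iff.1 hg
  have hcomm : ρ' * r = r * ρ' := by
    rw [← hz]
    exact ((Commute.refl ρ').zpow_right z)
  have hρ'M : ρ' ∈ M := by
    apply norm_le_of_coatom hF hq4 hM hr1 hMr
    rw [hcomm, mul_inv_cancel_right]
    exact Subgroup.mem_zpowers r
  have hσ'M : σ' ∈ M := by
    apply norm_le_of_coatom hF hq4 hM hr1 hMr
    rw [← hz, ← conj_zpow, hcc, _root_.inv_zpow]
    exact Subgroup.inv_mem _ (Subgroup.mem_zpowers _)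
  let x : M := ⟨ρ', hρ'M⟩
  let y : M := ⟨σ', hσ'M⟩
  have hxy : y * x * y⁻¹ = x⁻¹ := Subtype.ext hcc
  have hx2 : x ^ 2 = 1 := by
    rw [mul_comm, inv_mul_cancel_left] at hxy
    rw [pow_two]
    nth_rw 1 [hxy]
    exact inv_mul_cancel x
  have hy2 : y ^ 2 = 1 := by
    rw [pow_two]
    exact Subtype.ext hσσ
  have hd12 : Nat.gcd 2 (q - 1) = 1 ∨ Nat.gcd 2 (q - 1) = 2 :=
    (Nat.dvd_prime Nat.prime_two).1 (Nat.gcd_dvd_left _ _)
  obtain ⟨c, hc'⟩ := d_dvd_N hF hq2 hN
  have hx1 : x ≠ 1 := by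
    intro h
    have h1 : ρ' = 1 := congrArg Subtype.val h
    rw [h1, orderOf_one] at ho
    rcases hd12 with h2 | h2 <;> rw [h2] at ho hc' <;> omega
  have hy1 : y ≠ 1 := by
    intro h
    have h1 : σ' = 1 := congrArg Subtype.val h
    apply hn
    rw [h1]
    exact Subgroup.one_mem _
  have hne : x ≠ y := by
    intro h
    apply hn
    have h1 : ρ' = σ' := congrArg Subtype.val h
    rw [← h1]
    exact Subgroup.mem_zpowers _
  haveI : Fintype M := Fintype.ofFinite _
  have hle := IsCyclic.card_pow_eq_one_le (α := M) (n := 2) (by norm_num)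
  have hsub : ({1, x, y} : Finset M) ⊆ Finset.univ.filter (fun a : M => a ^ 2 = 1) := by
    intro a ha
    simp only [Finset.mem_insert, Finset.mem_singleton] at ha
    simp only [Finset.mem_filter, Finset.mem_univ, true_and]
    rcases ha with rfl | rfl | rfl
    · exact one_pow _
    · exact hx2
    · exact hy2
  have hcard : ({1, x, y} : Finset M).card = 3 := by
    rw [Finset.card_insert_of_notMem, Finset.card_insert_of_notMem, Finset.card_singleton]
    · simpa using hne
    · simp only [Finset.mem_insert, Finset.mem_singleton, not_or]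
      exact ⟨hx1.symm, hy1.symm⟩
  have := Finset.card_le_card hsub
  omega

end Max

/-! ### Conjugation and the Borel subgroup -/

theorem coatom_conj {M : Subgroup (Pe F)} (hM : IsCoatom M) (P : GL (Fin 2) F) : IsCoatom (conjSub P M) := by
  constructor
  · intro h
    apply hM.1
    rw [Subgroup.eq_top_iff']
    intro x
    have h1 : (Th P).symm x ∈ conjSub P M := by rw [h]; trivial
    rw [mem_conjSub, MulEquiv.apply_symm_apply] at h1
    exact h1
  · intro L hL
    let L' : Subgroup (Pe F) := L.comap (Th P).symm.toMonoidHom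
    have hle : M ≤ L' := by
      intro x hx
      apply hL.le
      show Th P ((Th P).symm x) ∈ M
      rwa [MulEquiv.apply_symm_apply]
    have hne : M ≠ L' := by
      intro h
      apply hL.ne'
      apply le_antisymm _ hL.le
      intro y hy
      show Th P y ∈ M
      rw [h]
      show (Th P).symm (Th P y) ∈ L
      rwa [MulEquiv.symm_apply_apply]
    have h1 := hM.2 L' (lt_of_le_of_ne hle hne)
    rw [Subgroup.eq_top_iff'] at h1 ⊢
    intro x
    have h2 := h1 (Th P x)
    have h3 : (Th P).symm (Th P x) ∈ L := h2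
    rwa [MulEquiv.symm_apply_apply] at h3

theorem e1_ne : (![1, 0] : Fin 2 → F) ≠ 0 := by
  intro h
  have := congrFun h 0
  simp at this

open scoped LinearAlgebra.Projectivization in
/-- The Borel subgroup. -/
noncomputable def Bo (F : Type*) [Field F] : Subgroup (Pe F) :=
  MulAction.stabilizer (Pe F) (Projectivization.mk F (![1, 0] : Fin 2 → F) e1_ne)

theorem mem_Bo_of (A : SL(2, F)) (h : A.1 1 0 = 0) : mkP A ∈ Bo F := by
  rw [Bo, MulAction.mem_stabilizer_iff, mkP_fix_iff]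
  refine ⟨A.1 0 0, ?_⟩
  ext i
  fin_cases i <;> simp [Matrix.mulVec, dotProduct, Fin.sum_univ_two, h]

theorem card_Bo [Fintype F] {q : ℕ} (hF : Fintype.card F = q) : Nat.card (Bo F) * (q + 1) = Nat.card (Pe F) := by
  classical
  have h1 := Subgroup.card_mul_index (Bo F)
  have h2 : (Bo F).index = q + 1 := by
    rw [Bo, MulAction.index_stabilizer]
    have h3 : MulAction.orbit (Pe F) (Projectivization.mk F (![1, 0] : Fin 2 → F) e1_ne) = Set.univ := by
      apply Set.eq_univ_of_forall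
      intro x
      induction x using Projectivization.ind with
      | h v hv =>
        obtain ⟨w, hw⟩ := exists_compl hv
        let A : SL(2, F) := ⟨colMat v w, by
          rw [Matrix.det_fin_two]
          simp only [colMat, dt] at hw ⊢
          simp
          linear_combination hw⟩
        refine ⟨mkP A, ?_⟩
        show mkP A • Projectivization.mk F (![1, 0] : Fin 2 → F) e1_ne = _
        rw [mkP_smul_eq_iff]
        refine ⟨1, ?_⟩
        show colMat v w *ᵥ ![1, 0] = (1 : F) • v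
        rw [colMat_mulVec]
        simp
    rw [h3, Set.ncard_univ, Projectivization.card_of_finrank_two F _ (by simp), Nat.card_eq_fintype_card, hF]
  rwa [h2] at h1

/-- The Borel case. -/
theorem borel_main [Fintype F] {q : ℕ} (hF : Fintype.card F = q) {M : Subgroup (Pe F)} (hM : IsCoatom M)
    (P : GL (Fin 2) F) (hP : ∀ A : SL(2, F), mkP A ∈ conjSub P M → A.1 1 0 = 0) :
    Nat.card M * (q + 1) = Nat.card (Pe F) := by
  have hq2 : 2 ≤ q := by
    rw [← hF]
    exact Fintype.one_lt_card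
  have hc := coatom_conj hM P
  have hle : conjSub P M ≤ Bo F := by
    intro x hx
    obtain ⟨A, rfl⟩ := mkP_surj x
    exact mem_Bo_of A (hP A hx)
  have hcard := card_Bo hF
  have htop : Bo F ≠ ⊤ := by
    intro h
    have h1 : Nat.card (Bo F) = Nat.card (Pe F) := by
      rw [h]
      exact Nat.card_eq_of_bijective (fun x : (⊤ : Subgroup (Pe F)) => (x : Pe F))
        ⟨Subtype.val_injective, fun x => ⟨⟨x, trivial⟩, rfl⟩⟩
    rw [h1] at hcard
    have h2 : 0 < Nat.card (Pe F) := Nat.card_pos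
    nlinarith
  have heq : conjSub P M = Bo F := by
    by_contra hne
    exact htop (hc.2 _ (lt_of_le_of_ne hle hne))
  rw [← hcard, ← heq]
  congr 1
  exact Nat.card_congr (conjSubEquiv P M).toEquiv

/-! ### Subfields -/

theorem psl_range_le {K₀ K₁ : Subfield F} (h : K₀ ≤ K₁) :
    (pslEmbed K₀.subtype).range ≤ (pslEmbed K₁.subtype).range := by
  rintro _ ⟨x, rfl⟩
  obtain ⟨A, rfl⟩ := mkP_surj x
  refine ⟨mkP (Matrix.SpecialLinearGroup.map (Subfield.inclusion h) A), ?_⟩
  rw [pslEmbed_mkP, pslEmbed_mkP]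
  congr 1

theorem exists_mid_field [Fintype F] (p : ℕ) [hp : Fact p.Prime] [CharP F p] (K₀ : Subfield F) {a b : ℕ}
    (ha : a ≠ 0) (hab : (Nat.card K₀) ^ (a * b) = Fintype.card F) (hb : 1 ≤ b) :
    ∃ K₁ : Subfield F, K₀ ≤ K₁ ∧ Nat.card K₁ = (Nat.card K₀) ^ a := by
  classical
  haveI : Fintype K₀ := Fintype.ofFinite _
  haveI : CharP K₀ p := RingHom.charP K₀.subtype K₀.subtype_injective p
  obtain ⟨e, -, he⟩ := FiniteField.card K₀ p
  have hr : Nat.card K₀ = p ^ (e : ℕ) := by rw [Nat.card_eq_fintype_card, he]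
  haveI : Fintype (GaloisField p (e * a)) := Fintype.ofFinite _
  have hcard : Fintype.card (GaloisField p (e * a)) = (Nat.card K₀) ^ a := by
    rw [← Nat.card_eq_fintype_card, GaloisField.card p _ (Nat.mul_ne_zero e.ne_zero ha), hr, pow_mul]
  obtain ⟨ι⟩ := exists_ringHom_of_card_pow (K := GaloisField p (e * a)) (F := F) hb (by
    rw [hcard, ← pow_mul, hab])
  refine ⟨ι.fieldRange, ?_, ?_⟩
  · intro x hx
    have h1 : (⟨x, hx⟩ : K₀) ^ (Fintype.card K₀) ^ a = ⟨x, hx⟩ := FiniteField.pow_card_pow a _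
    have h3 : x ^ (Fintype.card K₀) ^ a = x := congrArg Subtype.val h1
    obtain ⟨y, hy⟩ := mem_range_of_pow_card ι (x := x) (by
      rw [hcard, Nat.card_eq_fintype_card]
      exact h3)
    exact RingHom.mem_fieldRange.2 ⟨y, hy⟩
  · rw [← hcard, ← Nat.card_eq_fintype_card]
    exact (Nat.card_congr (Equiv.ofInjective ι ι.injective)).symm


section SubMain

variable [Fintype F] {q : ℕ} (hF : Fintype.card F = q)

theorem card_top_eq {G : Type*} [Group G] : Nat.card (⊤ : Subgroup G) = Nat.card G :=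
  Nat.card_eq_of_bijective (fun x : (⊤ : Subgroup G) => (x : G))
    ⟨Subtype.val_injective, fun x => ⟨⟨x, trivial⟩, rfl⟩⟩

/-- Comparison of the orders of `PSL₂` over nested fields. -/
theorem card_psl_lt {K K' : Type*} [Field K] [Fintype K] [Field K'] [Fintype K'] {m : ℕ}
    (hm : (Fintype.card K) ^ m = Fintype.card K') (hm2 : 2 ≤ m) :
    Nat.card (Pe K) < Nat.card (Pe K') := by
  have hr2 : 2 ≤ Fintype.card K := Fintype.one_lt_card
  have hlt : Fintype.card K < Fintype.card K' := by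
    rw [← hm]
    calc Fintype.card K < Fintype.card K ^ 2 := by nlinarith
      _ ≤ Fintype.card K ^ m := Nat.pow_le_pow_right (by omega) hm2
  have h1 := num_lt hr2 hlt
  rcases Nat.even_or_odd (Fintype.card K) with he | ho
  · have he' : Even (Fintype.card K') := by
      rw [← hm]
      exact he.pow_of_ne_zero (by omega)
    have e1 : Nat.card (Pe K) = _ := card_psl2_even rfl he
    have e2 : Nat.card (Pe K') = _ := card_psl2_even rfl he'
    rw [e1, e2]
    exact h1
  · have ho' : Odd (Fintype.card K') := by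
      rw [← hm]
      exact ho.pow
    have e1 : 2 * Nat.card (Pe K) = _ := card_psl2_odd rfl ho
    have e2 : 2 * Nat.card (Pe K') = _ := card_psl2_odd rfl ho'
    omega

include hF in
/-- The exponent of a maximal subfield subgroup is prime. -/
theorem sub_main (p : ℕ) [hp : Fact p.Prime] [CharP F p] {M : Subgroup (Pe F)} (hM : IsCoatom M) (P : GL (Fin 2) F) (K₀ : Subfield F) {m : ℕ}
    (hm : (Nat.card K₀) ^ m = q) (hr : conjSub P M = (pslEmbed K₀.subtype).range) : m.Prime := by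
  classical
  haveI : Fintype K₀ := Fintype.ofFinite _
  have hc := coatom_conj hM P
  rw [hr] at hc
  have hq2 : 2 ≤ q := by
    rw [← hF]
    exact Fintype.one_lt_card
  have hcr : Nat.card (pslEmbed K₀.subtype).range = Nat.card (Pe K₀) :=
    (Nat.card_congr (MonoidHom.ofInjective (pslEmbed_injective K₀.subtype)).toEquiv).symm
  have hm0 : m ≠ 0 := by
    rintro rfl
    simp at hm
    omega
  have hm1 : m ≠ 1 := by
    rintro rfl
    rw [pow_one] at hm
    apply hc.1
    apply Subgroup.eq_top_of_card_eq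
    rw [hcr]
    have e : K₀ ≃+* F := FiniteField.ringEquivOfCardEq (by rw [← Nat.card_eq_fintype_card, hm, hF])
    exact Nat.card_congr (pslCongr e).toEquiv
  by_contra hnp
  have hm2 : 2 ≤ m := by omega
  set a := m.minFac with ha
  have hap : a.Prime := Nat.minFac_prime hm1
  obtain ⟨b, hb⟩ := Nat.minFac_dvd m
  have hb0 : b ≠ 0 := by
    rintro rfl
    simp at hb
    exact hm0 hb
  have hb1 : b ≠ 1 := by
    rintro rfl
    rw [mul_one] at hb
    rw [hb] at hnp
    exact hnp hap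
  rw [← ha] at hb
  obtain ⟨K₁, hle, hcard⟩ := exists_mid_field p K₀ (a := a) (b := b) hap.ne_zero
    (by rw [← hb, hm, hF]) (by omega)
  haveI : Fintype K₁ := Fintype.ofFinite _
  have hcr1 : Nat.card (pslEmbed K₁.subtype).range = Nat.card (Pe K₁) :=
    (Nat.card_congr (MonoidHom.ofInjective (pslEmbed_injective K₁.subtype)).toEquiv).symm
  have hlt1 : Nat.card (Pe K₀) < Nat.card (Pe K₁) := card_psl_lt (m := a)
    (by rw [← Nat.card_eq_fintype_card, ← Nat.card_eq_fintype_card, hcard]) hap.two_le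
  have hlt2 : Nat.card (Pe K₁) < Nat.card (Pe F) := card_psl_lt (m := b)
    (by rw [← Nat.card_eq_fintype_card, hcard, ← pow_mul, ← hb, hm, hF]) (by omega)
  have hne1 : (pslEmbed K₀.subtype).range ≠ (pslEmbed K₁.subtype).range := by
    intro h
    rw [h, hcr1] at hcr
    omega
  have h1 := hc.2 _ (lt_of_le_of_ne (psl_range_le hle) hne1)
  have h2 : Nat.card (Pe F) = Nat.card (Pe K₁) := by
    rw [← hcr1, h1]
    exact card_top_eq.symm
  omega

end SubMain

section Even

set_option maxRecDepth 100000 in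
theorem a4_inv : ∃ x : alternatingGroup (Fin 4), x ≠ 1 ∧ x ^ 2 = 1 := by decide +kernel

set_option maxRecDepth 100000 in
theorem s4_inv : ∃ x : Equiv.Perm (Fin 4), x ≠ 1 ∧ x ^ 2 = 1 := by decide +kernel

set_option maxRecDepth 100000 in
theorem a5_inv : ∃ x : alternatingGroup (Fin 5), x ≠ 1 ∧ x ^ 2 = 1 := by decide +kernel

/-- Transport of an involution. -/
theorem inv_of_equiv {X : Type*} [Group X] {G : Type*} [Group G] {H : Subgroup G} (e : H ≃* X) (h : ∃ x : X, x ≠ 1 ∧ x ^ 2 = 1) :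
    ∃ g : H, g ≠ 1 ∧ g ^ 2 = 1 := by
  obtain ⟨x, h1, h2⟩ := h
  refine ⟨e.symm x, ?_, ?_⟩
  · intro h3
    apply h1
    apply e.symm.injective
    rw [h3, map_one]
  · rw [← map_pow, h2, map_one]

variable [Fintype F]

/-- `PSL₂(2)` as a dihedral group of order six, in characteristic two. -/
theorem range_two_dih {q : ℕ} (hF : Fintype.card F = q) (h20 : (2 : F) = 0) {M : Subgroup (Pe F)} (P : GL (Fin 2) F)
    (K₀ : Subfield F) (hK : Nat.card K₀ = 2) (hr : conjSub P M = (pslEmbed K₀.subtype).range) :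
    ∃ ρ : M, orderOf ρ = 3 ∧ (ρ ^ 2 ≠ 1) ∧ Nonempty (M ≃* DihedralGroup 3) := by
  classical
  haveI : Fintype K₀ := Fintype.ofFinite _
  have hu : mkP (uu (1 : F)) ∈ conjSub P M := by
    rw [hr]
    exact uu_mem_psl K₀.subtype
  have hl : mkP (ll (1 : F)) ∈ conjSub P M := by
    rw [hr]
    exact ll_mem_psl K₀.subtype
  have huu : uu (1 : F) * uu 1 = 1 := by
    apply sl_ext <;> simp [sl_mul_apply]
    linear_combination h20
  have hll : ll (1 : F) * ll 1 = 1 := by
    apply sl_ext <;> simp [sl_mul_apply]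
    linear_combination h20
  set u := mkP (uu (1 : F)) with hudef
  set l := mkP (ll (1 : F)) with hldef
  have hu2 : u * u = 1 := by
    rw [hudef, ← mkP_mul, huu]
    rfl
  have hl2 : l * l = 1 := by
    rw [hldef, ← mkP_mul, hll]
    rfl
  have hul3 : (u * l) ^ 3 = 1 := by
    rw [hudef, hldef, ← mkP_mul, ← mkP_pow, mkP_eq_one_iff]
    left
    apply sl_ext <;> simp [pow_succ, sl_mul_apply] <;> grind
  have hul1 : u * l ≠ 1 := by
    rw [hudef, hldef, ← mkP_mul]
    intro h
    rw [mkP_eq_one_iff] at h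
    rcases h with h | h
    · have := congrArg (fun A : SL(2, F) => A.1 0 1) h
      simp [sl_mul_apply] at this
    · have h1 := congrFun (congrFun h 0) 1
      have h2 : (uu (1 : F) * ll 1).1 0 1 = (-1 : Matrix (Fin 2) (Fin 2) F) 0 1 := h1
      simp [sl_mul_apply] at h2
  haveI : Fact (Nat.Prime 3) := ⟨by norm_num⟩
  have ho : orderOf (u * l) = 3 := orderOf_eq_prime hul3 hul1
  have hmem : ∀ x, x ∈ conjSub P M → Th P x ∈ M := fun x hx => hx
  let ρ : M := ⟨Th P (u * l), hmem _ ((conjSub P M).mul_mem hu hl)⟩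
  let σ : M := ⟨Th P u, hmem _ hu⟩
  have hρo : orderOf ρ = 3 := by
    rw [← Subgroup.orderOf_coe]
    show orderOf (Th P (u * l)) = 3
    rw [MulEquiv.orderOf_eq, ho]
  have hσσ : σ * σ = 1 := by
    apply Subtype.ext
    show Th P u * Th P u = 1
    rw [← map_mul, hu2, map_one]
  have hul_inv : (u * l)⁻¹ = l * u := by
    apply inv_eq_of_mul_eq_one_right
    calc u * l * (l * u) = u * (l * l) * u := by group
      _ = 1 := by rw [hl2, mul_one, hu2]
  have hconj : σ * ρ * σ⁻¹ = ρ⁻¹ := by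
    apply Subtype.ext
    show Th P u * Th P (u * l) * (Th P u)⁻¹ = (Th P (u * l))⁻¹
    rw [← map_inv, ← map_inv, ← map_mul, ← map_mul, hul_inv]
    congr 1
    have : u⁻¹ = u := inv_eq_of_mul_eq_one_left hu2
    rw [this]
    calc u * (u * l) * u = (u * u) * l * u := by group
      _ = l * u := by rw [hu2, one_mul]
  have hσ1 : σ ≠ 1 := by
    intro h
    have h1 : Th P u = 1 := congrArg Subtype.val h
    have h2 : u = 1 := by
      apply (Th P).injective
      rw [h1, map_one]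
    rw [h2, one_mul] at hul1
    apply hul1
    have h3 : (l) ^ 3 = 1 := by
      rw [h2, one_mul] at hul3
      exact hul3
    have h4 : l ^ 3 = l := by
      rw [pow_succ, pow_two, hl2, one_mul]
    rw [← h4, h3]
  have hn : σ ∉ Subgroup.zpowers ρ := by
    intro h
    have h1 : orderOf σ ∣ orderOf ρ := orderOf_dvd_of_mem_zpowers h
    have h2 : orderOf σ ∣ 2 := orderOf_dvd_of_pow_eq_one (by rw [pow_two, hσσ])
    rw [hρo] at h1
    have h3 : orderOf σ ∣ Nat.gcd 3 2 := Nat.dvd_gcd h1 h2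
    norm_num at h3
    exact hσ1 h3
  have hcard : Nat.card M = 6 := by
    have h1 : Nat.card M = Nat.card (conjSub P M) := Nat.card_congr (conjSubEquiv P M).toEquiv
    rw [h1, hr]
    have h2 : Nat.card (pslEmbed K₀.subtype).range = Nat.card (Pe K₀) :=
      (Nat.card_congr (MonoidHom.ofInjective (pslEmbed_injective K₀.subtype)).toEquiv).symm
    rw [h2]
    have h3 := card_psl2_even (F := K₀) (q := 2) (by rw [← Nat.card_eq_fintype_card, hK]) (by decide)
    rw [h3]
    rfl
  refine ⟨ρ, hρo, ?_, ?_⟩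
  · intro h
    have h1 := orderOf_dvd_of_pow_eq_one h
    rw [hρo] at h1
    omega
  · exact Cfsg.Agent.Lib.TwoGroups.nonempty_mulEquiv_dihedral_of ρ σ hρo hσσ hconj hn (by rw [hcard])

/-- The maximal subgroups of `PSL₂(q)`, `q` even. -/
theorem main_even_class (heven : Even (Fintype.card F)) (h4 : 4 ≤ Fintype.card F) (M : Subgroup (Pe F)) (hM : IsCoatom M) :
    Nat.card M = Fintype.card F * (Fintype.card F - 1) ∨
    Nonempty (M ≃* DihedralGroup (Fintype.card F - 1)) ∨
    Nonempty (M ≃* DihedralGroup (Fintype.card F + 1)) ∨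
    (∃ (F₀ : Type) (_ : Field F₀) (_ : Fintype F₀) (r : ℕ), r.Prime ∧ Fintype.card F₀ ≠ 2 ∧
        Fintype.card F = Fintype.card F₀ ^ r ∧ Nonempty (M ≃* Pe F₀)) := by
  classical
  set q := Fintype.card F with hq
  have hF : Fintype.card F = q := rfl
  have h20 : (2 : F) = 0 := two_eq_zero_of_even heven
  obtain ⟨p, hpc⟩ := CharP.exists F
  haveI hpf : Fact p.Prime := ⟨CharP.char_is_prime F p⟩
  have hp2 : p = 2 := by
    have h1 : p ∣ 2 := (CharP.cast_eq_zero_iff F p 2).1 (by exact_mod_cast h20)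
    exact (Nat.prime_dvd_prime_iff_eq hpf.out Nat.prime_two).1 h1
  have hd : Nat.gcd 2 (q - 1) = 1 := by
    have hn : ¬ 2 ∣ q - 1 := by
      obtain ⟨k, hk⟩ := heven
      omega
    exact (Nat.Prime.coprime_iff_not_dvd Nat.prime_two).2 hn
  have dih_fin : ∀ (c : ℕ) (hc3 : 3 ≤ c) (ρ : M), orderOf ρ = c → ρ ^ p ≠ 1 → Nonempty (M ≃* DihedralGroup c) →
      c = q - 1 ∨ c = q + 1 := by
    rintro c hc3 ρ hρ hρp ⟨e⟩
    obtain ⟨N, hN, -, hcN⟩ := dih_main hF p h4 hM hc3 ρ hρ hρp e
    rw [hd, Nat.div_one] at hcN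
    rw [hcN]
    exact hN
  have hpow : ∀ {Y : Type} [Group Y] (e : M ≃* Y), (∃ y : Y, y ≠ 1 ∧ y ^ 2 = 1) → (∀ g : M, g ≠ 1 → g ^ p ≠ 1) → False := by
    intro Y _ e hy h
    obtain ⟨g, h1, h2⟩ := inv_of_equiv e hy
    exact h g h1 (by rw [hp2]; exact h2)
  rcases dickson_master p M with ⟨h1, h2⟩ | ⟨⟨c, ρ, hc, hρ, hρp, h3⟩, -⟩ | ⟨⟨e⟩, h2⟩ | ⟨⟨e⟩, h2⟩ | ⟨⟨e⟩, h2⟩ | ⟨P, -, hP⟩ | ⟨K₀, P, hK⟩
  · exact (cyc_main hF p h4 hM h1 h2).elim
  · have hc3 : 3 ≤ c := by
      by_contra hlt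
      have hc2 : c = 2 := by omega
      apply hρp
      rw [hp2]
      have h9 := pow_orderOf_eq_one ρ
      rwa [hρ, hc2] at h9
    rcases dih_fin c hc3 ρ hρ hρp h3 with h | h
    · right; left
      rwa [h] at h3
    · right; right; left
      rwa [h] at h3
  · obtain ⟨g, h1, h3⟩ := inv_of_equiv e a4_inv
    exact absurd (by rw [hp2]; exact h3) (h2 g h1)
  · obtain ⟨g, h1, h3⟩ := inv_of_equiv e s4_inv
    exact absurd (by rw [hp2]; exact h3) (h2 g h1)
  · obtain ⟨g, h1, h3⟩ := inv_of_equiv e a5_inv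
    rcases h2 with h2 | h2
    · omega
    · exact absurd (by rw [hp2]; exact h3) (h2 g h1)
  · left
    have h1 := borel_main hF hM P hP
    have h2 : Nat.card (Pe F) = q * (q ^ 2 - 1) := card_psl2_even hF heven
    rw [h2] at h1
    have h3 : q ^ 2 - 1 = (q - 1) * (q + 1) := sq_sub_one_nat q (by omega)
    rw [h3, ← mul_assoc] at h1
    exact Nat.eq_of_mul_eq_mul_right (by omega) h1
  · -- the subfield case
    haveI : Fintype K₀ := Fintype.ofFinite _
    obtain ⟨m, hm, hm1⟩ := subfield_num hF K₀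
    have hKeven : Even (Fintype.card K₀) := by
      have : (2 : K₀) = 0 := by
        apply K₀.subtype_injective
        rw [map_ofNat, map_zero]
        exact h20
      rw [Nat.even_iff]
      by_contra h
      exact two_ne_zero_of_odd (F := K₀) (Nat.odd_iff.2 (by omega)) this
    have hrange : conjSub P M = (pslEmbed K₀.subtype).range := by
      rcases hK with h | ⟨hsq, h⟩
      · exact h
      · have hle : (pslEmbed K₀.subtype).range ≤ (pglEmbed K₀.subtype hsq).range := by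
          rintro _ ⟨x, rfl⟩
          obtain ⟨A, rfl⟩ := mkP_surj x
          exact map_mem_pgl _ hsq A
        rw [h]
        symm
        apply Subgroup.eq_of_le_of_card_ge hle
        have h1 : Nat.card (pslEmbed K₀.subtype).range = Nat.card (Pe K₀) :=
          (Nat.card_congr (MonoidHom.ofInjective (pslEmbed_injective K₀.subtype)).toEquiv).symm
        have h2 : Nat.card (pglEmbed K₀.subtype hsq).range = Nat.card (Matrix.ProjGenLinGroup (Fin 2) K₀) :=
          (Nat.card_congr (MonoidHom.ofInjective (pglEmbed_injective K₀.subtype hsq)).toEquiv).symm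
        rw [h1, h2, card_pgl_eq, card_psl2_even rfl hKeven, Nat.card_eq_fintype_card]
    have hmp : m.Prime := sub_main hF p hM P K₀ hm hrange
    by_cases hr2 : Nat.card K₀ = 2
    · obtain ⟨ρ, hρ, hρ2, ⟨e⟩⟩ := range_two_dih hF h20 P K₀ hr2 hrange
      have h3 := dih_fin 3 (by norm_num) ρ hρ (by rw [hp2]; exact hρ2) ⟨e⟩
      have hq4 : q = 4 := by omega
      right; left
      rw [hq4]
      exact ⟨e⟩
    · right; right; right
      obtain ⟨K, i1, i2, m', hm', ⟨e⟩⟩ := exists_type_field hF p K₀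
      have hcK : Fintype.card K = Nat.card K₀ := by
        rw [← Nat.card_eq_fintype_card]
        exact (Nat.card_congr e.toEquiv).symm
      refine ⟨K, i1, i2, m, hmp, by rw [hcK]; exact hr2, by rw [hcK, hm], ?_⟩
      exact ⟨(conjSubEquiv P M).trans ((MulEquiv.subgroupCongr hrange).trans
        ((MonoidHom.ofInjective (pslEmbed_injective K₀.subtype)).symm.trans (pslCongr e)))⟩

end Even

end Cfsg.Agent.Lib.LocalEven.PslMax2
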