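/-
Maximal subgroups of `PSL₂(q)`, `q` odd: quaternion coordinates (helper23).
-/
import Mathlib
import Cfsg.Agent.Lib.LocalEven.PslMax2

set_option autoImplicit false
set_option linter.unusedSimpArgs false
set_option linter.unusedVariables false
set_option linter.unusedSectionVars false
set_option linter.style.haveILetI false

namespace Cfsg.Agent.Lib.LocalEven.PslMax3

open Cfsg.Agent.Lib.Classical Cfsg.Agent.Lib.LocalEven.PslMax Cfsg.Agent.Lib.LocalEven.PslMax2 Matrix
open scoped MatrixGroups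

variable {F : Type*} [Field F]

/-- The trace. -/
def trS (A : SL(2, F)) : F := A.1 0 0 + A.1 1 1

/-- The Chebyshev polynomials of the second kind. -/
def chebU (t : F) : ℕ → F
  | 0 => 0
  | 1 => 1
  | n + 2 => t * chebU t (n + 1) - chebU t n

theorem sq_CH (A : SL(2, F)) : A.1 * A.1 = trS A • A.1 - 1 := by
  have hd := sl_det A
  ext i j
  fin_cases i <;> fin_cases j <;> simp [Matrix.mul_apply, Fin.sum_univ_two, trS]
  · linear_combination (-1 : F) * hd
  · ring
  · ring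
  · linear_combination (-1 : F) * hd

theorem pow_cheb (A : SL(2, F)) (n : ℕ) :
    (A ^ (n + 1)).1 = chebU (trS A) (n + 1) • A.1 - chebU (trS A) n • 1 := by
  induction n with
  | zero => simp [chebU]
  | succ n ih =>
    rw [pow_succ, Matrix.SpecialLinearGroup.coe_mul, ih, sub_mul, smul_mul_assoc, smul_mul_assoc, sq_CH]
    simp only [chebU, one_mul]
    ext i j
    simp [Matrix.sub_apply, Matrix.smul_apply]
    ring

/-- A power trivial in `PSL₂` annihilates the Chebyshev polynomial. -/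
theorem cheb_zero (A : SL(2, F)) (n : ℕ) (h : mkP A ^ (n + 1) = 1) (h1 : mkP A ≠ 1) :
    chebU (trS A) (n + 1) = 0 := by
  by_contra hne
  apply h1
  have h2 : (A ^ (n + 1)).1 = 1 ∨ (A ^ (n + 1)).1 = -1 := by
    rw [← mkP_pow, mkP_eq_one_iff] at h
    rcases h with h | h
    · left
      rw [h]
      rfl
    · right
      exact h
  rw [pow_cheb] at h2
  set U := chebU (trS A) (n + 1) with hU
  set V := chebU (trS A) n with hV
  rcases h2 with h2 | h2
  · apply mkP_eq_one_of_scalar A (l := U⁻¹ * (1 + V))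
    have h3 : A.1 = U⁻¹ • (U • A.1) := by rw [smul_smul, inv_mul_cancel₀ hne, one_smul]
    rw [h3]
    have h4 : U • A.1 = (1 + V) • (1 : Matrix (Fin 2) (Fin 2) F) := by
      rw [add_smul, one_smul]
      exact sub_eq_iff_eq_add.mp h2
    rw [h4, smul_smul]
  · apply mkP_eq_one_of_scalar A (l := U⁻¹ * (-1 + V))
    have h3 : A.1 = U⁻¹ • (U • A.1) := by rw [smul_smul, inv_mul_cancel₀ hne, one_smul]
    rw [h3]
    have h4 : U • A.1 = (-1 + V) • (1 : Matrix (Fin 2) (Fin 2) F) := by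
      rw [add_smul, neg_smul, one_smul]
      exact sub_eq_iff_eq_add.mp h2
    rw [h4, smul_smul]

theorem tr_of_two (A : SL(2, F)) (h : mkP A ^ 2 = 1) (h1 : mkP A ≠ 1) : trS A = 0 := by
  have := cheb_zero A 1 h h1
  simpa [chebU] using this

theorem tr_of_three (A : SL(2, F)) (h : mkP A ^ 3 = 1) (h1 : mkP A ≠ 1) : trS A ^ 2 = 1 := by
  have := cheb_zero A 2 h h1
  simp only [chebU] at this
  linear_combination this

theorem tr_of_four (A : SL(2, F)) (h : mkP A ^ 4 = 1) (h1 : mkP A ≠ 1) : trS A * (trS A ^ 2 - 2) = 0 := by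
  have := cheb_zero A 3 h h1
  simp only [chebU] at this
  linear_combination this

theorem tr_of_five (A : SL(2, F)) (h : mkP A ^ 5 = 1) (h1 : mkP A ≠ 1) :
    (trS A ^ 2 - trS A - 1) * (trS A ^ 2 + trS A - 1) = 0 := by
  have := cheb_zero A 4 h h1
  simp only [chebU] at this
  linear_combination this

theorem tr_of_one (A : SL(2, F)) (h : mkP A = 1) : trS A = 2 ∨ trS A = -2 := by
  rw [mkP_eq_one_iff] at h
  rcases h with h | h
  · left
    rw [h]
    simp [trS]
    norm_num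
  · right
    simp [trS, h]
    norm_num

/-- Involutions lift to elements of square `-1`. -/
theorem sq_of_inv (h2 : (2 : F) ≠ 0) (A : SL(2, F)) (h : mkP A ^ 2 = 1) (h1 : mkP A ≠ 1) : A.1 * A.1 = -1 := by
  have ht := tr_of_two A h h1
  rw [sq_CH, ht]
  simp

/-- A quaternion pair from a pair of commuting involutions. -/
theorem quat_of_inv (h2 : (2 : F) ≠ 0) {a b : Pe F} (ha : a ^ 2 = 1) (hb : b ^ 2 = 1) (ha1 : a ≠ 1) (hb1 : b ≠ 1)
    (hab : a ≠ b) (hc : a * b = b * a) : ∃ A B : SL(2, F), mkP A = a ∧ mkP B = b ∧ A.1 * A.1 = -1 ∧ B.1 * B.1 = -1 ∧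
      B.1 * A.1 = -(A.1 * B.1) := by
  obtain ⟨A, rfl⟩ := mkP_surj a
  obtain ⟨B, rfl⟩ := mkP_surj b
  have hA := sq_of_inv h2 A ha ha1
  have hB := sq_of_inv h2 B hb hb1
  refine ⟨A, B, rfl, rfl, hA, hB, ?_⟩
  rw [← mkP_mul, ← mkP_mul, mkP_eq_iff] at hc
  rcases hc with hc | hc
  · exfalso
    have hcm : A.1 * B.1 = B.1 * A.1 := by
      have := congrArg Subtype.val hc
      simpa using this
    have hne : mkP (A * B) ≠ 1 := by
      intro h
      apply hab
      have h3 : mkP A * mkP B = 1 := h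
      have h4 : mkP B * mkP B = 1 := by rw [← pow_two]; exact hb
      calc mkP A = mkP A * (mkP B * mkP B) := by rw [h4, mul_one]
        _ = mkP B := by rw [← mul_assoc, h3, one_mul]
    have h3 : mkP (A * B) ^ 2 = 1 := by
      rw [← mkP_pow, mkP_eq_one_iff]
      left
      apply Subtype.ext
      show (A * B).1 ^ 2 = 1
      rw [pow_two]
      show A.1 * B.1 * (A.1 * B.1) = 1
      calc A.1 * B.1 * (A.1 * B.1) = A.1 * (B.1 * A.1) * B.1 := by simp only [mul_assoc]
        _ = A.1 * (A.1 * B.1) * B.1 := by rw [hcm]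
        _ = (A.1 * A.1) * (B.1 * B.1) := by simp only [mul_assoc]
        _ = 1 := by rw [hA, hB]; simp
    have h4 := sq_of_inv h2 _ h3 hne
    have h5 : (A * B).1 * (A * B).1 = 1 := by
      show A.1 * B.1 * (A.1 * B.1) = 1
      calc A.1 * B.1 * (A.1 * B.1) = A.1 * (B.1 * A.1) * B.1 := by simp only [mul_assoc]
        _ = A.1 * (A.1 * B.1) * B.1 := by rw [hcm]
        _ = (A.1 * A.1) * (B.1 * B.1) := by simp only [mul_assoc]
        _ = 1 := by rw [hA, hB]; simp
    rw [h5] at h4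
    have h6 := congrFun (congrFun h4 0) 0
    simp at h6
    apply h2
    linear_combination h6
  · exact hc

namespace QS

variable (S : QSplit F)

/-- The lift of `i`. -/
def sI : SL(2, F) := S.qs (a := 0) (b := 1) (c := 0) (d := 0) (by norm_num)
/-- The lift of `j`. -/
def sJ : SL(2, F) := S.qs (a := 0) (b := 0) (c := 1) (d := 0) (by norm_num)
/-- The lift of `k`. -/
def sK : SL(2, F) := S.qs (a := 0) (b := 0) (c := 0) (d := 1) (by norm_num)

theorem mk_sI : mkP (sI S) = S.ia := (S.P_of _).symm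
theorem mk_sJ : mkP (sJ S) = S.jb := (S.P_of _).symm
theorem mk_sK : mkP (sK S) = S.kk := (S.P_of _).symm

@[simp] theorem sI_00 : (sI S).1 0 0 = 0 := by simp [sI, QSplit.qs, QSplit.qm]
@[simp] theorem sI_01 : (sI S).1 0 1 = 1 := by simp [sI, QSplit.qs, QSplit.qm]
@[simp] theorem sI_10 : (sI S).1 1 0 = -1 := by simp [sI, QSplit.qs, QSplit.qm]
@[simp] theorem sI_11 : (sI S).1 1 1 = 0 := by simp [sI, QSplit.qs, QSplit.qm]
@[simp] theorem sJ_00 : (sJ S).1 0 0 = S.x := by simp [sJ, QSplit.qs, QSplit.qm]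
@[simp] theorem sJ_01 : (sJ S).1 0 1 = S.y := by simp [sJ, QSplit.qs, QSplit.qm]
@[simp] theorem sJ_10 : (sJ S).1 1 0 = S.y := by simp [sJ, QSplit.qs, QSplit.qm]
@[simp] theorem sJ_11 : (sJ S).1 1 1 = -S.x := by simp [sJ, QSplit.qs, QSplit.qm]
@[simp] theorem sK_00 : (sK S).1 0 0 = S.y := by simp [sK, QSplit.qs, QSplit.qm]
@[simp] theorem sK_01 : (sK S).1 0 1 = -S.x := by simp [sK, QSplit.qs, QSplit.qm]
@[simp] theorem sK_10 : (sK S).1 1 0 = -S.x := by simp [sK, QSplit.qs, QSplit.qm]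
@[simp] theorem sK_11 : (sK S).1 1 1 = -S.y := by simp [sK, QSplit.qs, QSplit.qm]

/-- The coordinates. -/
def cc (g : SL(2, F)) : Fin 4 → F :=
  ![S.h * trS g, -(S.h * trS (g * sI S)), -(S.h * trS (g * sJ S)), -(S.h * trS (g * sK S))]

theorem tr_I (g : SL(2, F)) : trS (g * sI S) = g.1 1 0 - g.1 0 1 := by
  simp [trS, sl_mul_apply]
  ring

theorem tr_J (g : SL(2, F)) : trS (g * sJ S) = S.x * (g.1 0 0 - g.1 1 1) + S.y * (g.1 0 1 + g.1 1 0) := by
  simp [trS, sl_mul_apply]
  ring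

theorem tr_K (g : SL(2, F)) : trS (g * sK S) = S.y * (g.1 0 0 - g.1 1 1) - S.x * (g.1 0 1 + g.1 1 0) := by
  simp [trS, sl_mul_apply]
  ring

theorem qm_cc (g : SL(2, F)) : g.1 = S.qm (cc S g 0) (cc S g 1) (cc S g 2) (cc S g 3) := by
  have hxy := S.hxy
  have hh := S.hh
  have e0 : ∀ u : F, S.h * (2 * u) = u := fun u => by linear_combination u * hh
  simp only [cc, Matrix.cons_val_zero, Matrix.cons_val_one, Matrix.cons_val]
  rw [tr_I, tr_J, tr_K]
  ext i j
  fin_cases i <;> fin_cases j <;> simp [QSplit.qm, trS]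
  · linear_combination (S.h * (g.1 0 0 - g.1 1 1)) * hxy - (g.1 0 0) * hh
  · linear_combination (S.h * (g.1 0 1 + g.1 1 0)) * hxy - (g.1 0 1) * hh
  · linear_combination (S.h * (g.1 0 1 + g.1 1 0)) * hxy - (g.1 1 0) * hh
  · linear_combination (-(S.h * (g.1 0 0 - g.1 1 1))) * hxy - (g.1 1 1) * hh

end QS

namespace QS

variable (S : QSplit F)

theorem qm_neg (a b c d : F) : -S.qm a b c d = S.qm (-a) (-b) (-c) (-d) := by
  ext i j
  fin_cases i <;> fin_cases j <;> simp [QSplit.qm] <;> ring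

theorem qm_inj {a b c d e f g h : F} (H : S.qm a b c d = S.qm e f g h) : a = e ∧ b = f ∧ c = g ∧ d = h := by
  have h2 := S.two_ne
  have hxy := S.hxy
  have h00 := congrFun (congrFun H 0) 0
  have h01 := congrFun (congrFun H 0) 1
  have h10 := congrFun (congrFun H 1) 0
  have h11 := congrFun (congrFun H 1) 1
  simp [QSplit.qm] at h00 h01 h10 h11
  have e1 : a = e := by
    apply mul_left_cancel₀ h2
    linear_combination h00 + h11
  have e2 : b = f := by
    apply mul_left_cancel₀ h2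
    linear_combination h01 - h10
  refine ⟨e1, e2, ?_, ?_⟩
  · have : c - g = 0 := by
      linear_combination (c - g) * hxy - S.x * (h00 - e1) - S.y * (h01 - e2)
    exact sub_eq_zero.1 this
  · have : d - h = 0 := by
      linear_combination (d - h) * hxy - S.y * (h00 - e1) + S.x * (h01 - e2)
    exact sub_eq_zero.1 this

theorem norm_cc (G : SL(2, F)) : (cc S G 0) ^ 2 + (cc S G 1) ^ 2 + (cc S G 2) ^ 2 + (cc S G 3) ^ 2 = 1 := by
  have h := G.2
  rw [show (G.1 : Matrix (Fin 2) (Fin 2) F) = _ from qm_cc S G, S.qm_det] at h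
  exact h

theorem P_cc (G : SL(2, F)) : mkP G = S.P (cc S G 0) (cc S G 1) (cc S G 2) (cc S G 3) := by
  rw [S.P_of (norm_cc S G)]
  congr 1
  apply Subtype.ext
  exact qm_cc S G

theorem comm_I {G : SL(2, F)} {a b c d : F} (hG : G.1 = S.qm a b c d) (h : mkP G * S.ia = S.ia * mkP G) :
    (c = 0 ∧ d = 0) ∨ (a = 0 ∧ b = 0) := by
  have h2 := S.two_ne
  rw [← mk_sI, ← mkP_mul, ← mkP_mul, mkP_eq_iff] at h
  have e1 : (G * sI S).1 = S.qm a b c d * S.qm 0 1 0 0 := by
    rw [Matrix.SpecialLinearGroup.coe_mul, hG]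
    rfl
  have e2 : (sI S * G).1 = S.qm 0 1 0 0 * S.qm a b c d := by
    rw [Matrix.SpecialLinearGroup.coe_mul, hG]
    rfl
  rcases h with h | h
  · left
    have h3 := congrArg Subtype.val h
    rw [e1, e2, S.qm_mul, S.qm_mul] at h3
    obtain ⟨-, -, h4, h5⟩ := qm_inj S h3
    constructor
    · apply mul_left_cancel₀ h2
      linear_combination (-1 : F) * h5
    · apply mul_left_cancel₀ h2
      linear_combination h4
  · right
    rw [e1, e2, S.qm_mul, S.qm_mul, qm_neg] at h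
    obtain ⟨h4, h5, -, -⟩ := qm_inj S h
    constructor
    · apply mul_left_cancel₀ h2
      linear_combination h5
    · apply mul_left_cancel₀ h2
      linear_combination (-1 : F) * h4

theorem comm_J {G : SL(2, F)} {a b c d : F} (hG : G.1 = S.qm a b c d) (h : mkP G * S.jb = S.jb * mkP G) :
    (b = 0 ∧ d = 0) ∨ (a = 0 ∧ c = 0) := by
  have h2 := S.two_ne
  rw [← mk_sJ, ← mkP_mul, ← mkP_mul, mkP_eq_iff] at h
  have e1 : (G * sJ S).1 = S.qm a b c d * S.qm 0 0 1 0 := by
    rw [Matrix.SpecialLinearGroup.coe_mul, hG]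
    rfl
  have e2 : (sJ S * G).1 = S.qm 0 0 1 0 * S.qm a b c d := by
    rw [Matrix.SpecialLinearGroup.coe_mul, hG]
    rfl
  rcases h with h | h
  · left
    have h3 := congrArg Subtype.val h
    rw [e1, e2, S.qm_mul, S.qm_mul] at h3
    obtain ⟨-, h4, -, h5⟩ := qm_inj S h3
    constructor
    · apply mul_left_cancel₀ h2
      linear_combination h5
    · apply mul_left_cancel₀ h2
      linear_combination (-1 : F) * h4
  · right
    rw [e1, e2, S.qm_mul, S.qm_mul, qm_neg] at h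
    obtain ⟨h4, -, h5, -⟩ := qm_inj S h
    constructor
    · apply mul_left_cancel₀ h2
      linear_combination h5
    · apply mul_left_cancel₀ h2
      linear_combination (-1 : F) * h4

theorem sq_one_cases {u : F} (hu : u ^ 2 = 1) : u = 1 ∨ u = -1 := by
  have : (u - 1) * (u + 1) = 0 := by linear_combination hu
  rcases mul_eq_zero.1 this with h | h
  · left
    exact sub_eq_zero.1 h
  · right
    exact eq_neg_of_add_eq_zero_left h

theorem P_sign_a {a : F} (ha : a ^ 2 = 1) : S.P a 0 0 0 = 1 := by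
  rcases sq_one_cases ha with rfl | rfl
  · exact S.P_one
  · have := S.P_neg 1 0 0 0
    simp only [neg_zero] at this
    rw [this, S.P_one]

theorem P_sign_b {a : F} (ha : a ^ 2 = 1) : S.P 0 a 0 0 = S.ia := by
  rcases sq_one_cases ha with rfl | rfl
  · rfl
  · have := S.P_neg 0 1 0 0
    simp only [neg_zero] at this
    exact this

theorem P_sign_c {a : F} (ha : a ^ 2 = 1) : S.P 0 0 a 0 = S.jb := by
  rcases sq_one_cases ha with rfl | rfl
  · rfl
  · have := S.P_neg 0 0 1 0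
    simp only [neg_zero] at this
    exact this

theorem P_sign_d {a : F} (ha : a ^ 2 = 1) : S.P 0 0 0 a = S.kk := by
  rcases sq_one_cases ha with rfl | rfl
  · rfl
  · have := S.P_neg 0 0 0 1
    simp only [neg_zero] at this
    exact this

/-- The centraliser of the standard Klein group. -/
theorem cent_V [Finite F] (G : SL(2, F)) (h1 : mkP G * S.ia = S.ia * mkP G) (h2 : mkP G * S.jb = S.jb * mkP G) :
    mkP G ∈ S.a4.V := by
  obtain ⟨a, b, c, d, hG, hn, hP⟩ : ∃ a b c d, G.1 = S.qm a b c d ∧ a ^ 2 + b ^ 2 + c ^ 2 + d ^ 2 = 1 ∧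
      mkP G = S.P a b c d := ⟨_, _, _, _, qm_cc S G, norm_cc S G, P_cc S G⟩
  rw [A4Data.mem_V, hP]
  rcases comm_I S hG h1 with ⟨rfl, rfl⟩ | ⟨rfl, rfl⟩ <;> rcases comm_J S hG h2 with ⟨h3, h4⟩ | ⟨h3, h4⟩
  · subst h3
    left
    apply P_sign_a
    simpa using hn
  · subst h3
    right; left
    apply P_sign_b
    simpa using hn
  · subst h4
    right; right; left
    apply P_sign_c
    simpa using hn
  · subst h4
    right; right; right
    show _ = S.ia * S.jb
    rw [S.ia_jb]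
    apply P_sign_d
    simpa using hn

end QS

theorem tr_zero_of_sq (A : SL(2, F)) (h : A.1 * A.1 = -1) : trS A = 0 := by
  have h2 : trS A • A.1 = 0 := by
    have h1 := sq_CH A
    rw [h] at h1
    have h3 : trS A • A.1 = (trS A • A.1 - 1) + 1 := by abel
    rw [h3, ← h1]
    simp
  by_contra hne
  have h3 : A.1 = 0 := (smul_eq_zero.1 h2).resolve_left hne
  have hd := A.2
  rw [h3] at hd
  simp at hd

theorem dt_zero_smul {v u : Fin 2 → F} (hv : v ≠ 0) (h : dt v u = 0) : ∃ l : F, u = l • v := by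
  by_cases h0 : v 0 = 0
  · have h1 : v 1 ≠ 0 := fun h1 => hv (by
      ext i
      fin_cases i
      · exact h0
      · exact h1)
    refine ⟨u 1 / v 1, ?_⟩
    have h2 : v 1 * u 0 = 0 := by
      simp only [dt, h0] at h
      linear_combination -h
    ext i
    fin_cases i
    · simp [h0, (mul_eq_zero.1 h2).resolve_left h1]
    · simp [h1]
  · refine ⟨u 0 / v 0, ?_⟩
    ext i
    fin_cases i
    · simp [h0]
    · simp
      field_simp
      simp only [dt] at h
      linear_combination h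

/-- Every quaternion pair in `SL₂` is conjugate to the standard one. -/
theorem quat_std (S : QSplit F) (A B : SL(2, F)) (hA : A.1 * A.1 = -1) (hB : B.1 * B.1 = -1)
    (hAB : B.1 * A.1 = -(A.1 * B.1)) : ∃ P : GL (Fin 2) F, ThS P (QS.sI S) = A ∧ ThS P (QS.sJ S) = B := by
  have h2 := S.two_ne
  have hxy := S.hxy
  have ha := tr_zero_of_sq A hA
  have hb := tr_zero_of_sq B hB
  have hda := sl_det A
  have hdb := sl_det B
  set N : Matrix (Fin 2) (Fin 2) F := B.1 + S.y • A.1 - S.x • 1 with hN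
  have hdet : N.det = 0 := by
    rw [Matrix.det_fin_two]
    have h00 := congrFun (congrFun hAB 0) 0
    simp [Matrix.mul_apply, Fin.sum_univ_two] at h00
    simp only [trS] at ha hb
    have hd : A.1 1 1 = - A.1 0 0 := by linear_combination ha
    have hk : B.1 1 1 = - B.1 0 0 := by linear_combination hb
    rw [hd] at hda
    rw [hk] at hdb
    simp [hN, hd, hk]
    linear_combination hdb + S.y ^ 2 * hda - S.y * h00 + hxy
  obtain ⟨v, hv0, hv⟩ := Matrix.exists_mulVec_eq_zero_iff.2 hdet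
  have hBv : B.1 *ᵥ v = S.x • v - S.y • (A.1 *ᵥ v) := by
    rw [hN, Matrix.sub_mulVec, Matrix.add_mulVec, Matrix.smul_mulVec, Matrix.smul_mulVec, Matrix.one_mulVec] at hv
    rw [eq_sub_iff_add_eq, ← sub_eq_zero, ← hv]
  have hAA : ∀ u : Fin 2 → F, A.1 *ᵥ (A.1 *ᵥ u) = -u := fun u => by
    rw [Matrix.mulVec_mulVec, hA, Matrix.neg_mulVec, Matrix.one_mulVec]
  have hBB : ∀ u : Fin 2 → F, B.1 *ᵥ (B.1 *ᵥ u) = -u := fun u => by
    rw [Matrix.mulVec_mulVec, hB, Matrix.neg_mulVec, Matrix.one_mulVec]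
  have hBA : ∀ u : Fin 2 → F, B.1 *ᵥ (A.1 *ᵥ u) = -(A.1 *ᵥ (B.1 *ᵥ u)) := fun u => by
    rw [Matrix.mulVec_mulVec, Matrix.mulVec_mulVec, hAB, Matrix.neg_mulVec]
  have hne : dt v (-(A.1 *ᵥ v)) ≠ 0 := by
    intro h0
    obtain ⟨l, hl⟩ := dt_zero_smul hv0 h0
    have hAv : A.1 *ᵥ v = (-l) • v := by
      rw [neg_smul, ← hl, neg_neg]
    have hv0' : ∀ u : F, u • v = 0 → u = 0 := fun u hu => (smul_eq_zero.1 hu).resolve_right hv0
    have hl2 : (l ^ 2 + 1) • v = 0 := by
      have h3 := hAA v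
      rw [hAv, Matrix.mulVec_smul, hAv] at h3
      rw [add_smul, one_smul, pow_two]
      rw [smul_smul] at h3
      have h4 : (-l * -l) = l * l := by ring
      rw [h4] at h3
      rw [h3]
      simp
    have hBv2 : B.1 *ᵥ v = (S.x + S.y * l) • v := by
      rw [hBv, hAv, add_smul, smul_smul]
      simp [sub_eq_add_neg]
    set μ := S.x + S.y * l with hμ
    have hm2 : (μ ^ 2 + 1) • v = 0 := by
      have h3 := hBB v
      rw [hBv2, Matrix.mulVec_smul, hBv2, smul_smul] at h3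
      rw [add_smul, one_smul, pow_two, h3]
      simp
    have hc := hBA v
    rw [hBv2, hAv, Matrix.mulVec_smul, Matrix.mulVec_smul, hBv2, hAv, smul_smul, smul_smul] at hc
    have h5 : (2 * (-l * μ)) • v = 0 := by
      have h6 : (2 * (-l * μ)) • v = (-l * μ) • v + (μ * -l) • v := by
        rw [← add_smul]
        congr 1
        ring
      rw [h6]
      have h7 : (-l * μ) • v = -((μ * -l) • v) := hc
      rw [h7]
      simp
    have h6 := hv0' _ h5
    have hl0 := hv0' _ hl2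
    have hm0 := hv0' _ hm2
    rcases mul_eq_zero.1 h6 with h7 | h7
    · exact h2 h7
    · rcases mul_eq_zero.1 h7 with h8 | h8
      · have : l = 0 := neg_eq_zero.1 h8
        rw [this] at hl0
        norm_num at hl0
      · rw [h8] at hm0
        norm_num at hm0
  refine ⟨colGL v (-(A.1 *ᵥ v)) hne, ?_, ?_⟩
  · apply ThS_eq_of_basis hne
    · simp
    · rw [Matrix.mulVec_neg, hAA]
      simp
  · apply ThS_eq_of_basis hne
    · rw [hBv, QS.sJ_00, QS.sJ_10, smul_neg, sub_eq_add_neg]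
    · rw [Matrix.mulVec_neg, hBA, neg_neg, hBv, Matrix.mulVec_sub, Matrix.mulVec_smul, Matrix.mulVec_smul, hAA,
        QS.sJ_01, QS.sJ_11, neg_smul, smul_neg, smul_neg, neg_neg, sub_neg_eq_add, add_comm]

/-- Every Klein group of `PSL₂(F)` is conjugate to the standard one. -/
theorem frame (S : QSplit F) {a b : Pe F} (ha : a ^ 2 = 1) (hb : b ^ 2 = 1) (ha1 : a ≠ 1) (hb1 : b ≠ 1)
    (hab : a ≠ b) (hc : a * b = b * a) : ∃ P : GL (Fin 2) F, Th P S.ia = a ∧ Th P S.jb = b := by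
  obtain ⟨A, B, rfl, rfl, hA, hB, hAB⟩ := quat_of_inv S.two_ne ha hb ha1 hb1 hab hc
  obtain ⟨P, h1, h2⟩ := quat_std S A B hA hB hAB
  refine ⟨P, ?_, ?_⟩
  · rw [← QS.mk_sI, Th_mkP, h1]
  · rw [← QS.mk_sJ, Th_mkP, h2]

section Conj

theorem T_le_of {G : Type*} [Group G] [Finite G] (D : A4Data G) (N : Subgroup G) (ha : D.a ∈ N) (hb : D.b ∈ N)
    (hw : D.w ∈ N) : D.T ≤ N := by
  intro x hx
  obtain ⟨v, hv, k, -, rfl⟩ := D.rep_T hx
  refine N.mul_mem ?_ (N.pow_mem hw k)
  rcases D.mem_V.1 hv with rfl | rfl | rfl | rfl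
  · exact N.one_mem
  · exact ha
  · exact hb
  · exact N.mul_mem ha hb

variable [Finite F]

/-- Every `A₄` of `PSL₂(F)` is conjugate to the standard one. -/
theorem conj_T (S : QSplit F) (D : A4Data (Pe F)) :
    ∃ P : GL (Fin 2) F, Th P S.ia = D.a ∧ Th P S.jb = D.b ∧ conjSub P D.T = S.a4.T := by
  obtain ⟨P, h1, h2⟩ := frame S D.ha D.hb D.ha1 D.hb1 D.hne D.hab
  refine ⟨P, h1, h2, ?_⟩
  set w' := (Th P).symm D.w with hw'
  have hw'P : Th P w' = D.w := by simp [hw']
  have hc1 : w' * S.ia * w'⁻¹ = S.kk := by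
    apply (Th P).injective
    rw [map_mul, map_mul, map_inv, hw'P, h1, D.h1, ← S.ia_jb, map_mul, h1, h2]
  have hc2 : w' * S.jb * w'⁻¹ = S.ia := by
    apply (Th P).injective
    rw [map_mul, map_mul, map_inv, hw'P, h2, D.h2, h1]
  have hc1' : w' * S.ia = S.kk * w' := by rw [← hc1]; group
  have hc2' : w' * S.jb = S.ia * w' := by rw [← hc2]; group
  have e1 : S.om⁻¹ * S.kk = S.ia * S.om⁻¹ := by
    rw [inv_mul_eq_iff_eq_mul, ← mul_assoc, S.om_ia, mul_assoc, mul_inv_cancel, mul_one]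
  have e2 : S.om⁻¹ * S.ia = S.jb * S.om⁻¹ := by
    rw [inv_mul_eq_iff_eq_mul, ← mul_assoc, S.om_jb, mul_assoc, mul_inv_cancel, mul_one]
  have hx : S.om⁻¹ * w' ∈ S.a4.V := by
    obtain ⟨G, hG⟩ := mkP_surj (S.om⁻¹ * w')
    rw [← hG]
    apply QS.cent_V S G
    · rw [hG, mul_assoc, hc1', ← mul_assoc, e1, mul_assoc]
    · rw [hG, mul_assoc, hc2', ← mul_assoc, e2, mul_assoc]
  have hw'T : w' ∈ S.a4.T := by
    have : w' = S.om * (S.om⁻¹ * w') := by group
    rw [this]
    exact S.a4.T.mul_mem S.a4.w_mem_T (S.a4.V_le_T hx)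
  let N : Subgroup (Pe F) := S.a4.T.comap (Th P).symm.toMonoidHom
  have hDT : D.T ≤ N := by
    apply T_le_of
    · show (Th P).symm D.a ∈ S.a4.T
      rw [← h1, MulEquiv.symm_apply_apply]
      exact S.a4.V_le_T S.a4.a_mem
    · show (Th P).symm D.b ∈ S.a4.T
      rw [← h2, MulEquiv.symm_apply_apply]
      exact S.a4.V_le_T S.a4.b_mem
    · exact hw'T
  have hle : conjSub P D.T ≤ S.a4.T := by
    intro x hx
    have h3 := hDT (mem_conjSub.1 hx)
    have h4 : (Th P).symm (Th P x) ∈ S.a4.T := h3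
    rwa [MulEquiv.symm_apply_apply] at h4
  apply Subgroup.eq_of_le_of_card_ge hle
  rw [S.a4.card_T, ← Nat.card_congr (conjSubEquiv P D.T).toEquiv, D.card_T]

end Conj

section Coord

theorem entries_mem (S : QSplit F) (K : Subfield F) (hx : S.x ∈ K) (hy : S.y ∈ K) (hh : S.h ∈ K) (t : F) (g : SL(2, F))
    (h0 : t * trS g ∈ K) (h1 : t * trS (g * QS.sI S) ∈ K) (h2 : t * trS (g * QS.sJ S) ∈ K)
    (h3 : t * trS (g * QS.sK S) ∈ K) (i j : Fin 2) : t * g.1 i j ∈ K := by
  obtain ⟨c0, c1, c2, c3, hG, e0, e1, e2, e3⟩ : ∃ c0 c1 c2 c3, g.1 = S.qm c0 c1 c2 c3 ∧ t * c0 ∈ K ∧ t * c1 ∈ K ∧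
      t * c2 ∈ K ∧ t * c3 ∈ K := by
    refine ⟨_, _, _, _, QS.qm_cc S g, ?_, ?_, ?_, ?_⟩
    · have : t * QS.cc S g 0 = S.h * (t * trS g) := by
        simp [QS.cc]
        ring
      rw [this]
      exact K.mul_mem hh h0
    · have : t * QS.cc S g 1 = -(S.h * (t * trS (g * QS.sI S))) := by
        simp [QS.cc]
        ring
      rw [this]
      exact K.neg_mem (K.mul_mem hh h1)
    · have : t * QS.cc S g 2 = -(S.h * (t * trS (g * QS.sJ S))) := by
        simp [QS.cc]
        ring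
      rw [this]
      exact K.neg_mem (K.mul_mem hh h2)
    · have : t * QS.cc S g 3 = -(S.h * (t * trS (g * QS.sK S))) := by
        simp [QS.cc]
        ring
      rw [this]
      exact K.neg_mem (K.mul_mem hh h3)
  rw [hG]
  fin_cases i <;> fin_cases j
  · have e : t * S.qm c0 c1 c2 c3 0 0 = t * c0 + (t * c2) * S.x + (t * c3) * S.y := by
      simp [QSplit.qm]
      ring
    show t * S.qm c0 c1 c2 c3 0 0 ∈ K
    rw [e]
    exact K.add_mem (K.add_mem e0 (K.mul_mem e2 hx)) (K.mul_mem e3 hy)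
  · have e : t * S.qm c0 c1 c2 c3 0 1 = t * c1 + (t * c2) * S.y - (t * c3) * S.x := by
      simp [QSplit.qm]
      ring
    show t * S.qm c0 c1 c2 c3 0 1 ∈ K
    rw [e]
    exact K.sub_mem (K.add_mem e1 (K.mul_mem e2 hy)) (K.mul_mem e3 hx)
  · have e : t * S.qm c0 c1 c2 c3 1 0 = -(t * c1) + (t * c2) * S.y - (t * c3) * S.x := by
      simp [QSplit.qm]
      ring
    show t * S.qm c0 c1 c2 c3 1 0 ∈ K
    rw [e]
    exact K.sub_mem (K.add_mem (K.neg_mem e1) (K.mul_mem e2 hy)) (K.mul_mem e3 hx)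
  · have e : t * S.qm c0 c1 c2 c3 1 1 = t * c0 - (t * c2) * S.x - (t * c3) * S.y := by
      simp [QSplit.qm]
      ring
    show t * S.qm c0 c1 c2 c3 1 1 ∈ K
    rw [e]
    exact K.sub_mem (K.sub_mem e0 (K.mul_mem e2 hx)) (K.mul_mem e3 hy)

theorem psl_mem_of_entries (K : Subfield F) (g : SL(2, F)) (h : ∀ i j, g.1 i j ∈ K) :
    mkP g ∈ (pslEmbed K.subtype).range := by
  let M : Matrix (Fin 2) (Fin 2) K := fun i j => ⟨g.1 i j, h i j⟩
  have hM : M.map K.subtype = g.1 := by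
    ext i j
    rfl
  have hd : M.det = 1 := by
    apply K.subtype_injective
    rw [map_one, RingHom.map_det]
    show (M.map K.subtype).det = 1
    rw [hM]
    exact g.2
  let g₁ : SL(2, K) := ⟨M, hd⟩
  refine ⟨mkP g₁, ?_⟩
  rw [pslEmbed_mkP]
  congr 1

theorem pgl_mem_of_entries (K : Subfield F) (hsq : ∀ a : K, a ≠ 0 → IsSquare (K.subtype a)) (g : SL(2, F)) (t : F)
    (ht : t ≠ 0) (h : ∀ i j, t * g.1 i j ∈ K) : mkP g ∈ (pglEmbed K.subtype hsq).range := by
  let M : Matrix (Fin 2) (Fin 2) K := fun i j => ⟨t * g.1 i j, h i j⟩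
  have hM : M.map K.subtype = t • g.1 := by
    ext i j
    rfl
  have hd : K.subtype M.det = t * t := by
    rw [RingHom.map_det]
    show (M.map K.subtype).det = t * t
    rw [hM, Matrix.det_smul, show g.1.det = 1 from g.2]
    simp [pow_two]
  have hd0 : M.det ≠ 0 := by
    intro h0
    rw [h0, map_zero] at hd
    exact mul_ne_zero ht ht hd.symm
  let G : GL (Fin 2) K := Matrix.GeneralLinearGroup.mkOfDetNeZero M hd0
  have hG : (G : Matrix (Fin 2) (Fin 2) K) = M := rfl
  have hs : t * t = K.subtype (G : Matrix (Fin 2) (Fin 2) K).det := by rw [hG, hd]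
  refine ⟨Matrix.ProjGenLinGroup.mk G, ?_⟩
  have e1 : pglEmbed K.subtype hsq (Matrix.ProjGenLinGroup.mk G) = mkP (pglLift K.subtype G t hs) :=
    glToPsl_apply K.subtype hsq G t hs
  rw [e1]
  congr 1
  apply Subtype.ext
  rw [pglLift_coe, hG, hM, smul_smul, inv_mul_cancel₀ ht, one_smul]

/-- Membership from traces. -/
theorem psl_mem_of_traces (S : QSplit F) (K : Subfield F) (hx : S.x ∈ K) (hy : S.y ∈ K) (hh : S.h ∈ K) (g : SL(2, F))
    (h0 : trS g ∈ K) (h1 : trS (g * QS.sI S) ∈ K) (h2 : trS (g * QS.sJ S) ∈ K)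
    (h3 : trS (g * QS.sK S) ∈ K) : mkP g ∈ (pslEmbed K.subtype).range := by
  apply psl_mem_of_entries
  intro i j
  have := entries_mem S K hx hy hh 1 g (by rwa [one_mul]) (by rwa [one_mul]) (by rwa [one_mul]) (by rwa [one_mul]) i j
  rwa [one_mul] at this

theorem pgl_mem_of_traces (S : QSplit F) (K : Subfield F) (hsq : ∀ a : K, a ≠ 0 → IsSquare (K.subtype a))
    (hx : S.x ∈ K) (hy : S.y ∈ K) (hh : S.h ∈ K) (t : F) (ht : t ≠ 0) (g : SL(2, F))
    (h0 : t * trS g ∈ K) (h1 : t * trS (g * QS.sI S) ∈ K) (h2 : t * trS (g * QS.sJ S) ∈ K)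
    (h3 : t * trS (g * QS.sK S) ∈ K) : mkP g ∈ (pglEmbed K.subtype hsq).range :=
  pgl_mem_of_entries K hsq g t ht (entries_mem S K hx hy hh t g h0 h1 h2 h3)

/-- The image of a splitting. -/
def mapS {K : Type*} [Field K] (ι : K →+* F) (S : QSplit K) : QSplit F where
  x := ι S.x
  y := ι S.y
  h := ι S.h
  hxy := by rw [← map_pow, ← map_pow, ← map_add, S.hxy]; simp
  hh := by
    have := congrArg ι S.hh
    rwa [map_mul, map_ofNat, map_one] at this

end Coord

end Cfsg.Agent.Lib.LocalEven.PslMax3
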