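/-
Maximal subgroups of `PSL₂(q)`, `q` odd: the subfield branches (helper23).
-/
import Mathlib
import Cfsg.Agent.Lib.LocalEven.PslMax3

set_option autoImplicit false
set_option linter.unusedSimpArgs false
set_option linter.unusedVariables false
set_option linter.unusedSectionVars false
set_option linter.style.haveILetI false

namespace Cfsg.Agent.Lib.LocalEven.PslMax4

open Cfsg.Agent.Lib.Classical Cfsg.Agent.Lib.LocalEven.PslMax Cfsg.Agent.Lib.LocalEven.PslMax2
  Cfsg.Agent.Lib.LocalEven.PslMax3 Matrix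
open scoped MatrixGroups

variable {F : Type*} [Field F] [Fintype F] {q : ℕ}

section Num

theorem pgl_card_lt {r q : ℕ} (hr : 3 ≤ r) (hq : r ^ 2 ≤ q) : 2 * (r * (r ^ 2 - 1)) < q * (q ^ 2 - 1) := by
  have h1 : r ^ 2 - 1 ≤ q ^ 2 - 1 := by
    have : r ^ 2 ≤ q ^ 2 := by
      have : r ≤ r ^ 2 := Nat.le_self_pow (by norm_num) _
      exact Nat.pow_le_pow_left (by omega) 2
    omega
  have h4 : 2 * r < r ^ 2 := by nlinarith
  have hr1 : 1 ≤ r ^ 2 - 1 := by
    have : 9 ≤ r ^ 2 := by nlinarith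
    omega
  calc 2 * (r * (r ^ 2 - 1)) = (2 * r) * (r ^ 2 - 1) := by ring
    _ < r ^ 2 * (r ^ 2 - 1) := Nat.mul_lt_mul_of_pos_right h4 (by omega)
    _ ≤ q * (q ^ 2 - 1) := Nat.mul_le_mul hq h1

end Num

variable (hF : Fintype.card F = q) (hodd : Odd q) (p : ℕ) [hp : Fact p.Prime] [CharP F p]

theorem range_card_psl (K : Subfield F) : Nat.card (pslEmbed K.subtype).range = Nat.card (Pe K) :=
  (Nat.card_congr (MonoidHom.ofInjective (pslEmbed_injective K.subtype)).toEquiv).symm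

theorem range_card_pgl (K : Subfield F) (hsq : ∀ a : K, a ≠ 0 → IsSquare (K.subtype a)) :
    Nat.card (pglEmbed K.subtype hsq).range = Nat.card K * (Nat.card K ^ 2 - 1) := by
  rw [← Nat.card_congr (MonoidHom.ofInjective (pglEmbed_injective K.subtype hsq)).toEquiv, card_pgl_eq]

theorem odd_card_subfield (hF : Fintype.card F = q) (hodd : Odd q) (K : Subfield F) : Odd (Nat.card K) := by
  classical
  haveI : Fintype K := Fintype.ofFinite _
  obtain ⟨m, hm, hm1⟩ := subfield_num hF K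
  rw [← hm] at hodd
  exact (Nat.odd_pow_iff (by omega)).1 hodd

include hF hodd in
/-- The range of `PGL₂(K)` inside `PSL₂(K₁)`. -/
theorem pgl_le_psl {K K₁ : Subfield F} (hle : K ≤ K₁) (hc : Nat.card K₁ = Nat.card K ^ 2)
    (hsq : ∀ a : K, a ≠ 0 → IsSquare (K.subtype a)) :
    (pglEmbed K.subtype hsq).range ≤ (pslEmbed K₁.subtype).range := by
  classical
  haveI : Fintype K := Fintype.ofFinite _
  haveI : Fintype K₁ := Fintype.ofFinite _
  rintro _ ⟨x, rfl⟩
  obtain ⟨G, rfl⟩ := Matrix.ProjGenLinGroup.mk_surjective x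
  have hsq1 := hsq_of_sq (K := K) (F := K₁) rfl (by rw [← Nat.card_eq_fintype_card, ← Nat.card_eq_fintype_card, hc])
    (by rw [← Nat.card_eq_fintype_card]; exact odd_card_subfield hF hodd K) (Subfield.inclusion hle)
  have hdet0 : (G : Matrix (Fin 2) (Fin 2) K).det ≠ 0 := ((Matrix.isUnit_iff_isUnit_det _).1 G.isUnit).ne_zero
  obtain ⟨s, hs⟩ := hsq1 _ hdet0
  have hs' : (s : F) * (s : F) = K.subtype (G : Matrix (Fin 2) (Fin 2) K).det := by
    have h : ((Subfield.inclusion hle ((G : Matrix (Fin 2) (Fin 2) K).det) : K₁) : F) = (s : F) * (s : F) := congrArg Subtype.val hs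
    exact h.symm
  have e1 : pglEmbed K.subtype hsq (Matrix.ProjGenLinGroup.mk G) = mkP (pglLift K.subtype G s hs') :=
    glToPsl_apply K.subtype hsq G s hs'
  rw [e1]
  apply psl_mem_of_entries
  intro i j
  rw [pglLift_coe]
  show (s : F)⁻¹ * K.subtype ((G : Matrix (Fin 2) (Fin 2) K) i j) ∈ K₁
  exact K₁.mul_mem (K₁.inv_mem s.2) (hle ((G : Matrix (Fin 2) (Fin 2) K) i j).2)

include hF hodd p in
/-- The branch `PSL₂(K)`. -/
theorem psl_branch {M : Subgroup (Pe F)} (hM : IsCoatom M) (P : GL (Fin 2) F) (K : Subfield F)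
    (hle : conjSub P M ≤ (pslEmbed K.subtype).range) (hne : (pslEmbed K.subtype).range ≠ ⊤) :
    ∃ (F₀ : Type) (_ : Field F₀) (_ : Fintype F₀) (r : ℕ), r.Prime ∧ Odd r ∧ Fintype.card F = Fintype.card F₀ ^ r ∧
        Nonempty (M ≃* Matrix.ProjectiveSpecialLinearGroup (Fin 2) F₀) := by
  classical
  haveI : Fintype K := Fintype.ofFinite _
  have hc := coatom_conj hM P
  have heq : conjSub P M = (pslEmbed K.subtype).range := by
    rcases hc.le_iff.1 hle with h | h
    · exact absurd h hne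
    · exact h.symm
  obtain ⟨m, hm, hm1⟩ := subfield_num hF K
  have hmp : m.Prime := sub_main hF p hM P K hm heq
  have hro : Odd (Nat.card K) := odd_card_subfield hF hodd K
  have hm2 : m ≠ 2 := by
    rintro rfl
    have hc1 : Fintype.card K = Nat.card K := Nat.card_eq_fintype_card.symm
    have hsq := hsq_of_sq (K := K) (F := F) (q := Nat.card K) hc1 ?_ hro K.subtype
    · have hle2 : (pslEmbed K.subtype).range ≤ (pglEmbed K.subtype hsq).range := by
        rintro _ ⟨x, rfl⟩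
        obtain ⟨A, rfl⟩ := mkP_surj x
        exact map_mem_pgl _ hsq A
      rw [← heq] at hle2
      have h2r : 3 ≤ Nat.card K := by
        obtain ⟨k, hk⟩ := hro
        have : 2 ≤ Nat.card K := by
          rw [hc1.symm]
          exact Fintype.one_lt_card
        omega
      have hG : 2 * Nat.card (Pe F) = q * (q ^ 2 - 1) := card_psl2_odd hF hodd
      have hK : 2 * Nat.card (Pe K) = Fintype.card K * (Fintype.card K ^ 2 - 1) := card_psl2_odd rfl (by rw [hc1]; exact hro)
      rw [hc1] at hK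
      have h3 := pgl_card_lt h2r (q := q) (by rw [hm])
      have hcardP := range_card_pgl K hsq
      have hcardL := range_card_psl K
      rw [← heq] at hcardL
      have h9 : 1 ≤ Nat.card K * (Nat.card K ^ 2 - 1) := by
        apply Nat.mul_pos (by omega)
        have : 9 ≤ Nat.card K ^ 2 := by nlinarith
        omega
      have htop : Nat.card (⊤ : Subgroup (Pe F)) = Nat.card (Pe F) := card_top_eq
      rcases hc.le_iff.1 hle2 with h | h
      · rw [h, htop] at hcardP
        omega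
      · rw [h] at hcardP
        omega
    · rw [hF, hm]
  refine ?_
  obtain ⟨K', i1, i2, m', hm', ⟨e⟩⟩ := exists_type_field hF p K
  have hcK : Fintype.card K' = Nat.card K := by
    rw [← Nat.card_eq_fintype_card]
    exact (Nat.card_congr e.toEquiv).symm
  refine ⟨K', i1, i2, m, hmp, hmp.odd_of_ne_two hm2, by rw [hcK, hm, hF], ?_⟩
  exact ⟨(conjSubEquiv P M).trans ((MulEquiv.subgroupCongr heq).trans
    ((MonoidHom.ofInjective (pslEmbed_injective K.subtype)).symm.trans (pslCongr e)))⟩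

include hF hodd p in
/-- The branch `PGL₂(K)`. -/
theorem pgl_branch {M : Subgroup (Pe F)} (hM : IsCoatom M) (P : GL (Fin 2) F) (K : Subfield F)
    (hsq : ∀ a : K, a ≠ 0 → IsSquare (K.subtype a)) (hle : conjSub P M ≤ (pglEmbed K.subtype hsq).range) :
    ∃ (F₀ : Type) (_ : Field F₀) (_ : Fintype F₀), Fintype.card F = Fintype.card F₀ ^ 2 ∧
        Nonempty (M ≃* Matrix.ProjGenLinGroup (Fin 2) F₀) := by
  classical
  haveI : Fintype K := Fintype.ofFinite _
  have hc := coatom_conj hM P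
  obtain ⟨m, hm, hm1⟩ := subfield_num hF K
  have hc1 : Fintype.card K = Nat.card K := Nat.card_eq_fintype_card.symm
  have hro : Odd (Nat.card K) := odd_card_subfield hF hodd K
  have hmeven : Even m := by
    have h := (subfield_psl_main hF hodd m hm1 (K := K) (by rw [hc1]; exact hm)).2
    exact h.1 ⟨_, ⟨MonoidHom.ofInjective (pglEmbed_injective K.subtype hsq) |>.symm⟩⟩
  obtain ⟨b, hb⟩ := hmeven
  have hb1 : 1 ≤ b := by omega
  have h2r : 3 ≤ Nat.card K := by
    obtain ⟨k, hk⟩ := hro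
    have : 2 ≤ Nat.card K := by
      rw [hc1.symm]
      exact Fintype.one_lt_card
    omega
  have hq2 : Nat.card K ^ 2 ≤ q := by
    rw [← hm, hb]
    apply Nat.pow_le_pow_right (by omega)
    omega
  have hG : 2 * Nat.card (Pe F) = q * (q ^ 2 - 1) := card_psl2_odd hF hodd
  have h3 := pgl_card_lt h2r hq2
  have hcardP := range_card_pgl K hsq
  have htop : Nat.card (⊤ : Subgroup (Pe F)) = Nat.card (Pe F) := card_top_eq
  have hne : (pglEmbed K.subtype hsq).range ≠ ⊤ := by
    intro h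
    rw [h, htop] at hcardP
    omega
  have heq : conjSub P M = (pglEmbed K.subtype hsq).range := by
    rcases hc.le_iff.1 hle with h | h
    · exact absurd h hne
    · exact h.symm
  have hb2 : b = 1 := by
    by_contra hb2
    obtain ⟨K₁, hle1, hcard1⟩ := exists_mid_field p K (a := 2) (b := b) (by norm_num)
      (by rw [hF, ← hm, hb, two_mul]) hb1
    haveI : Fintype K₁ := Fintype.ofFinite _
    have hle2 : conjSub P M ≤ (pslEmbed K₁.subtype).range := by
      rw [heq]
      exact pgl_le_psl hF hodd hle1 hcard1 hsq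
    have hr1 := range_card_psl K₁
    have hc2 : Fintype.card K₁ = Nat.card K ^ 2 := by rw [← Nat.card_eq_fintype_card, hcard1]
    have hK1 : 2 * Nat.card (Pe K₁) = Fintype.card K₁ * (Fintype.card K₁ ^ 2 - 1) :=
      card_psl2_odd rfl (by rw [hc2]; exact hro.pow)
    rw [hc2] at hK1
    rcases hc.le_iff.1 hle2 with h | h
    · rw [h, htop] at hr1
      have hlt : Nat.card (Pe K₁) < Nat.card (Pe F) := card_psl_lt (m := b)
        (by rw [hc2, ← pow_mul, hF, ← hm, hb, two_mul]) (by omega)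
      omega
    · rw [h, heq] at hr1
      have h4 := pgl_card_lt h2r (q := Nat.card K ^ 2) le_rfl
      rw [hcardP] at hr1
      omega
  subst hb2
  obtain ⟨K', i1, i2, m', hm', ⟨e⟩⟩ := exists_type_field hF p K
  have hcK : Fintype.card K' = Nat.card K := by
    rw [← Nat.card_eq_fintype_card]
    exact (Nat.card_congr e.toEquiv).symm
  refine ⟨K', i1, i2, by rw [hcK, hF, ← hm, hb], ?_⟩
  exact ⟨(conjSubEquiv P M).trans ((MulEquiv.subgroupCongr heq).trans
    ((MonoidHom.ofInjective (pglEmbed_injective K.subtype hsq)).symm.trans (pglCongr e)))⟩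

section Tr

variable {E : Type*} [Field E]

theorem two_mem (K : Subfield E) : (2 : E) ∈ K := by
  rw [← one_add_one_eq_two]
  exact K.add_mem K.one_mem K.one_mem

theorem tr_mem_one (K : Subfield E) (G : SL(2, E)) (h : mkP G = 1) : trS G ∈ K := by
  rcases tr_of_one G h with h | h <;> rw [h]
  · exact two_mem K
  · exact K.neg_mem (two_mem K)

theorem tr_mem_small (K : Subfield E) (G : SL(2, E)) (h : mkP G ^ 2 = 1 ∨ mkP G ^ 3 = 1) : trS G ∈ K := by
  by_cases h1 : mkP G = 1
  · exact tr_mem_one K G h1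
  rcases h with h | h
  · rw [tr_of_two G h h1]
    exact K.zero_mem
  · rcases QS.sq_one_cases (tr_of_three G h h1) with e | e <;> rw [e]
    · exact K.one_mem
    · exact K.neg_mem K.one_mem

theorem tr_mem_five (K : Subfield E) {φ : E} (hφK : φ ∈ K) (hφ : φ ^ 2 = φ + 1) (G : SL(2, E)) (h : mkP G ^ 5 = 1) :
    trS G ∈ K := by
  by_cases h1 : mkP G = 1
  · exact tr_mem_one K G h1
  have h2 := tr_of_five G h h1
  set t := trS G
  rcases mul_eq_zero.1 h2 with h3 | h3
  · have h4 : (t - φ) * (t + φ - 1) = 0 := by linear_combination h3 - hφ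
    rcases mul_eq_zero.1 h4 with h5 | h5
    · rw [sub_eq_zero.1 h5]
      exact hφK
    · have e : t = 1 - φ := by linear_combination h5
      rw [e]
      exact K.sub_mem K.one_mem hφK
  · have h4 : (-t - φ) * (-t + φ - 1) = 0 := by linear_combination h3 - hφ
    rcases mul_eq_zero.1 h4 with h5 | h5
    · have e : t = -φ := by linear_combination -h5
      rw [e]
      exact K.neg_mem hφK
    · have e : t = φ - 1 := by linear_combination -h5
      rw [e]
      exact K.sub_mem hφK K.one_mem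

/-- The golden ratio from an element of order five. -/
theorem phi_of_five (G : SL(2, E)) (h : mkP G ^ 5 = 1) (h1 : mkP G ≠ 1) :
    (trS G) ^ 2 = trS G + 1 ∨ (-trS G) ^ 2 = -trS G + 1 := by
  have h2 := tr_of_five G h h1
  rcases mul_eq_zero.1 h2 with h3 | h3
  · left
    linear_combination h3
  · right
    linear_combination h3

theorem mk_mul_I (S : QSplit E) (G : SL(2, E)) : mkP (G * QS.sI S) = mkP G * S.ia := by
  rw [mkP_mul, QS.mk_sI]

theorem mk_mul_J (S : QSplit E) (G : SL(2, E)) : mkP (G * QS.sJ S) = mkP G * S.jb := by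
  rw [mkP_mul, QS.mk_sJ]

theorem mk_mul_K (S : QSplit E) (G : SL(2, E)) : mkP (G * QS.sK S) = mkP G * (S.ia * S.jb) := by
  rw [mkP_mul, QS.mk_sK, S.ia_jb]

/-- A subgroup containing the standard Klein group, whose traces lie in `K`, lies in `PSL₂(K)`. -/
theorem le_psl (S : QSplit E) (K : Subfield E) (hx : S.x ∈ K) (hy : S.y ∈ K) (hh : S.h ∈ K) {L : Subgroup (Pe E)}
    (hi : S.ia ∈ L) (hj : S.jb ∈ L) (htr : ∀ G : SL(2, E), mkP G ∈ L → trS G ∈ K) :
    L ≤ (pslEmbed K.subtype).range := by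
  intro x hxL
  obtain ⟨G, rfl⟩ := mkP_surj x
  apply psl_mem_of_traces S K hx hy hh G (htr G hxL)
  · apply htr
    rw [mk_mul_I]
    exact L.mul_mem hxL hi
  · apply htr
    rw [mk_mul_J]
    exact L.mul_mem hxL hj
  · apply htr
    rw [mk_mul_K]
    exact L.mul_mem hxL (L.mul_mem hi hj)

end Tr

theorem pow_of_equiv {G X : Type*} [Group G] [Group X] {H : Subgroup G} (e : H ≃* X) {x : G} (hx : x ∈ H) {n : ℕ}
    (h : (e ⟨x, hx⟩) ^ n = 1) : x ^ n = 1 := by
  have h1 : (⟨x, hx⟩ : H) ^ n = 1 := by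
    apply e.injective
    rw [map_pow, h, map_one]
  simpa using congrArg Subtype.val h1

include hF hodd p in
theorem exists_std : ∃ (K₀ : Subfield F) (S : QSplit F), Nat.card K₀ = p ∧ S.x ∈ K₀ ∧ S.y ∈ K₀ ∧ S.h ∈ K₀ := by
  classical
  let f : ZMod p →+* F := ZMod.castHom (dvd_refl p) F
  let K₀ : Subfield F := f.fieldRange
  have hK₀ : Nat.card K₀ = p := by
    have : Nat.card K₀ = Nat.card (ZMod p) := (Nat.card_congr (Equiv.ofInjective f f.injective)).symm
    rw [this, Nat.card_zmod]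
  haveI : Fintype K₀ := Fintype.ofFinite _
  have ho := odd_card_subfield hF hodd K₀
  obtain ⟨S₀⟩ := QSplit.nonempty_of_odd (F := K₀) (by
    rw [← Nat.card_eq_fintype_card]
    exact Nat.odd_iff.1 ho)
  exact ⟨K₀, mapS K₀.subtype S₀, hK₀, S₀.x.2, S₀.y.2, S₀.h.2⟩

include hF in
theorem card_top_psl (K : Subfield F) (h : (pslEmbed K.subtype).range = ⊤) : Nat.card K = q := by
  classical
  haveI : Fintype K := Fintype.ofFinite _
  obtain ⟨m, hm, hm1⟩ := subfield_num hF K
  have hr := range_card_psl K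
  have htop : Nat.card (⊤ : Subgroup (Pe F)) = Nat.card (Pe F) := card_top_eq
  rw [h, htop] at hr
  by_contra hne
  have hm2 : 2 ≤ m := by
    by_contra hlt
    have : m = 1 := by omega
    subst this
    rw [pow_one] at hm
    exact hne hm
  have hlt : Nat.card (Pe K) < Nat.card (Pe F) := card_psl_lt (m := m)
    (by rw [← Nat.card_eq_fintype_card, hF, hm]) hm2
  omega

include hF hodd in
/-- Squares from a non-square. -/
theorem hsq_of_nonsquare (K : Subfield F) {c : F} {n : K} (hc : c ^ 2 = n) (hcK : c ∉ K) :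
    ∀ a : K, a ≠ 0 → IsSquare (K.subtype a) := by
  classical
  haveI : Fintype K := Fintype.ofFinite _
  have ho : Odd (Fintype.card K) := by
    rw [← Nat.card_eq_fintype_card]
    exact odd_card_subfield hF hodd K
  have hr : ringChar K ≠ 2 := by
    intro h
    have h1 := ringChar.Nat.cast_ringChar (R := K)
    rw [h] at h1
    exact two_ne_zero_of_odd ho (by exact_mod_cast h1)
  have hc0 : c ≠ 0 := fun h => hcK (by rw [h]; exact K.zero_mem)
  have hn0 : n ≠ 0 := by
    intro h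
    rw [h] at hc
    simp at hc
    exact hc0 hc
  have hnn : ¬ IsSquare n := by
    rintro ⟨d, hd⟩
    have h1 : c ^ 2 = (d : F) ^ 2 := by
      rw [hc, hd]
      simp [pow_two]
    rcases sq_eq_sq_iff_eq_or_eq_neg.1 h1 with h2 | h2
    · exact hcK (by rw [h2]; exact d.2)
    · exact hcK (by rw [h2]; exact K.neg_mem d.2)
  intro a ha
  by_cases hsa : IsSquare a
  · obtain ⟨d, hd⟩ := hsa
    refine ⟨K.subtype d, ?_⟩
    rw [hd, map_mul]
  · have h1 : a ^ (Fintype.card K / 2) = -1 := by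
      rcases FiniteField.pow_dichotomy hr ha with h | h
      · exact absurd ((FiniteField.isSquare_iff hr ha).2 h) hsa
      · exact h
    have h2 : n ^ (Fintype.card K / 2) = -1 := by
      rcases FiniteField.pow_dichotomy hr hn0 with h | h
      · exact absurd ((FiniteField.isSquare_iff hr hn0).2 h) hnn
      · exact h
    have h3 : IsSquare (a * n) := by
      rw [FiniteField.isSquare_iff hr (mul_ne_zero ha hn0), mul_pow, h1, h2]
      simp
    obtain ⟨d, hd⟩ := h3
    refine ⟨(d : F) / c, ?_⟩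
    have h4 : (a : F) * n = d * d := by
      have := congrArg Subtype.val hd
      simpa using this
    show (a : F) = _
    field_simp
    rw [hc, pow_two (d : F), h4]

section Over

include hF in
/-- The standard `S₄`. -/
theorem exists_S4 (S : QSplit F) (hq : q % 8 = 1 ∨ q % 8 = 7) :
    ∃ X : Subgroup (Pe F), Nat.card X = 24 ∧ Nonempty (X ≃* Equiv.Perm (Fin 4)) ∧ S.a4.T ≤ X := by
  have h2 : IsSquare (2 : F) := by
    rw [FiniteField.isSquare_two_iff, hF]
    omega
  obtain ⟨s, hs⟩ := h2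
  have hs2 : s ^ 2 = 2 := by rw [hs, pow_two]
  exact ⟨(S.s4 s hs2).S, (S.s4 s hs2).card_S, (S.s4 s hs2).S_equiv, (S.s4 s hs2).T_le_S⟩

include hF hodd in
/-- The standard `A₅`. -/
theorem exists_A5 (S : QSplit F) (hq : q % 5 = 1 ∨ q % 5 = 4) :
    ∃ X : Subgroup (Pe F), Nat.card X = 60 ∧ Nonempty (X ≃* alternatingGroup (Fin 5)) ∧ S.a4.T ≤ X := by
  obtain ⟨φ, hφ⟩ := exists_phi hF hodd (five_dvd_of_mod hq)
  exact ⟨(S.a5 φ hφ).I, (S.a5 φ hφ).card_I, (S.a5 φ hφ).I_equiv, (S.a5 φ hφ).T_le_I⟩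

end Over

set_option maxRecDepth 100000 in
theorem a4_orders : ∀ x : alternatingGroup (Fin 4), x ^ 2 = 1 ∨ x ^ 3 = 1 := by decide +kernel

set_option maxRecDepth 100000 in
theorem s4_orders : ∀ x : Equiv.Perm (Fin 4), x ^ 4 = 1 ∨ x ^ 3 = 1 := by decide +kernel

set_option maxRecDepth 100000 in
theorem a5_orders : ∀ x : alternatingGroup (Fin 5), x ^ 2 = 1 ∨ x ^ 3 = 1 ∨ x ^ 5 = 1 := by decide +kernel

theorem T_orders {G : Type*} [Group G] [Finite G] (D : A4Data G) {x : G} (hx : x ∈ D.T) : x ^ 2 = 1 ∨ x ^ 3 = 1 := by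
  obtain ⟨e⟩ := D.T_equiv
  rcases a4_orders (e ⟨x, hx⟩) with h | h
  · exact Or.inl (pow_of_equiv e hx h)
  · exact Or.inr (pow_of_equiv e hx h)

theorem card_large (hF : Fintype.card F = q) (hodd : Odd q) (h5 : 5 ≤ q) : 60 ≤ Nat.card (Pe F) := by
  have hG : 2 * Nat.card (Pe F) = q * (q ^ 2 - 1) := card_psl2_odd hF hodd
  have h3 : 24 ≤ q ^ 2 - 1 := by
    have : 25 ≤ q ^ 2 := by nlinarith
    omega
  have h4 : 5 * 24 ≤ q * (q ^ 2 - 1) := Nat.mul_le_mul h5 h3
  omega

include hF hodd p in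
/-- The case `A₄`. -/
theorem case_A4 (h5 : 5 ≤ q) {M : Subgroup (Pe F)} (hM : IsCoatom M) (e : M ≃* alternatingGroup (Fin 4)) :
    (∃ (F₀ : Type) (_ : Field F₀) (_ : Fintype F₀) (r : ℕ), r.Prime ∧ Odd r ∧ Fintype.card F = Fintype.card F₀ ^ r ∧
        Nonempty (M ≃* Matrix.ProjectiveSpecialLinearGroup (Fin 2) F₀)) ∨
    (q = p ∧ (p % 8 = 3 ∨ p % 8 = 5) ∧ ¬ (p % 10 = 1 ∨ p % 10 = 9)) := by
  classical
  obtain ⟨K₀, S, hK₀, hx, hy, hh⟩ := exists_std hF hodd p
  let f : alternatingGroup (Fin 4) →* Pe F := M.subtype.comp e.symm.toMonoidHom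
  have hf : Function.Injective f := fun x y h => e.symm.injective (Subtype.ext h)
  let D := a4DataAlt4.map f hf
  have hDM : D.T ≤ M := T_le_of D M (e.symm _).2 (e.symm _).2 (e.symm _).2
  have hcardM : Nat.card M = 12 := by rw [Nat.card_congr e.toEquiv, card_alt_four]
  have hTM : D.T = M := Subgroup.eq_of_le_of_card_ge hDM (by rw [hcardM, D.card_T])
  obtain ⟨P, h1, h2, h3⟩ := conj_T S D
  rw [hTM] at h3
  have hc := coatom_conj hM P
  rw [h3] at hc
  have hle : S.a4.T ≤ (pslEmbed K₀.subtype).range := by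
    apply le_psl S K₀ hx hy hh (S.a4.V_le_T S.a4.a_mem) (S.a4.V_le_T S.a4.b_mem)
    intro G hG
    exact tr_mem_small K₀ G (T_orders S.a4 hG)
  by_cases htop : (pslEmbed K₀.subtype).range = ⊤
  · right
    have hq : q = p := by
      rw [← hK₀]
      exact (card_top_psl hF K₀ htop).symm
    have hG : 2 * Nat.card (Pe F) = q * (q ^ 2 - 1) := card_psl2_odd hF hodd
    have hl := card_large hF hodd h5
    have htc : Nat.card S.a4.T = 12 := S.a4.card_T
    have htopc : Nat.card (⊤ : Subgroup (Pe F)) = Nat.card (Pe F) := card_top_eq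
    obtain ⟨k, hk⟩ := hodd
    refine ⟨hq, ?_, ?_⟩
    · by_contra h8
      obtain ⟨X, hX, -, hTX⟩ := exists_S4 hF S (by omega)
      rcases hc.le_iff.1 hTX with h | h
      · rw [h, htopc] at hX
        omega
      · have : Nat.card X = 12 := by rw [h]; exact S.a4.card_T
        omega
    · intro h10
      obtain ⟨X, hX, -, hTX⟩ := exists_A5 hF ⟨k, hk⟩ S (by omega)
      rcases hc.le_iff.1 hTX with h | h
      · rw [h, htopc] at hX
        have h7 : 7 ≤ q := by omega
        have h3 : 48 ≤ q ^ 2 - 1 := by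
          have : 49 ≤ q ^ 2 := by nlinarith
          omega
        have h4 : 7 * 48 ≤ q * (q ^ 2 - 1) := Nat.mul_le_mul h7 h3
        omega
      · have : Nat.card X = 12 := by rw [h]; exact S.a4.card_T
        omega
  · left
    exact psl_branch hF hodd p hM P K₀ (by rw [h3]; exact hle) htop

include hF hodd p in
/-- The case `S₄`. -/
theorem case_S4 (h5 : 5 ≤ q) {M : Subgroup (Pe F)} (hM : IsCoatom M) (e : M ≃* Equiv.Perm (Fin 4)) :
    (∃ (F₀ : Type) (_ : Field F₀) (_ : Fintype F₀), Fintype.card F = Fintype.card F₀ ^ 2 ∧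
        Nonempty (M ≃* Matrix.ProjGenLinGroup (Fin 2) F₀)) ∨
    (∃ (F₀ : Type) (_ : Field F₀) (_ : Fintype F₀) (r : ℕ), r.Prime ∧ Odd r ∧ Fintype.card F = Fintype.card F₀ ^ r ∧
        Nonempty (M ≃* Matrix.ProjectiveSpecialLinearGroup (Fin 2) F₀)) ∨
    (q = p ∧ (p % 8 = 1 ∨ p % 8 = 7)) := by
  classical
  obtain ⟨K₀, S, hK₀, hx, hy, hh⟩ := exists_std hF hodd p
  let f : alternatingGroup (Fin 4) →* Pe F :=
    M.subtype.comp (e.symm.toMonoidHom.comp (alternatingGroup (Fin 4)).subtype)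
  have hf : Function.Injective f := fun x y h => Subtype.ext (e.symm.injective (Subtype.ext h))
  let D := a4DataAlt4.map f hf
  have hDM : D.T ≤ M := T_le_of D M (e.symm _).2 (e.symm _).2 (e.symm _).2
  obtain ⟨P, h1, h2, h3⟩ := conj_T S D
  set M' := conjSub P M with hM'
  have hT : S.a4.T ≤ M' := by
    rw [← h3]
    intro x hx
    exact hDM (mem_conjSub.1 hx)
  let e' : M' ≃* Equiv.Perm (Fin 4) := (conjSubEquiv P M).symm.trans e
  have hcard : Nat.card M' = 24 := by rw [Nat.card_congr e'.toEquiv, card_perm_four]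
  have ho : ∀ x ∈ M', x ^ 4 = 1 ∨ x ^ 3 = 1 := by
    intro x hx
    rcases s4_orders (e' ⟨x, hx⟩) with h | h
    · exact Or.inl (pow_of_equiv e' hx h)
    · exact Or.inr (pow_of_equiv e' hx h)
  have hidx : ∀ y ∈ M', y * y ∈ S.a4.T := by
    intro y hy
    have h4 : (S.a4.T.subgroupOf M').index = 2 := by
      have h5 := Subgroup.card_mul_index (S.a4.T.subgroupOf M')
      rw [Nat.card_congr (Subgroup.subgroupOfEquivOfLe hT).toEquiv, S.a4.card_T, hcard] at h5
      omega
    have h6 := Subgroup.mul_self_mem_of_index_two h4 ⟨y, hy⟩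
    exact Subgroup.mem_subgroupOf.1 h6
  have hnT : ∀ x ∈ M', x ∉ S.a4.T → x ^ 4 = 1 ∧ x ≠ 1 := by
    intro x hxM hxT
    refine ⟨?_, fun h => hxT (by rw [h]; exact S.a4.T.one_mem)⟩
    rcases ho x hxM with h | h
    · exact h
    · exfalso
      apply hxT
      have e1 : x = (x * x) * (x * x) := by
        have : (x * x) * (x * x) = x ^ 3 * x := by simp only [pow_succ, pow_zero, one_mul, mul_assoc]
        rw [this, h, one_mul]
      rw [e1]
      exact hidx _ (M'.mul_mem hxM hxM)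
  -- the square root of two
  obtain ⟨x₀, hx₀, hx₀o⟩ := elem_order e' (Classical.choose order_four_perm)
  rw [Classical.choose_spec order_four_perm] at hx₀o
  obtain ⟨G₀, rfl⟩ := mkP_surj x₀
  have hnotT₀ : mkP G₀ ∉ S.a4.T := by
    intro h
    rcases T_orders S.a4 h with h6 | h6
    · have := orderOf_dvd_of_pow_eq_one h6
      rw [hx₀o] at this
      omega
    · have := orderOf_dvd_of_pow_eq_one h6
      rw [hx₀o] at this
      omega
  obtain ⟨h40, h41⟩ := hnT _ hx₀ hnotT₀
  set s := trS G₀ with hs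
  have hs2 : s ^ 2 = 2 := by
    have h6 := tr_of_four G₀ h40 h41
    rcases mul_eq_zero.1 h6 with h7 | h7
    · exfalso
      have h8 : mkP G₀ ^ 2 = 1 := by
        rw [← mkP_pow, mkP_eq_one_iff]
        right
        rw [pow_two]
        show G₀.1 * G₀.1 = -1
        rw [sq_CH, h7]
        simp
      have := orderOf_dvd_of_pow_eq_one h8
      rw [hx₀o] at this
      omega
    · linear_combination h7
  have hs0 : s ≠ 0 := by
    intro h
    rw [h] at hs2
    simp at hs2
    exact S.two_ne hs2.symm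
  have htr_odd : ∀ G : SL(2, F), mkP G ∈ M' → mkP G ∉ S.a4.T → trS G = 0 ∨ trS G = s ∨ trS G = -s := by
    intro G hG hGT
    obtain ⟨h6, h7⟩ := hnT _ hG hGT
    have h8 := tr_of_four G h6 h7
    rcases mul_eq_zero.1 h8 with h9 | h9
    · exact Or.inl h9
    · right
      have h10 : (trS G) ^ 2 = s ^ 2 := by rw [hs2]; linear_combination h9
      exact sq_eq_sq_iff_eq_or_eq_neg.1 h10
  have hia : S.ia ∈ S.a4.T := S.a4.V_le_T S.a4.a_mem
  have hjb : S.jb ∈ S.a4.T := S.a4.V_le_T S.a4.b_mem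
  by_cases hsK : s ∈ K₀
  · -- `PSL₂(K₀)`
    have hle : M' ≤ (pslEmbed K₀.subtype).range := by
      apply le_psl S K₀ hx hy hh (hT hia) (hT hjb)
      intro G hG
      by_cases hGT : mkP G ∈ S.a4.T
      · exact tr_mem_small K₀ G (T_orders S.a4 hGT)
      · rcases htr_odd G hG hGT with h6 | h6 | h6 <;> rw [h6]
        · exact K₀.zero_mem
        · exact hsK
        · exact K₀.neg_mem hsK
    by_cases htop : (pslEmbed K₀.subtype).range = ⊤
    · right; right
      have hq : q = p := by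
        rw [← hK₀]
        exact (card_top_psl hF K₀ htop).symm
      refine ⟨hq, ?_⟩
      have h2s : IsSquare (2 : F) := ⟨s, by rw [← hs2, pow_two]⟩
      rw [FiniteField.isSquare_two_iff, hF, hq] at h2s
      obtain ⟨k, hk⟩ := hodd
      omega
    · right; left
      exact psl_branch hF hodd p hM P K₀ hle htop
  · -- `PGL₂(K₀)`
    left
    have hsq := hsq_of_nonsquare hF hodd K₀ (c := s) (n := 2) (by rw [hs2]; exact (map_ofNat K₀.subtype 2).symm) hsK
    apply pgl_branch hF hodd p hM P K₀ hsq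
    intro x hxM
    obtain ⟨G, rfl⟩ := mkP_surj x
    by_cases hGT : mkP G ∈ S.a4.T
    · have hT' : ∀ G' : SL(2, F), mkP G' ∈ S.a4.T → 1 * trS G' ∈ K₀ := by
        intro G' hG'
        rw [one_mul]
        exact tr_mem_small K₀ G' (T_orders S.a4 hG')
      apply pgl_mem_of_traces S K₀ hsq hx hy hh 1 one_ne_zero G (hT' G hGT)
      · apply hT'
        rw [mk_mul_I]
        exact S.a4.T.mul_mem hGT hia
      · apply hT'
        rw [mk_mul_J]
        exact S.a4.T.mul_mem hGT hjb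
      · apply hT'
        rw [mk_mul_K]
        exact S.a4.T.mul_mem hGT (S.a4.T.mul_mem hia hjb)
    · have hT' : ∀ G' : SL(2, F), mkP G' ∈ M' → mkP G' ∉ S.a4.T → s⁻¹ * trS G' ∈ K₀ := by
        intro G' hG' hG'T
        rcases htr_odd G' hG' hG'T with h6 | h6 | h6 <;> rw [h6]
        · rw [mul_zero]
          exact K₀.zero_mem
        · rw [inv_mul_cancel₀ hs0]
          exact K₀.one_mem
        · rw [mul_neg, inv_mul_cancel₀ hs0]
          exact K₀.neg_mem K₀.one_mem
      have hnm : ∀ v ∈ S.a4.T, mkP G * v ∉ S.a4.T := by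
        intro v hv hh2
        apply hGT
        have := S.a4.T.mul_mem hh2 (S.a4.T.inv_mem hv)
        simpa using this
      apply pgl_mem_of_traces S K₀ hsq hx hy hh s⁻¹ (inv_ne_zero hs0) G (hT' G hxM hGT)
      · apply hT'
        · rw [mk_mul_I]
          exact M'.mul_mem hxM (hT hia)
        · rw [mk_mul_I]
          exact hnm _ hia
      · apply hT'
        · rw [mk_mul_J]
          exact M'.mul_mem hxM (hT hjb)
        · rw [mk_mul_J]
          exact hnm _ hjb
      · apply hT'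
        · rw [mk_mul_K]
          exact M'.mul_mem hxM (M'.mul_mem (hT hia) (hT hjb))
        · rw [mk_mul_K]
          exact hnm _ (S.a4.T.mul_mem hia hjb)

section Fix

/-- The fixed field of the square of Frobenius. -/
noncomputable def fixF (F : Type*) [Field F] (p : ℕ) [hp : Fact p.Prime] [CharP F p] : Subfield F :=
  (iterateFrobenius F p 2).eqLocusField (RingHom.id F)

theorem mem_fixF {x : F} : x ∈ fixF F p ↔ x ^ (p ^ 2) = x := by
  show iterateFrobenius F p 2 x = x ↔ _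
  rw [iterateFrobenius_def]

theorem card_fixF : Nat.card (fixF F p) ≤ p ^ 2 := by
  classical
  have hp1 : 1 < p ^ 2 := Nat.one_lt_pow (by norm_num) hp.out.one_lt
  set P : Polynomial F := Polynomial.X ^ (p ^ 2) - Polynomial.X with hP
  have hP0 : P ≠ 0 := FiniteField.X_pow_card_sub_X_ne_zero F hp1
  have hdeg : P.natDegree = p ^ 2 := FiniteField.X_pow_card_sub_X_natDegree_eq F hp1
  haveI : Fintype (fixF F p) := Fintype.ofFinite _
  set S : Finset F := Finset.univ.image (fixF F p).subtype with hS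
  have hSc : S.card = Fintype.card (fixF F p) := by
    rw [hS, Finset.card_image_of_injective _ (fixF F p).subtype_injective, Finset.card_univ]
  have hsub : S ⊆ P.roots.toFinset := by
    intro z hz
    rw [hS, Finset.mem_image] at hz
    obtain ⟨y, -, rfl⟩ := hz
    rw [Multiset.mem_toFinset, Polynomial.mem_roots hP0]
    simp only [hP, Polynomial.IsRoot, Polynomial.eval_sub, Polynomial.eval_pow, Polynomial.eval_X]
    rw [sub_eq_zero]
    exact (mem_fixF p).1 y.2
  rw [Nat.card_eq_fintype_card, ← hSc, ← hdeg]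
  exact (Finset.card_le_card hsub).trans ((Multiset.toFinset_card_le _).trans (Polynomial.card_roots' P))

theorem phi_mem_fixF {φ : F} (hφ : φ ^ 2 = φ + 1) : φ ∈ fixF F p := by
  rw [mem_fixF]
  have hfr : ∀ x y : F, (x + y) ^ p = x ^ p + y ^ p := fun x y => add_pow_char x y p
  have h1 : (φ ^ p) ^ 2 = φ ^ p + 1 := by
    rw [← pow_mul, mul_comm, pow_mul, hφ, hfr, one_pow]
  have h2 : (φ ^ p - φ) * (φ ^ p + φ - 1) = 0 := by linear_combination h1 - hφ
  have e : φ ^ (p ^ 2) = (φ ^ p) ^ p := by rw [← pow_mul, pow_two]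
  rw [e]
  rcases mul_eq_zero.1 h2 with h3 | h3
  · rw [sub_eq_zero.1 h3, sub_eq_zero.1 h3]
  · have h4 : φ ^ p = 1 + (-φ) := by linear_combination h3
    have h5 : (-φ) ^ p = -(φ ^ p) := by
      have h6 := hfr φ (-φ)
      rw [add_neg_cancel, zero_pow hp.out.ne_zero] at h6
      linear_combination -h6
    rw [h4, hfr, one_pow, h5, h4]
    ring

end Fix

theorem five_mod_of_dvd {q : ℕ} (hq5 : ¬ 5 ∣ q) (h : 5 ∣ q * (q ^ 2 - 1)) (h1 : 1 ≤ q) : q % 5 = 1 ∨ q % 5 = 4 := by
  have h5 : Nat.Prime 5 := by norm_num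
  have h2 : 5 ∣ q ^ 2 - 1 := (h5.dvd_mul.1 h).resolve_left hq5
  have h3 : 1 ≤ q ^ 2 := Nat.one_le_pow _ _ h1
  have h4 : q ^ 2 % 5 = 1 := by omega
  rw [Nat.pow_mod] at h4
  have h6 : q % 5 < 5 := Nat.mod_lt _ (by norm_num)
  interval_cases h7 : q % 5 <;> simp_all

include hF hodd p in
/-- The case `A₅`. -/
theorem case_A5 (h5 : 5 ≤ q) {M : Subgroup (Pe F)} (hM : IsCoatom M) (e : M ≃* alternatingGroup (Fin 5)) :
    (∃ (F₀ : Type) (_ : Field F₀) (_ : Fintype F₀) (r : ℕ), r.Prime ∧ Odd r ∧ Fintype.card F = Fintype.card F₀ ^ r ∧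
        Nonempty (M ≃* Matrix.ProjectiveSpecialLinearGroup (Fin 2) F₀)) ∨
    ((q % 10 = 1 ∨ q % 10 = 9) ∧ (q = p ∨ (q = p ^ 2 ∧ (p % 10 = 3 ∨ p % 10 = 7)))) := by
  classical
  obtain ⟨K₀, S, hK₀, hx, hy, hh⟩ := exists_std hF hodd p
  let f : alternatingGroup (Fin 5) →* Pe F := M.subtype.comp e.symm.toMonoidHom
  have hf : Function.Injective f := fun x y h => e.symm.injective (Subtype.ext h)
  let D := a4DataAlt5.map f hf
  have hDM : D.T ≤ M := T_le_of D M (e.symm _).2 (e.symm _).2 (e.symm _).2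
  obtain ⟨P, h1, h2, h3⟩ := conj_T S D
  set M' := conjSub P M with hM'
  have hia : S.ia ∈ M' := by
    rw [hM', mem_conjSub, h1]
    exact hDM (D.V_le_T D.a_mem)
  have hjb : S.jb ∈ M' := by
    rw [hM', mem_conjSub, h2]
    exact hDM (D.V_le_T D.b_mem)
  let e' : M' ≃* alternatingGroup (Fin 5) := (conjSubEquiv P M).symm.trans e
  have hcardM : Nat.card M = 60 := by rw [Nat.card_congr e.toEquiv, card_alt_five]
  have ho : ∀ x ∈ M', x ^ 2 = 1 ∨ x ^ 3 = 1 ∨ x ^ 5 = 1 := by
    intro x hx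
    rcases a5_orders (e' ⟨x, hx⟩) with h | h | h
    · exact Or.inl (pow_of_equiv e' hx h)
    · exact Or.inr (Or.inl (pow_of_equiv e' hx h))
    · exact Or.inr (Or.inr (pow_of_equiv e' hx h))
  obtain ⟨x₀, hx₀, hx₀o⟩ := elem_order e' (Classical.choose order_five_alt)
  rw [Classical.choose_spec order_five_alt] at hx₀o
  obtain ⟨G₀, rfl⟩ := mkP_surj x₀
  have h₅ : mkP G₀ ^ 5 = 1 := by
    rw [← hx₀o]
    exact pow_orderOf_eq_one _
  have h₁ : mkP G₀ ≠ 1 := by
    intro h
    rw [h, orderOf_one] at hx₀o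
    omega
  obtain ⟨φ, hφ⟩ : ∃ φ : F, φ ^ 2 = φ + 1 := by
    rcases phi_of_five G₀ h₅ h₁ with h | h
    · exact ⟨_, h⟩
    · exact ⟨_, h⟩
  have htrK : ∀ K : Subfield F, φ ∈ K → ∀ G : SL(2, F), mkP G ∈ M' → trS G ∈ K := by
    intro K hK G hG
    rcases ho _ hG with h | h | h
    · exact tr_mem_small K G (Or.inl h)
    · exact tr_mem_small K G (Or.inr h)
    · exact tr_mem_five K hK hφ G h
  have hG : 2 * Nat.card (Pe F) = q * (q ^ 2 - 1) := card_psl2_odd hF hodd
  have hpodd : Odd p := by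
    rw [← hK₀]
    exact odd_card_subfield hF hodd K₀
  have hdvd : 5 ∣ q * (q ^ 2 - 1) := by
    have h60 : 60 ∣ Nat.card (Pe F) := by
      rw [← hcardM]
      exact Subgroup.card_subgroup_dvd_card M
    rw [← hG]
    exact Dvd.dvd.mul_left (dvd_trans (by norm_num) h60) 2
  by_cases hφK : φ ∈ K₀
  · have hle := le_psl S K₀ hx hy hh hia hjb (htrK K₀ hφK)
    by_cases htop : (pslEmbed K₀.subtype).range = ⊤
    · right
      have hq : q = p := by
        rw [← hK₀]
        exact (card_top_psl hF K₀ htop).symm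
      refine ⟨?_, Or.inl hq⟩
      have hq5 : q ≠ 5 := by
        intro h
        have hGc : 2 * Nat.card (Pe F) = 120 := by rw [hG, h]; norm_num
        have hGd : Nat.card (Pe F) = 60 := by omega
        apply hM.1
        apply Subgroup.eq_top_of_card_eq
        rw [hcardM]
        exact hGd.symm
      have hn5 : ¬ 5 ∣ q := by
        intro h
        rw [hq] at h hq5
        exact hq5 ((Nat.prime_dvd_prime_iff_eq (by norm_num) hp.out).1 h).symm
      have hm := five_mod_of_dvd hn5 hdvd (by omega)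
      obtain ⟨k, hk⟩ := hodd
      omega
    · left
      exact psl_branch hF hodd p hM P K₀ hle htop
  · have hφK1 := phi_mem_fixF (p := p) hφ
    have hKK : ∀ z ∈ K₀, z ∈ fixF F p := by
      intro z hz
      haveI : Fintype K₀ := Fintype.ofFinite _
      rw [mem_fixF]
      have h6 : (⟨z, hz⟩ : K₀) ^ (Fintype.card K₀) = ⟨z, hz⟩ := FiniteField.pow_card _
      rw [← Nat.card_eq_fintype_card, hK₀] at h6
      have h7 : z ^ p = z := congrArg Subtype.val h6
      rw [pow_two, pow_mul, h7, h7]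
    have hle := le_psl S (fixF F p) (hKK _ hx) (hKK _ hy) (hKK _ hh) hia hjb (htrK _ hφK1)
    by_cases htop : (pslEmbed (fixF F p).subtype).range = ⊤
    · right
      have hc1 : Nat.card (fixF F p) = q := card_top_psl hF _ htop
      have hqle : q ≤ p ^ 2 := by
        rw [← hc1]
        exact card_fixF p
      obtain ⟨n, hnp, hn⟩ := FiniteField.card F p
      rw [hF] at hn
      have hp2 : 2 ≤ p := hp.out.two_le
      have hn2 : (n : ℕ) ≤ 2 := by
        rw [hn] at hqle
        exact (Nat.pow_le_pow_iff_right (by omega)).1 hqle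
      have hn0 : 0 < (n : ℕ) := n.pos
      haveI : Fintype K₀ := Fintype.ofFinite _
      have hcK₀ : Fintype.card K₀ = p := by rw [← Nat.card_eq_fintype_card, hK₀]
      have hq2 : q = p ^ 2 := by
        have hn12 : (n : ℕ) = 1 ∨ (n : ℕ) = 2 := by omega
        rcases hn12 with h | h
        · exfalso
          rw [h, pow_one] at hn
          apply hφK
          have h6 : φ ^ Fintype.card K₀ = φ := by
            rw [hcK₀, ← hn, ← hF]
            exact FiniteField.pow_card φ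
          obtain ⟨y, hy⟩ := mem_range_of_pow_card K₀.subtype h6
          rw [← hy]
          exact y.2
        · rw [hn, h]
      have hp5 : ¬ 5 ∣ p * (p ^ 2 - 1) := by
        intro h
        obtain ⟨φ₀, hφ₀⟩ := exists_phi hcK₀ hpodd h
        apply hφK
        have h6 : (φ - (φ₀ : F)) * (φ + φ₀ - 1) = 0 := by
          have h7 : (φ₀ : F) ^ 2 = φ₀ + 1 := by
            have := congrArg Subtype.val hφ₀
            simpa using this
          linear_combination hφ - h7
        rcases mul_eq_zero.1 h6 with h7 | h7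
        · rw [sub_eq_zero.1 h7]
          exact φ₀.2
        · have h8 : φ = 1 - φ₀ := by linear_combination h7
          rw [h8]
          exact K₀.sub_mem K₀.one_mem φ₀.2
      have hp10 : p % 10 = 3 ∨ p % 10 = 7 := by
        have h6 : p % 5 ≠ 0 := fun h => hp5 (Dvd.dvd.mul_right (Nat.dvd_of_mod_eq_zero h) _)
        have h7 : p % 5 ≠ 1 := fun h => hp5 (five_dvd_of_mod (Or.inl h))
        have h8 : p % 5 ≠ 4 := fun h => hp5 (five_dvd_of_mod (Or.inr h))
        obtain ⟨k, hk⟩ := hpodd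
        omega
      refine ⟨?_, Or.inr ⟨hq2, hp10⟩⟩
      right
      rw [hq2, Nat.pow_mod]
      rcases hp10 with h | h <;> rw [h]
    · left
      exact psl_branch hF hodd p hM P _ hle htop

section Small

theorem sylow_conj {G : Type*} [Group G] [Finite G] {l k : ℕ} [hl : Fact l.Prime] {A B : Subgroup G}
    (hA : Nat.card A = l ^ k) (hB : Nat.card B = l ^ k) (hk : ¬ l ^ (k + 1) ∣ Nat.card G) :
    ∃ g : G, ∀ a ∈ A, g * a * g⁻¹ ∈ B := by
  have key : ∀ C : Subgroup G, Nat.card C = l ^ k → ∃ P : Sylow l G, (P : Subgroup G) = C := by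
    intro C hC
    have hpC : IsPGroup l C := IsPGroup.of_card hC
    obtain ⟨P, hP⟩ := hpC.exists_le_sylow
    refine ⟨P, ?_⟩
    symm
    apply Subgroup.eq_of_le_of_card_ge hP
    rw [hC, P.card_eq_multiplicity]
    apply Nat.pow_le_pow_right hl.out.pos
    by_contra hlt
    apply hk
    have h1 : l ^ ((Nat.card G).factorization l) ∣ Nat.card G := Nat.ordProj_dvd _ _
    exact dvd_trans (pow_dvd_pow l (by omega)) h1
  obtain ⟨P, rfl⟩ := key A hA
  obtain ⟨Q, rfl⟩ := key B hB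
  obtain ⟨g, hg⟩ := MulAction.exists_smul_eq G P Q
  refine ⟨g, fun a ha => ?_⟩
  rw [← hg, Sylow.coe_subgroup_smul]
  exact Subgroup.smul_mem_pointwise_smul a (MulAut.conj g) _ ha

theorem no_over {G : Type*} [Group G] [Finite G] {M : Subgroup G} (hM : IsCoatom M) (X : Subgroup G) (g : G)
    (h : ∀ x ∈ M, g⁻¹ * x * g ∈ X) (h1 : Nat.card X ≠ Nat.card M) (h2 : Nat.card X ≠ Nat.card G) : False := by
  let X' := X.map (MulAut.conj g).toMonoidHom
  have hle : M ≤ X' := fun x hx => ⟨g⁻¹ * x * g, h x hx, by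
    show g * (g⁻¹ * x * g) * g⁻¹ = x
    group⟩
  have hc : Nat.card X' = Nat.card X := Subgroup.card_map_of_injective (MulAut.conj g).injective
  rcases hM.le_iff.1 hle with h3 | h3
  · rw [h3, card_top_eq] at hc
    exact h2 hc.symm
  · rw [h3] at hc
    exact h1 hc.symm

theorem no_small_four {G : Type*} [Group G] [Finite G] {M : Subgroup G} (hM : IsCoatom M) (hcM : Nat.card M = 8)
    (X : Subgroup G) (hX : Nat.card X = 24) (hne : ¬ 16 ∣ Nat.card G) (hG : Nat.card G ≠ 24) : False := by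
  haveI : Fact (Nat.Prime 2) := ⟨by norm_num⟩
  obtain ⟨K, hK⟩ := Sylow.exists_subgroup_card_pow_prime (G := X) 2 (n := 3) (by rw [hX]; norm_num)
  let Q : Subgroup G := K.map X.subtype
  have hQ : Nat.card Q = 2 ^ 3 := by
    rw [← hK]
    exact Subgroup.card_map_of_injective X.subtype_injective
  obtain ⟨g, hg⟩ := sylow_conj (l := 2) (k := 3) (A := M) (B := Q) (by rw [hcM]; norm_num) hQ (by norm_num; exact hne)
  apply no_over hM X g⁻¹ _ (by rw [hX, hcM]; norm_num) (by rw [hX]; exact hG.symm)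
  intro x hx
  obtain ⟨y, -, hy⟩ := hg x hx
  rw [inv_inv, ← hy]
  exact y.2

theorem pair_of_equiv {G X : Type*} [Group G] [Group X] {H : Subgroup G} (e : H ≃* X) {c : ℕ}
    (h : ∃ x y : X, x ^ c = 1 ∧ x ≠ 1 ∧ y ^ 2 = 1 ∧ y ≠ 1 ∧ y * x * y⁻¹ = x⁻¹) :
    ∃ a ∈ H, ∃ b ∈ H, a ^ c = 1 ∧ a ≠ 1 ∧ b ^ 2 = 1 ∧ b ≠ 1 ∧ b * a * b⁻¹ = a⁻¹ := by
  obtain ⟨x, y, h1, h2, h3, h4, h5⟩ := h
  refine ⟨(e.symm x : G), (e.symm x).2, (e.symm y : G), (e.symm y).2, ?_, ?_, ?_, ?_, ?_⟩
  · have := congrArg (fun z => (e.symm z : G)) h1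
    simpa using this
  · intro h
    apply h2
    apply e.symm.injective
    apply Subtype.ext
    simpa using h
  · have := congrArg (fun z => (e.symm z : G)) h3
    simpa using this
  · intro h
    apply h4
    apply e.symm.injective
    apply Subtype.ext
    simpa using h
  · have := congrArg (fun z => (e.symm z : G)) h5
    simpa using this

set_option maxRecDepth 100000 in
theorem s4_pair : ∃ x y : Equiv.Perm (Fin 4), x ^ 3 = 1 ∧ x ≠ 1 ∧ y ^ 2 = 1 ∧ y ≠ 1 ∧ y * x * y⁻¹ = x⁻¹ := by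
  decide +kernel

set_option maxRecDepth 100000 in
theorem a5_pair : ∃ x y : alternatingGroup (Fin 5), x ^ 5 = 1 ∧ x ≠ 1 ∧ y ^ 2 = 1 ∧ y ≠ 1 ∧ y * x * y⁻¹ = x⁻¹ := by
  decide +kernel

set_option maxRecDepth 100000 in
theorem d2_pair : ∃ a b : DihedralGroup 2, a ^ 2 = 1 ∧ b ^ 2 = 1 ∧ a ≠ 1 ∧ b ≠ 1 ∧ a ≠ b ∧ a * b = b * a := by
  decide +kernel

include hF in
theorem no_small_prime (hq4 : 4 ≤ q) {M : Subgroup (Pe F)} (hM : IsCoatom M) {c : ℕ} [hcp : Fact c.Prime] (hc2 : c ≠ 2)
    (hcM : Nat.card M = 2 * c) {r : Pe F} (hrM : r ∈ M) (hr : orderOf r = c)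
    (hMr : ∀ x ∈ M, x * r * x⁻¹ ∈ Subgroup.zpowers r) (hsq : ¬ c ^ 2 ∣ Nat.card (Pe F)) (X : Subgroup (Pe F))
    (hp : ∃ a ∈ X, ∃ b ∈ X, a ^ c = 1 ∧ a ≠ 1 ∧ b ^ 2 = 1 ∧ b ≠ 1 ∧ b * a * b⁻¹ = a⁻¹)
    (h1 : Nat.card X ≠ 2 * c) (h2 : Nat.card X ≠ Nat.card (Pe F)) : False := by
  obtain ⟨x, hxX, y, hyX, hx, hx1, hy, hy1, hyx⟩ := hp
  have hxo : orderOf x = c := orderOf_eq_prime hx hx1
  obtain ⟨g, hg⟩ := sylow_conj (l := c) (k := 1) (A := Subgroup.zpowers x) (B := Subgroup.zpowers r)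
    (by rw [Nat.card_zpowers, hxo, pow_one]) (by rw [Nat.card_zpowers, hr, pow_one]) (by simpa using hsq)
  set x' := g * x * g⁻¹ with hx'
  set y' := g * y * g⁻¹ with hy'
  have hx'r : x' ∈ Subgroup.zpowers r := hg x (Subgroup.mem_zpowers x)
  have hx'o : orderOf x' = c := by
    rw [hx', ← MulAut.conj_apply, MulEquiv.orderOf_eq, hxo]
  have hzz : Subgroup.zpowers x' = Subgroup.zpowers r := by
    apply Subgroup.eq_of_le_of_card_ge ((Subgroup.zpowers_le).2 hx'r)
    rw [Nat.card_zpowers, Nat.card_zpowers, hr, hx'o]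
  have hy'x' : y' * x' * y'⁻¹ = x'⁻¹ := by
    have e1 : y' * x' * y'⁻¹ = g * (y * x * y⁻¹) * g⁻¹ := by
      rw [hy', hx']
      group
    rw [e1, hyx, hx']
    group
  have hr1 : r ≠ 1 := by
    intro h
    rw [h, orderOf_one] at hr
    exact hcp.out.one_lt.ne hr
  have hy'M : y' ∈ M := by
    apply norm_le_of_coatom hF hq4 hM hr1 hMr
    have hrx : r ∈ Subgroup.zpowers x' := by
      rw [hzz]
      exact Subgroup.mem_zpowers r
    obtain ⟨k, hk⟩ := Subgroup.mem_zpowers_iff.1 hrx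
    have e2 : y' * r * y'⁻¹ = (x'⁻¹) ^ k := by rw [← hk, ← conj_zpow, hy'x']
    rw [e2, ← hzz]
    exact Subgroup.zpow_mem _ (Subgroup.inv_mem _ (Subgroup.mem_zpowers x')) k
  have hx'M : x' ∈ M := (Subgroup.zpowers_le.2 hrM) hx'r
  let X' : Subgroup (Pe F) := X.map (MulAut.conj g).toMonoidHom
  have hx'X : x' ∈ X' := ⟨x, hxX, rfl⟩
  have hy'X : y' ∈ X' := ⟨y, hyX, rfl⟩
  let L : Subgroup (Pe F) := M ⊓ X'
  have hcL : c ∣ Nat.card L := by
    have := orderOf_dvd_natCard (⟨x', hx'M, hx'X⟩ : L)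
    have e2 : orderOf (⟨x', hx'M, hx'X⟩ : L) = orderOf x' := (Subgroup.orderOf_coe (⟨x', hx'M, hx'X⟩ : L)).symm
    rwa [e2, hx'o] at this
  have hy'o : orderOf y' = 2 := by
    have hyo : orderOf y = 2 := by
      haveI : Fact (Nat.Prime 2) := ⟨by norm_num⟩
      exact orderOf_eq_prime hy hy1
    rw [hy', ← MulAut.conj_apply, MulEquiv.orderOf_eq, hyo]
  have h2L : 2 ∣ Nat.card L := by
    have := orderOf_dvd_natCard (⟨y', hy'M, hy'X⟩ : L)
    have e2 : orderOf (⟨y', hy'M, hy'X⟩ : L) = orderOf y' := (Subgroup.orderOf_coe (⟨y', hy'M, hy'X⟩ : L)).symm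
    rwa [e2, hy'o] at this
  have hcop : Nat.Coprime 2 c := (Nat.coprime_primes (by norm_num) hcp.out).2 (Ne.symm hc2)
  have h2c : 2 * c ∣ Nat.card L := Nat.Coprime.mul_dvd_of_dvd_of_dvd hcop h2L hcL
  have hLM : L = M := by
    apply Subgroup.eq_of_le_of_card_ge inf_le_left
    rw [hcM]
    exact Nat.le_of_dvd Nat.card_pos h2c
  have hle : M ≤ X' := by
    rw [← hLM]
    exact inf_le_right
  apply no_over hM X g
  · intro z hz
    obtain ⟨w, hw, hw2⟩ := hle hz
    have e : z = g * w * g⁻¹ := hw2.symm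
    rw [e]
    have : g⁻¹ * (g * w * g⁻¹) * g = w := by group
    rw [this]
    exact hw
  · rw [hcM]
    exact h1
  · exact h2

theorem dih_norm {G : Type*} [Group G] {M : Subgroup G} {c : ℕ} (hc3 : 3 ≤ c) (ρ : M) (hρ : orderOf ρ = c)
    (e : M ≃* DihedralGroup c) : ∀ x ∈ M, x * (ρ : G) * x⁻¹ ∈ Subgroup.zpowers (ρ : G) := by
  have heo : orderOf (e ρ) = c := by rw [MulEquiv.orderOf_eq, hρ]
  obtain ⟨i, hi⟩ : ∃ i, e ρ = DihedralGroup.r i := by
    rcases h : e ρ with i | i
    · exact ⟨i, rfl⟩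
    · rw [h, DihedralGroup.orderOf_sr] at heo
      omega
  intro x hx
  rcases dih_conj i (e ⟨x, hx⟩) with h | h
  · have h1 : (⟨x, hx⟩ : M) * ρ * (⟨x, hx⟩ : M)⁻¹ = ρ := by
      apply e.injective
      simp only [map_mul, map_inv]
      rw [hi, h]
    have h2 : x * (ρ : G) * x⁻¹ = ρ := congrArg Subtype.val h1
    rw [h2]
    exact Subgroup.mem_zpowers _
  · have h1 : (⟨x, hx⟩ : M) * ρ * (⟨x, hx⟩ : M)⁻¹ = ρ⁻¹ := by
      apply e.injective
      simp only [map_mul, map_inv]
      rw [hi, h]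
    have h2 : x * (ρ : G) * x⁻¹ = (ρ : G)⁻¹ := congrArg Subtype.val h1
    rw [h2]
    exact Subgroup.inv_mem _ (Subgroup.mem_zpowers _)

end Small

include hF hodd p in
/-- The dihedral case. -/
theorem case_dih (h5 : 5 ≤ q) {M : Subgroup (Pe F)} (hM : IsCoatom M) {c : ℕ} (ρ : M) (hc : 2 ≤ c) (hρ : orderOf ρ = c)
    (hρp : ρ ^ p ≠ 1) (e : M ≃* DihedralGroup c) :
    (13 ≤ q ∧ ∃ k : ℕ, 2 * k = q - 1 ∧ Nonempty (M ≃* DihedralGroup k)) ∨
    (q ≠ 7 ∧ q ≠ 9 ∧ ∃ k : ℕ, 2 * k = q + 1 ∧ Nonempty (M ≃* DihedralGroup k)) := by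
  classical
  have hodd2 : Fintype.card F % 2 = 1 := by
    rw [hF]
    exact Nat.odd_iff.1 hodd
  obtain ⟨S⟩ := QSplit.nonempty_of_odd hodd2
  have hG : 2 * Nat.card (Pe F) = q * (q ^ 2 - 1) := card_psl2_odd hF hodd
  have hcM : Nat.card M = 2 * c := by
    haveI : NeZero c := ⟨by omega⟩
    rw [Nat.card_congr e.toEquiv, DihedralGroup.nat_card]
  rcases (by omega : c = 2 ∨ 3 ≤ c) with rfl | hc3
  · exfalso
    obtain ⟨a, b, ha, hb, ha1, hb1, hab, hcm⟩ := d2_pair
    have hinj : ∀ z w : DihedralGroup 2, ((e.symm z : M) : Pe F) = ((e.symm w : M) : Pe F) → z = w :=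
      fun z w h => e.symm.injective (Subtype.ext h)
    obtain ⟨P, h1, h2⟩ := frame S (a := ((e.symm a : M) : Pe F)) (b := ((e.symm b : M) : Pe F))
      (by rw [← Subgroup.coe_pow, ← map_pow, ha, map_one]; rfl)
      (by rw [← Subgroup.coe_pow, ← map_pow, hb, map_one]; rfl)
      (fun h => ha1 (hinj a 1 (by rw [h, map_one]; rfl)))
      (fun h => hb1 (hinj b 1 (by rw [h, map_one]; rfl)))
      (fun h => hab (hinj a b h))
      (by rw [← Subgroup.coe_mul, ← Subgroup.coe_mul, ← map_mul, ← map_mul, hcm])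
    have hia : S.ia ∈ conjSub P M := by
      rw [mem_conjSub, h1]
      exact (e.symm a).2
    have hjb : S.jb ∈ conjSub P M := by
      rw [mem_conjSub, h2]
      exact (e.symm b).2
    have hVle : S.a4.V ≤ conjSub P M := by
      intro x hx
      rcases S.a4.mem_V.1 hx with rfl | rfl | rfl | rfl
      · exact Subgroup.one_mem _
      · exact hia
      · exact hjb
      · exact Subgroup.mul_mem _ hia hjb
    have hcM' : Nat.card (conjSub P M) = 4 := by
      rw [← Nat.card_congr (conjSubEquiv P M).toEquiv, hcM]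
    have hVeq : S.a4.V = conjSub P M := by
      apply Subgroup.eq_of_le_of_card_ge hVle
      rw [hcM', S.a4.card_V]
    have hc' := coatom_conj hM P
    rw [← hVeq] at hc'
    have hl := card_large hF hodd h5
    have htopc : Nat.card (⊤ : Subgroup (Pe F)) = Nat.card (Pe F) := card_top_eq
    have htc : Nat.card S.a4.T = 12 := S.a4.card_T
    have hvc : Nat.card S.a4.V = 4 := S.a4.card_V
    rcases hc'.le_iff.1 S.a4.V_le_T with h | h
    · rw [h, htopc] at htc
      omega
    · rw [h] at htc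
      omega
  · have hq4 : 4 ≤ q := by omega
    obtain ⟨N, hN, hN3, hcN⟩ := dih_main hF p hq4 hM hc3 ρ hρ hρp e
    rw [gcd_two_odd (Nat.odd_iff.1 hodd)] at hcN
    have hN2 : 2 * c = N := by
      obtain ⟨k, hk⟩ := hodd
      omega
    have hMr := dih_norm hc3 ρ hρ e
    have hrM : (ρ : Pe F) ∈ M := ρ.2
    have hro : orderOf (ρ : Pe F) = c := by rw [Subgroup.orderOf_coe, hρ]
    have no3 : q = 7 → c = 3 → False := by
      intro hq7 hc3'
      subst hc3'
      haveI : Fact (Nat.Prime 3) := ⟨by norm_num⟩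
      obtain ⟨X, hX, ⟨eX⟩, -⟩ := exists_S4 hF S (by omega)
      have hGc : Nat.card (Pe F) = 168 := by
        have : 2 * Nat.card (Pe F) = 336 := by rw [hG, hq7]; norm_num
        omega
      apply no_small_prime hF hq4 hM (c := 3) (by norm_num) hcM hrM hro hMr (by rw [hGc]; norm_num) X
        (pair_of_equiv eX s4_pair)
      · rw [hX]; norm_num
      · rw [hX, hGc]; norm_num
    have no5 : (q = 9 ∨ q = 11) → c = 5 → False := by
      intro hq hc5
      subst hc5
      haveI : Fact (Nat.Prime 5) := ⟨by norm_num⟩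
      obtain ⟨X, hX, ⟨eX⟩, -⟩ := exists_A5 hF hodd S (by omega)
      have hGc : Nat.card (Pe F) = 360 ∨ Nat.card (Pe F) = 660 := by
        rcases hq with hq | hq
        · left
          have : 2 * Nat.card (Pe F) = 720 := by rw [hG, hq]; norm_num
          omega
        · right
          have : 2 * Nat.card (Pe F) = 1320 := by rw [hG, hq]; norm_num
          omega
      apply no_small_prime hF hq4 hM (c := 5) (by norm_num) hcM hrM hro hMr (by rcases hGc with h | h <;> rw [h] <;> norm_num) X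
        (pair_of_equiv eX a5_pair)
      · rw [hX]; norm_num
      · rw [hX]
        rcases hGc with h | h <;> rw [h] <;> norm_num
    have no4 : (q = 7 ∨ q = 9) → c = 4 → False := by
      intro hq hc4
      subst hc4
      obtain ⟨X, hX, -, -⟩ := exists_S4 hF S (by omega)
      have hGc : Nat.card (Pe F) = 168 ∨ Nat.card (Pe F) = 360 := by
        rcases hq with hq | hq
        · left
          have : 2 * Nat.card (Pe F) = 336 := by rw [hG, hq]; norm_num
          omega
        · right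
          have : 2 * Nat.card (Pe F) = 720 := by rw [hG, hq]; norm_num
          omega
      apply no_small_four hM (by rw [hcM]) X hX
      · rcases hGc with h | h <;> rw [h] <;> norm_num
      · rcases hGc with h | h <;> rw [h] <;> norm_num
    obtain ⟨k, hk⟩ := hodd
    rcases hN with h | h
    · left
      refine ⟨?_, c, by omega, ⟨e⟩⟩
      by_contra hlt
      have hq' : q = 7 ∨ q = 9 ∨ q = 11 := by omega
      rcases hq' with h7 | h7 | h7
      · exact no3 h7 (by omega)
      · exact no4 (Or.inr h7) (by omega)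
      · exact no5 (Or.inr h7) (by omega)
    · right
      refine ⟨fun h7 => no4 (Or.inl h7) (by omega), fun h9 => no5 (Or.inl h9) (by omega), c, by omega, ⟨e⟩⟩

/-- Maximal subgroups of `PSL₂(q)`, `q` odd. -/
theorem main_odd {F : Type*} [Field F] [Fintype F] (p : ℕ)
    [Fact p.Prime] [CharP F p] (hodd : Odd (Fintype.card F)) (h5 : 5 ≤ Fintype.card F)
    (M : Subgroup (Matrix.ProjectiveSpecialLinearGroup (Fin 2) F)) (hM : IsCoatom M) :
    2 * Nat.card M = Fintype.card F * (Fintype.card F - 1) ∨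
    (13 ≤ Fintype.card F ∧ (∃ k : ℕ, 2 * k = Fintype.card F - 1 ∧ Nonempty (M ≃* DihedralGroup k))) ∨
    (Fintype.card F ≠ 7 ∧ Fintype.card F ≠ 9 ∧ (∃ k : ℕ, 2 * k = Fintype.card F + 1 ∧ Nonempty (M ≃* DihedralGroup k))) ∨
    (∃ (F₀ : Type) (_ : Field F₀) (_ : Fintype F₀), Fintype.card F = Fintype.card F₀ ^ 2 ∧
        Nonempty (M ≃* Matrix.ProjGenLinGroup (Fin 2) F₀)) ∨
    (∃ (F₀ : Type) (_ : Field F₀) (_ : Fintype F₀) (r : ℕ), r.Prime ∧ Odd r ∧ Fintype.card F = Fintype.card F₀ ^ r ∧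
        Nonempty (M ≃* Matrix.ProjectiveSpecialLinearGroup (Fin 2) F₀)) ∨
    ((Fintype.card F % 10 = 1 ∨ Fintype.card F % 10 = 9) ∧
        (Fintype.card F = p ∨ (Fintype.card F = p ^ 2 ∧ (p % 10 = 3 ∨ p % 10 = 7))) ∧
        Nonempty (M ≃* alternatingGroup (Fin 5))) ∨
    (Fintype.card F = p ∧ (p % 8 = 3 ∨ p % 8 = 5) ∧ ¬ (p % 10 = 1 ∨ p % 10 = 9) ∧
        Nonempty (M ≃* alternatingGroup (Fin 4))) ∨
    (Fintype.card F = p ∧ (p % 8 = 1 ∨ p % 8 = 7) ∧ Nonempty (M ≃* Equiv.Perm (Fin 4))) := by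
  classical
  set q := Fintype.card F with hq
  have hF : Fintype.card F = q := rfl
  rcases dickson_master p M with ⟨h1, h2⟩ | ⟨⟨c, ρ, hc, hρ, hρp, ⟨h3⟩⟩, -⟩ | ⟨⟨e⟩, -⟩ | ⟨⟨e⟩, -⟩ | ⟨⟨e⟩, -⟩ | ⟨P, -, hP⟩ | ⟨K₀, P, hK⟩
  · exact (cyc_main hF p (by omega) hM h1 h2).elim
  · rcases case_dih hF hodd p h5 hM ρ hc hρ hρp h3 with h | h
    · exact Or.inr (Or.inl h)
    · exact Or.inr (Or.inr (Or.inl h))
  · rcases case_A4 hF hodd p h5 hM e with h | ⟨h1, h2, h3⟩
    · exact Or.inr (Or.inr (Or.inr (Or.inr (Or.inl h))))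
    · exact Or.inr (Or.inr (Or.inr (Or.inr (Or.inr (Or.inr (Or.inl ⟨h1, h2, h3, ⟨e⟩⟩))))))
  · rcases case_S4 hF hodd p h5 hM e with h | h | ⟨h1, h2⟩
    · exact Or.inr (Or.inr (Or.inr (Or.inl h)))
    · exact Or.inr (Or.inr (Or.inr (Or.inr (Or.inl h))))
    · exact Or.inr (Or.inr (Or.inr (Or.inr (Or.inr (Or.inr (Or.inr ⟨h1, h2, ⟨e⟩⟩))))))
  · rcases case_A5 hF hodd p h5 hM e with h | ⟨h1, h2⟩
    · exact Or.inr (Or.inr (Or.inr (Or.inr (Or.inl h))))
    · exact Or.inr (Or.inr (Or.inr (Or.inr (Or.inr (Or.inl ⟨h1, h2, ⟨e⟩⟩)))))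
  · left
    have h1 := borel_main hF hM P hP
    have h2 : 2 * Nat.card (Pe F) = q * (q ^ 2 - 1) := card_psl2_odd hF hodd
    have h3 : q ^ 2 - 1 = (q - 1) * (q + 1) := sq_sub_one_nat q (by omega)
    rw [← h1, h3] at h2
    have h4 : 2 * (Nat.card M * (q + 1)) = q * ((q - 1) * (q + 1)) := h2
    have h5 : (2 * Nat.card M) * (q + 1) = (q * (q - 1)) * (q + 1) := by
      rw [mul_assoc, h4, mul_assoc]
    exact Nat.eq_of_mul_eq_mul_right (by omega) h5
  · rcases hK with h | ⟨hsq, h⟩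
    · have hc := coatom_conj hM P
      rw [h] at hc
      exact Or.inr (Or.inr (Or.inr (Or.inr (Or.inl (psl_branch hF hodd p hM P K₀ (le_of_eq h) hc.1)))))
    · exact Or.inr (Or.inr (Or.inr (Or.inl (pgl_branch hF hodd p hM P K₀ hsq (le_of_eq h)))))

end Cfsg.Agent.Lib.LocalEven.PslMax4
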