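/-
Maximal subgroups of `PGL₂(q)`: basic infrastructure (helper23).
-/
import Mathlib
import Cfsg.Agent.Lib.LocalEven.PslMax4

set_option autoImplicit false
set_option linter.unusedSimpArgs false
set_option linter.unusedVariables false
set_option linter.unusedSectionVars false
set_option linter.style.haveILetI false

namespace Cfsg.Agent.Lib.LocalEven.PglMax

open Cfsg.Agent.Lib.Classical Cfsg.Agent.Lib.LocalEven.PslMax Cfsg.Agent.Lib.LocalEven.PslMax2
  Cfsg.Agent.Lib.LocalEven.PslMax3 Cfsg.Agent.Lib.LocalEven.PslMax4 Matrix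
open scoped MatrixGroups

variable {F : Type*} [Field F]

/-- `PGL₂`. -/
abbrev Pg (E : Type*) [Field E] := Matrix.ProjGenLinGroup (Fin 2) E

/-- The image of `SL₂`. -/
noncomputable abbrev LL (E : Type*) [Field E] : Subgroup (Pg E) :=
  (Matrix.ProjGenLinGroup.mk.comp Matrix.SpecialLinearGroup.toGL).range

/-- The projection. -/
noncomputable abbrev mkG : GL (Fin 2) F →* Pg F := Matrix.ProjGenLinGroup.mk

theorem scalar_coe (u : Fˣ) : ((Matrix.GeneralLinearGroup.scalar (Fin 2) u : GL (Fin 2) F) : Matrix (Fin 2) (Fin 2) F) = (u : F) • 1 := by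
  ext i j
  simp [Matrix.GeneralLinearGroup.scalar, Matrix.scalar_apply, Matrix.diagonal_apply, Matrix.one_apply]

theorem mkG_eq_iff (g h : GL (Fin 2) F) : mkG g = mkG h ↔ ∃ u : F, u ≠ 0 ∧ g.1 = u • h.1 := by
  constructor
  · intro H
    have h1 : mkG (g * h⁻¹) = 1 := by rw [map_mul, map_inv, H, mul_inv_cancel]
    rw [Matrix.ProjGenLinGroup.mk_eq_one, Matrix.GeneralLinearGroup.center_eq_range_scalar] at h1
    obtain ⟨u, hu⟩ := h1
    refine ⟨u, u.ne_zero, ?_⟩
    have e : g = Matrix.GeneralLinearGroup.scalar (Fin 2) u * h := by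
      rw [hu]
      group
    conv_lhs => rw [e]
    rw [Units.val_mul, scalar_coe, smul_mul_assoc, one_mul]
  · rintro ⟨u, hu0, hu⟩
    have h1 : mkG (g * h⁻¹) = 1 := by
      rw [Matrix.ProjGenLinGroup.mk_eq_one, Matrix.GeneralLinearGroup.center_eq_range_scalar]
      refine ⟨Units.mk0 u hu0, ?_⟩
      apply Units.ext
      rw [scalar_coe, Units.val_mul, hu, smul_mul_assoc, ← Units.val_mul, mul_inv_cancel]
      rfl
    rw [map_mul, map_inv] at h1
    exact mul_inv_eq_one.1 h1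

/-- The embedding of `PSL₂` in `PGL₂`. -/
noncomputable def iota (E : Type*) [Field E] : Pe E →* Pg E :=
  QuotientGroup.lift _ (Matrix.ProjGenLinGroup.mk.comp Matrix.SpecialLinearGroup.toGL) (by
    intro A hA
    rcases (sl2_center_iff A).1 hA with h | h
    · rw [h]
      exact Subgroup.one_mem _
    · show mkG (Matrix.SpecialLinearGroup.toGL A) = 1
      rw [← map_one mkG, mkG_eq_iff]
      refine ⟨-1, by simp, ?_⟩
      show A.1 = _
      rw [h]
      simp)

theorem iota_mkP (A : SL(2, F)) : iota F (mkP A) = mkG (Matrix.SpecialLinearGroup.toGL A) := rfl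

theorem iota_injective : Function.Injective (iota F) := by
  rw [injective_iff_map_eq_one]
  intro x hx
  obtain ⟨A, rfl⟩ := mkP_surj x
  rw [iota_mkP, ← map_one mkG, mkG_eq_iff] at hx
  obtain ⟨u, hu0, hu⟩ := hx
  have hA : A.1 = u • 1 := hu
  have hd := A.2
  rw [hA, Matrix.det_smul] at hd
  simp at hd
  rw [mkP_eq_one_iff]
  rcases hd with rfl | rfl
  · left
    apply Subtype.ext
    rw [hA, one_smul]
    rfl
  · right
    rw [hA]
    simp

theorem iota_range : (iota F).range = LL F := by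
  ext x
  constructor
  · rintro ⟨y, rfl⟩
    obtain ⟨A, rfl⟩ := mkP_surj y
    exact ⟨A, rfl⟩
  · rintro ⟨A, rfl⟩
    exact ⟨mkP A, rfl⟩

theorem mem_LL_iff {x : Pg F} : x ∈ LL F ↔ ∃ y : Pe F, iota F y = x := by
  rw [← iota_range]
  rfl

theorem iota_mem_LL (y : Pe F) : iota F y ∈ LL F := mem_LL_iff.2 ⟨y, rfl⟩

theorem ThS_coe (P : GL (Fin 2) F) (A : SL(2, F)) :
    (ThS P A).1 = (P : Matrix (Fin 2) (Fin 2) F) * A.1 * ((P⁻¹ : GL (Fin 2) F) : Matrix (Fin 2) (Fin 2) F) := by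
  rw [ThS, Cfsg.Agent.Lib.AutPSL.slSemi_coe]
  congr 2

theorem iota_conj (P : GL (Fin 2) F) (x : Pe F) : mkG P * iota F x * (mkG P)⁻¹ = iota F (Th P x) := by
  obtain ⟨A, rfl⟩ := mkP_surj x
  rw [Th_mkP, iota_mkP, iota_mkP, ← map_inv, ← map_mul, ← map_mul]
  congr 1
  apply Units.ext
  show _ = (ThS P A).1
  rw [ThS_coe]
  rfl

theorem tr_ThS (P : GL (Fin 2) F) (A : SL(2, F)) : trS (ThS P A) = trS A := by
  have h := Matrix.trace_mul_comm ((P : Matrix (Fin 2) (Fin 2) F) * A.1) ((P⁻¹ : GL (Fin 2) F) : Matrix (Fin 2) (Fin 2) F)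
  have e1 : trS (ThS P A) = Matrix.trace (ThS P A).1 := by
    simp [trS, Matrix.trace_fin_two]
  have e2 : trS A = Matrix.trace A.1 := by
    simp [trS, Matrix.trace_fin_two]
  rw [e1, e2, ThS_coe, h, ← mul_assoc, ← Units.val_mul, inv_mul_cancel]
  simp

/-- The pull-back of a subgroup of `PGL₂` to `PSL₂`. -/
noncomputable def NN (M : Subgroup (Pg F)) : Subgroup (Pe F) := M.comap (iota F)

theorem mem_NN {M : Subgroup (Pg F)} {x : Pe F} : x ∈ NN M ↔ iota F x ∈ M := Iff.rfl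

/-- Conjugation of subgroups of `PGL₂`. -/
noncomputable def conjG (P : GL (Fin 2) F) (M : Subgroup (Pg F)) : Subgroup (Pg F) :=
  M.comap (MulAut.conj (mkG P)).toMonoidHom

theorem mem_conjG {P : GL (Fin 2) F} {M : Subgroup (Pg F)} {x : Pg F} : x ∈ conjG P M ↔ mkG P * x * (mkG P)⁻¹ ∈ M := Iff.rfl

/-- The conjugated subgroup is isomorphic. -/
noncomputable def conjGEquiv (P : GL (Fin 2) F) (M : Subgroup (Pg F)) : M ≃* conjG P M where
  toFun x := ⟨(mkG P)⁻¹ * x * mkG P, by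
    rw [mem_conjG]
    have : mkG P * ((mkG P)⁻¹ * (x : Pg F) * mkG P) * (mkG P)⁻¹ = x := by group
    rw [this]
    exact x.2⟩
  invFun x := ⟨mkG P * x * (mkG P)⁻¹, x.2⟩
  left_inv x := by
    apply Subtype.ext
    simp only
    group
  right_inv x := by
    apply Subtype.ext
    simp only
    group
  map_mul' x y := by
    apply Subtype.ext
    simp only [Subgroup.coe_mul]
    group

theorem NN_conjG (P : GL (Fin 2) F) (M : Subgroup (Pg F)) : NN (conjG P M) = conjSub P (NN M) := by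
  ext x
  rw [mem_NN, mem_conjG, iota_conj, mem_conjSub, mem_NN]

theorem coatom_conjG {M : Subgroup (Pg F)} (hM : IsCoatom M) (P : GL (Fin 2) F) : IsCoatom (conjG P M) := by
  let θ : Pg F ≃* Pg F := MulAut.conj (mkG P)
  have key : ∀ K : Subgroup (Pg F), M ≤ K.comap θ.symm.toMonoidHom ↔ conjG P M ≤ K := by
    intro K
    constructor
    · intro h x hx
      have h1 : θ x ∈ M := hx
      have h2 := h h1
      have h3 : θ.symm (θ x) ∈ K := h2
      rwa [MulEquiv.symm_apply_apply] at h3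
    · intro h x hx
      have h1 : θ.symm x ∈ conjG P M := by
        show θ (θ.symm x) ∈ M
        rwa [MulEquiv.apply_symm_apply]
      exact h h1
  constructor
  · intro h
    apply hM.1
    have : M ≤ (⊤ : Subgroup (Pg F)).comap (θ.symm.toMonoidHom) ∧ (⊤ : Subgroup (Pg F)) ≤ conjG P M := by
      exact ⟨fun x _ => trivial, by rw [h]⟩
    rw [eq_top_iff]
    intro x _
    have h2 : θ.symm x ∈ conjG P M := by
      rw [h]
      trivial
    have h3 : θ (θ.symm x) ∈ M := h2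
    rwa [MulEquiv.apply_symm_apply] at h3
  · intro K hK
    have h1 : M ≤ K.comap θ.symm.toMonoidHom := (key K).2 hK.le
    have h2 : M ≠ K.comap θ.symm.toMonoidHom := by
      intro h
      apply hK.ne
      apply le_antisymm hK.le
      intro x hx
      have h3 : θ.symm x ∈ K.comap θ.toMonoidHom := by
        show θ (θ.symm x) ∈ K
        rwa [MulEquiv.apply_symm_apply]
      have h4 : θ.symm (θ.symm x) ∈ K ∨ True := Or.inr trivial
      show θ x ∈ M
      rw [h]
      show θ.symm (θ x) ∈ K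
      rwa [MulEquiv.symm_apply_apply]
    have h3 := hM.2 _ (lt_of_le_of_ne h1 h2)
    rw [eq_top_iff]
    intro x _
    have h4 : θ x ∈ K.comap θ.symm.toMonoidHom := by
      rw [h3]
      trivial
    have h5 : θ.symm (θ x) ∈ K := h4
    rwa [MulEquiv.symm_apply_apply] at h5

theorem LL_le_conjG {M : Subgroup (Pg F)} (P : GL (Fin 2) F) (h : LL F ≤ conjG P M) : LL F ≤ M := by
  intro x hx
  obtain ⟨y, rfl⟩ := mem_LL_iff.1 hx
  have h1 : iota F ((Th P).symm y) ∈ conjG P M := h (iota_mem_LL _)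
  rw [mem_conjG, iota_conj, MulEquiv.apply_symm_apply] at h1
  exact h1

section Card

variable [Fintype F] {q : ℕ}

theorem card_Pg (hF : Fintype.card F = q) (hodd : Odd q) : Nat.card (Pg F) = 2 * Nat.card (Pe F) := by
  have h1 : 2 * Nat.card (Pe F) = q * (q ^ 2 - 1) := card_psl2_odd hF hodd
  rw [h1, card_pgl_eq, Nat.card_eq_fintype_card, hF]

theorem card_LL : Nat.card (LL F) = Nat.card (Pe F) := by
  rw [← iota_range]
  exact (Nat.card_congr (MonoidHom.ofInjective (iota_injective (F := F))).toEquiv).symm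

theorem index_LL (hF : Fintype.card F = q) (hodd : Odd q) : (LL F).index = 2 := by
  have h1 := Subgroup.card_mul_index (LL F)
  rw [card_LL, card_Pg hF hodd] at h1
  have h2 : 0 < Nat.card (Pe F) := Nat.card_pos
  nlinarith

theorem sq_mem_LL (hF : Fintype.card F = q) (hodd : Odd q) (x : Pg F) : x * x ∈ LL F :=
  Subgroup.mul_self_mem_of_index_two (index_LL hF hodd) x

theorem card_H_of_not_le (hF : Fintype.card F = q) (hodd : Odd q) (H : Subgroup (Pg F)) (h : ¬ H ≤ LL F) :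
    Nat.card H = 2 * Nat.card (NN H) := by
  haveI hN : (LL F).Normal := Subgroup.normal_of_index_eq_two (index_LL hF hodd)
  have h1 : (LL F).relIndex H ∣ (LL F).index := Subgroup.relIndex_dvd_index_of_normal _ _
  rw [index_LL hF hodd] at h1
  have h2 : (LL F).relIndex H ≠ 1 := fun h3 => h (Subgroup.relIndex_eq_one.1 h3)
  have h3 : (LL F).relIndex H = 2 := by
    rcases (Nat.dvd_prime Nat.prime_two).1 h1 with h4 | h4
    · exact absurd h4 h2
    · exact h4
  have h4 := Subgroup.card_mul_index ((LL F).subgroupOf H)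
  have h5 : ((LL F).subgroupOf H).index = 2 := h3
  rw [h5] at h4
  have h6 : Nat.card ((LL F).subgroupOf H) = Nat.card (NN H) := by
    symm
    apply Nat.card_eq_of_bijective
      (fun x : NN H => (⟨⟨iota F x, x.2⟩, iota_mem_LL _⟩ : (LL F).subgroupOf H))
    constructor
    · intro x y hxy
      apply Subtype.ext
      apply iota_injective
      have := congrArg (fun z : (LL F).subgroupOf H => ((z : H) : Pg F)) hxy
      exact this
    · rintro ⟨⟨y, hy⟩, hy2⟩
      obtain ⟨z, hz⟩ := mem_LL_iff.1 (Subgroup.mem_subgroupOf.1 hy2)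
      subst hz
      exact ⟨⟨z, hy⟩, rfl⟩
  rw [h6] at h4
  omega

end Card

section Quat

variable (S : QSplit F)

theorem qm_any (M : Matrix (Fin 2) (Fin 2) F) : ∃ a b c d, M = S.qm a b c d := by
  have hxy := S.hxy
  have hh := S.hh
  refine ⟨S.h * (M 0 0 + M 1 1), S.h * (M 0 1 - M 1 0), -(S.h * (S.x * (M 0 0 - M 1 1) + S.y * (M 0 1 + M 1 0))),
    -(S.h * (S.y * (M 0 0 - M 1 1) - S.x * (M 0 1 + M 1 0))), ?_⟩
  ext i j
  fin_cases i <;> fin_cases j <;> simp [QSplit.qm]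
  · linear_combination (S.h * (M 0 0 - M 1 1)) * hxy - (M 0 0) * hh
  · linear_combination (S.h * (M 0 1 + M 1 0)) * hxy - (M 0 1) * hh
  · linear_combination (S.h * (M 0 1 + M 1 0)) * hxy - (M 1 0) * hh
  · linear_combination (-(S.h * (M 0 0 - M 1 1))) * hxy - (M 1 1) * hh

theorem qm_smul (u a b c d : F) : u • S.qm a b c d = S.qm (u * a) (u * b) (u * c) (u * d) := by
  ext i j
  fin_cases i <;> fin_cases j <;> simp [QSplit.qm] <;> ring

theorem qm_one : S.qm 1 0 0 0 = 1 := by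
  ext i j
  fin_cases i <;> fin_cases j <;> simp [QSplit.qm]

theorem iota_ia : iota F S.ia = mkG (Matrix.SpecialLinearGroup.toGL (QS.sI S)) := by
  rw [← QS.mk_sI, iota_mkP]

theorem iota_jb : iota F S.jb = mkG (Matrix.SpecialLinearGroup.toGL (QS.sJ S)) := by
  rw [← QS.mk_sJ, iota_mkP]

theorem comm_IG {g : GL (Fin 2) F} {a b c d : F} (hG : g.1 = S.qm a b c d)
    (h : mkG g * iota F S.ia = iota F S.ia * mkG g) : (c = 0 ∧ d = 0) ∨ (a = 0 ∧ b = 0) := by
  have h2 := S.two_ne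
  rw [iota_ia, ← map_mul, ← map_mul, mkG_eq_iff] at h
  obtain ⟨u, hu0, hu⟩ := h
  have e1 : (g * Matrix.SpecialLinearGroup.toGL (QS.sI S)).1 = S.qm a b c d * S.qm 0 1 0 0 := by
    rw [Units.val_mul, hG]
    rfl
  have e2 : (Matrix.SpecialLinearGroup.toGL (QS.sI S) * g).1 = S.qm 0 1 0 0 * S.qm a b c d := by
    rw [Units.val_mul, hG]
    rfl
  rw [e1, e2, S.qm_mul, S.qm_mul, qm_smul] at hu
  obtain ⟨h0, h1, h3, h4⟩ := QS.qm_inj S hu
  by_cases hu1 : u = 1
  · left
    subst hu1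
    constructor
    · apply mul_left_cancel₀ h2
      linear_combination (-1 : F) * h4
    · apply mul_left_cancel₀ h2
      linear_combination h3
  · right
    have hne : u - 1 ≠ 0 := sub_ne_zero.2 hu1
    constructor
    · apply mul_left_cancel₀ hne
      linear_combination -h1
    · apply mul_left_cancel₀ hne
      linear_combination h0

theorem comm_JG {g : GL (Fin 2) F} {a b c d : F} (hG : g.1 = S.qm a b c d)
    (h : mkG g * iota F S.jb = iota F S.jb * mkG g) : (b = 0 ∧ d = 0) ∨ (a = 0 ∧ c = 0) := by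
  have h2 := S.two_ne
  rw [iota_jb, ← map_mul, ← map_mul, mkG_eq_iff] at h
  obtain ⟨u, hu0, hu⟩ := h
  have e1 : (g * Matrix.SpecialLinearGroup.toGL (QS.sJ S)).1 = S.qm a b c d * S.qm 0 0 1 0 := by
    rw [Units.val_mul, hG]
    rfl
  have e2 : (Matrix.SpecialLinearGroup.toGL (QS.sJ S) * g).1 = S.qm 0 0 1 0 * S.qm a b c d := by
    rw [Units.val_mul, hG]
    rfl
  rw [e1, e2, S.qm_mul, S.qm_mul, qm_smul] at hu
  obtain ⟨h0, h1, h3, h4⟩ := QS.qm_inj S hu
  by_cases hu1 : u = 1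
  · left
    subst hu1
    constructor
    · apply mul_left_cancel₀ h2
      linear_combination h4
    · apply mul_left_cancel₀ h2
      linear_combination (-1 : F) * h1
  · right
    have hne : u - 1 ≠ 0 := sub_ne_zero.2 hu1
    constructor
    · apply mul_left_cancel₀ hne
      linear_combination -h3
    · apply mul_left_cancel₀ hne
      linear_combination h0

theorem mkG_of_scalar (g : GL (Fin 2) F) (X : SL(2, F)) {v : F} (hv : v ≠ 0) (h : g.1 = v • X.1) :
    mkG g = iota F (mkP X) := by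
  rw [iota_mkP, mkG_eq_iff]
  exact ⟨v, hv, h⟩

/-- The centraliser of the Klein group in `PGL₂`. -/
theorem cent_VG (g : GL (Fin 2) F) (h1 : mkG g * iota F S.ia = iota F S.ia * mkG g)
    (h2 : mkG g * iota F S.jb = iota F S.jb * mkG g) :
    mkG g = 1 ∨ mkG g = iota F S.ia ∨ mkG g = iota F S.jb ∨ mkG g = iota F S.ia * iota F S.jb := by
  obtain ⟨a, b, c, d, hG⟩ := qm_any S g.1
  have hdet : a ^ 2 + b ^ 2 + c ^ 2 + d ^ 2 ≠ 0 := by
    rw [← S.qm_det, ← hG]
    exact ((Matrix.isUnit_iff_isUnit_det _).1 g.isUnit).ne_zero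
  rcases comm_IG S hG h1 with ⟨rfl, rfl⟩ | ⟨rfl, rfl⟩ <;> rcases comm_JG S hG h2 with ⟨h3, h4⟩ | ⟨h3, h4⟩
  · subst h3
    left
    have hv : a ≠ 0 := by
      rintro rfl
      simp at hdet
    rw [← map_one (iota F), ← mkP_eq_one_iff (1 : SL(2, F)) |>.2 (Or.inl rfl)]
    apply mkG_of_scalar g 1 hv
    rw [hG, show ((1 : SL(2, F)) : Matrix (Fin 2) (Fin 2) F) = S.qm 1 0 0 0 by rw [qm_one]; rfl, qm_smul]
    simp
  · subst h3
    right; left
    have hv : b ≠ 0 := by
      rintro rfl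
      simp at hdet
    rw [← QS.mk_sI]
    apply mkG_of_scalar g _ hv
    rw [hG, show (QS.sI S : SL(2, F)).1 = S.qm 0 1 0 0 from rfl, qm_smul]
    simp
  · subst h4
    right; right; left
    have hv : c ≠ 0 := by
      rintro rfl
      simp at hdet
    rw [← QS.mk_sJ]
    apply mkG_of_scalar g _ hv
    rw [hG, show (QS.sJ S : SL(2, F)).1 = S.qm 0 0 1 0 from rfl, qm_smul]
    simp
  · subst h4
    right; right; right
    have hv : d ≠ 0 := by
      rintro rfl
      simp at hdet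
    rw [← map_mul, S.ia_jb, ← QS.mk_sK]
    apply mkG_of_scalar g _ hv
    rw [hG, show (QS.sK S : SL(2, F)).1 = S.qm 0 0 0 1 from rfl, qm_smul]
    simp

/-- The element `i - j`. -/
noncomputable def rG : GL (Fin 2) F :=
  Matrix.GeneralLinearGroup.mkOfDetNeZero (S.qm 0 1 (-1) 0) (by
    rw [S.qm_det]
    have h2 := S.two_ne
    intro h
    apply h2
    linear_combination h)

theorem rG_coe : (rG S : GL (Fin 2) F).1 = S.qm 0 1 (-1) 0 := rfl

/-- The lift of `ω`. -/
noncomputable def omS : SL(2, F) := S.qs S.norm_om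
/-- The lift of `ω²`. -/
noncomputable def om2S : SL(2, F) := S.qs S.norm_om2

theorem mk_omS : mkP (omS S) = S.om := (S.P_of _).symm
theorem mk_om2S : mkP (om2S S) = S.om2 := (S.P_of _).symm

theorem r_sqG : mkG (rG S) ^ 2 = 1 := by
  rw [pow_two, ← map_mul, ← map_one mkG, mkG_eq_iff]
  have h2 := S.two_ne
  refine ⟨-2, neg_ne_zero.2 h2, ?_⟩
  rw [Units.val_mul, rG_coe, S.qm_mul, Units.val_one, ← qm_one, qm_smul]
  congr 1 <;> ring

theorem r_iG : mkG (rG S) * iota F S.ia = iota F S.jb * mkG (rG S) := by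
  rw [iota_ia, iota_jb, ← map_mul, ← map_mul, mkG_eq_iff]
  refine ⟨-1, by simp, ?_⟩
  rw [Units.val_mul, Units.val_mul, rG_coe]
  show S.qm 0 1 (-1) 0 * S.qm 0 1 0 0 = (-1 : F) • (S.qm 0 0 1 0 * S.qm 0 1 (-1) 0)
  rw [S.qm_mul, S.qm_mul, qm_smul]
  congr 1 <;> ring

theorem r_jG : mkG (rG S) * iota F S.jb = iota F S.ia * mkG (rG S) := by
  rw [iota_ia, iota_jb, ← map_mul, ← map_mul, mkG_eq_iff]
  refine ⟨-1, by simp, ?_⟩
  rw [Units.val_mul, Units.val_mul, rG_coe]
  show S.qm 0 1 (-1) 0 * S.qm 0 0 1 0 = (-1 : F) • (S.qm 0 1 0 0 * S.qm 0 1 (-1) 0)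
  rw [S.qm_mul, S.qm_mul, qm_smul]
  congr 1 <;> ring

theorem r_wG : mkG (rG S) * iota F S.om = iota F S.om2 * mkG (rG S) := by
  rw [← mk_omS, ← mk_om2S, iota_mkP, iota_mkP, ← map_mul, ← map_mul, mkG_eq_iff]
  refine ⟨1, one_ne_zero, ?_⟩
  rw [Units.val_mul, Units.val_mul, rG_coe, one_smul]
  show S.qm 0 1 (-1) 0 * S.qm (-S.h) S.h S.h S.h = S.qm (-S.h) (-S.h) (-S.h) (-S.h) * S.qm 0 1 (-1) 0
  rw [S.qm_mul, S.qm_mul]
  congr 1 <;> ring

/-- The octahedral group in `PGL₂(F)`. -/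
noncomputable def X4 [Finite F] : S4Data (Pg F) where
  toA4Data := S.a4.map (iota F) iota_injective
  r := mkG (rG S)
  hr2 := r_sqG S
  hra := by
    show mkG (rG S) * iota F S.ia * (mkG (rG S))⁻¹ = iota F S.jb
    rw [r_iG S]
    simp
  hrb := by
    show mkG (rG S) * iota F S.jb * (mkG (rG S))⁻¹ = iota F S.ia
    rw [r_jG S]
    simp
  hrw := by
    show mkG (rG S) * iota F S.om * (mkG (rG S))⁻¹ = (iota F S.om)⁻¹
    rw [r_wG S, ← S.om_inv, map_inv]
    simp

end Quat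

instance finitePg [Finite F] : Finite (Pg F) := by
  classical
  haveI : Fintype F := Fintype.ofFinite F
  exact inferInstanceAs (Finite (GL (Fin 2) F ⧸ Subgroup.center (GL (Fin 2) F)))

section Norm

variable {G : Type*} [Group G] [Finite G]

/-- The normaliser of the Klein group. -/
theorem norm_V_le (D : S4Data G) (hC : ∀ t : G, t * D.a = D.a * t → t * D.b = D.b * t → t ∈ D.V) (t : G)
    (h1 : t * D.a * t⁻¹ ∈ D.V) (h2 : t * D.b * t⁻¹ ∈ D.V) : t ∈ D.S := by
  have key : ∀ s ∈ D.S, s * D.a * s⁻¹ = t * D.a * t⁻¹ → s * D.b * s⁻¹ = t * D.b * t⁻¹ → t ∈ D.S := by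
    intro s hs e1 e2
    have h3 : s⁻¹ * t ∈ D.V := by
      apply hC
      · have : t * D.a = s * D.a * s⁻¹ * t := by rw [e1]; group
        rw [mul_assoc, this]
        group
      · have : t * D.b = s * D.b * s⁻¹ * t := by rw [e2]; group
        rw [mul_assoc, this]
        group
    have h4 : t = s * (s⁻¹ * t) := by group
    rw [h4]
    exact D.S.mul_mem hs (D.T_le_S (D.V_le_T h3))
  have hw : D.w ∈ D.S := D.T_le_S D.w_mem_T
  have hr : D.r ∈ D.S := D.r_mem_S
  have hne1 : t * D.a * t⁻¹ ≠ 1 := by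
    intro h
    apply D.ha1
    have : D.a = t⁻¹ * (t * D.a * t⁻¹) * t := by group
    rw [this, h]
    group
  have hne2 : t * D.b * t⁻¹ ≠ 1 := by
    intro h
    apply D.hb1
    have : D.b = t⁻¹ * (t * D.b * t⁻¹) * t := by group
    rw [this, h]
    group
  have hne3 : t * D.a * t⁻¹ ≠ t * D.b * t⁻¹ := by
    intro h
    apply D.hne
    have e : ∀ x : G, x = t⁻¹ * (t * x * t⁻¹) * t := fun x => by group
    rw [e D.a, e D.b, h]
  have f1 : D.r * D.a * D.r⁻¹ = D.b := D.hra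
  have f2 : D.r * D.b * D.r⁻¹ = D.a := D.hrb
  have f3 : D.w * D.a * D.w⁻¹ = D.a * D.b := D.h1
  have f4 : D.w * D.b * D.w⁻¹ = D.a := D.h2
  have f5 : D.w ^ 2 * D.a * (D.w ^ 2)⁻¹ = D.b := D.conj_pow_two_a
  have f6 : D.w ^ 2 * D.b * (D.w ^ 2)⁻¹ = D.a * D.b := D.conj_pow_two_b
  have e3 : D.b * D.a = D.a * D.b := D.hab.symm
  have f7 : (D.r * D.w) * D.a * (D.r * D.w)⁻¹ = D.a * D.b := by
    have : (D.r * D.w) * D.a * (D.r * D.w)⁻¹ = D.r * (D.w * D.a * D.w⁻¹) * D.r⁻¹ := by group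
    rw [this, f3]
    have : D.r * (D.a * D.b) * D.r⁻¹ = (D.r * D.a * D.r⁻¹) * (D.r * D.b * D.r⁻¹) := by group
    rw [this, f1, f2, e3]
  have f8 : (D.r * D.w) * D.b * (D.r * D.w)⁻¹ = D.b := by
    have : (D.r * D.w) * D.b * (D.r * D.w)⁻¹ = D.r * (D.w * D.b * D.w⁻¹) * D.r⁻¹ := by group
    rw [this, f4, f1]
  have f9 : (D.r * D.w ^ 2) * D.a * (D.r * D.w ^ 2)⁻¹ = D.a := by
    have : (D.r * D.w ^ 2) * D.a * (D.r * D.w ^ 2)⁻¹ = D.r * (D.w ^ 2 * D.a * (D.w ^ 2)⁻¹) * D.r⁻¹ := by group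
    rw [this, f5, f2]
  have f10 : (D.r * D.w ^ 2) * D.b * (D.r * D.w ^ 2)⁻¹ = D.a * D.b := by
    have : (D.r * D.w ^ 2) * D.b * (D.r * D.w ^ 2)⁻¹ = D.r * (D.w ^ 2 * D.b * (D.w ^ 2)⁻¹) * D.r⁻¹ := by group
    rw [this, f6]
    have : D.r * (D.a * D.b) * D.r⁻¹ = (D.r * D.a * D.r⁻¹) * (D.r * D.b * D.r⁻¹) := by group
    rw [this, f1, f2, e3]
  rcases D.mem_V.1 h1 with h3 | h3 | h3 | h3 <;> rcases D.mem_V.1 h2 with h4 | h4 | h4 | h4
  · exact absurd h3 hne1
  · exact absurd h3 hne1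
  · exact absurd h3 hne1
  · exact absurd h3 hne1
  · exact absurd h4 hne2
  · exact absurd (h3.trans h4.symm) hne3
  · exact key 1 D.S.one_mem (by simp [h3]) (by simp [h4])
  · exact key (D.r * D.w ^ 2) (D.S.mul_mem hr (D.S.pow_mem hw 2)) (by rw [f9, h3]) (by rw [f10, h4])
  · exact absurd h4 hne2
  · exact key D.r hr (by rw [f1, h3]) (by rw [f2, h4])
  · exact absurd (h3.trans h4.symm) hne3
  · exact key (D.w ^ 2) (D.S.pow_mem hw 2) (by rw [f5, h3]) (by rw [f6, h4])
  · exact absurd h4 hne2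
  · exact key D.w hw (by rw [f3, h3]) (by rw [f4, h4])
  · exact key (D.r * D.w) (D.S.mul_mem hr hw) (by rw [f7, h3]) (by rw [f8, h4])
  · exact absurd (h3.trans h4.symm) hne3

end Norm

section X

variable [Fintype F] (S : QSplit F)

theorem X4_C (t : Pg F) (h1 : t * (X4 S).a = (X4 S).a * t) (h2 : t * (X4 S).b = (X4 S).b * t) : t ∈ (X4 S).V := by
  obtain ⟨g, rfl⟩ := Matrix.ProjGenLinGroup.mk_surjective t
  exact cent_VG S g h1 h2

/-- The normaliser of the standard Klein group. -/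
theorem norm_V_X4 (t : Pg F) (h1 : t * iota F S.ia * t⁻¹ ∈ (X4 S).V) (h2 : t * iota F S.jb * t⁻¹ ∈ (X4 S).V) :
    t ∈ (X4 S).S :=
  norm_V_le (X4 S) (X4_C S) t h1 h2

end X

end Cfsg.Agent.Lib.LocalEven.PglMax
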