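import Cfsg.Agent.Lib.LocalEven.QdNat
import Cfsg.Agent.Lib.Basic.Core
import Cfsg.Prelude.Def_LocalEven

/-! The group `Qd(F)` over a field: block matrices, the translation subgroup, the complement. -/

set_option autoImplicit false
set_option linter.unusedSectionVars false

namespace Cfsg.Agent.Lib.LocalEven.QdOver

open Cfsg Cfsg.Agent.Lib.Known

variable {F : Type*} [Field F]

/-- The block matrix. -/
def qoMat (A : Matrix (Fin 2) (Fin 2) F) (u : Fin 2 → F) : Matrix (Fin 3) (Fin 3) F :=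
  !![A 0 0, A 0 1, u 0; A 1 0, A 1 1, u 1; 0, 0, 1]

theorem qoMat_det (A : SL2 F) (u : Fin 2 → F) : (qoMat A.1 u).det = 1 := by
  have h := A.2
  rw [Matrix.det_fin_two] at h
  simp only [qoMat, Matrix.det_fin_three]
  simp
  linear_combination h

/-- The elements of `Qd(F)`. -/
def qoEl (A : SL2 F) (u : Fin 2 → F) : Cfsg.qdOver F :=
  ⟨⟨qoMat A.1 u, qoMat_det A u⟩, Subgroup.subset_closure ⟨by simp [qoMat], by simp [qoMat], by simp [qoMat]⟩⟩

theorem qoEl_mul (A B : SL2 F) (u v : Fin 2 → F) :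
    qoEl A u * qoEl B v = qoEl (A * B) (A.1.mulVec v + u) := by
  apply Subtype.ext
  apply Subtype.ext
  show qoMat A.1 u * qoMat B.1 v = qoMat (A * B).1 (A.1.mulVec v + u)
  ext i j
  fin_cases i <;> fin_cases j <;>
    simp [qoMat, Matrix.mul_apply, Fin.sum_univ_three, Fin.sum_univ_two, Matrix.mulVec, dotProduct,
      Matrix.SpecialLinearGroup.coe_mul] <;> ring

theorem qoEl_one : qoEl (1 : SL2 F) 0 = 1 := by
  apply Subtype.ext
  apply Subtype.ext
  show qoMat (1 : SL2 F).1 0 = 1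
  ext i j
  fin_cases i <;> fin_cases j <;> simp [qoMat]

theorem qoEl_inj {A B : SL2 F} {u v : Fin 2 → F} (h : qoEl A u = qoEl B v) : A = B ∧ u = v := by
  have h1 : qoMat A.1 u = qoMat B.1 v := congrArg (fun z : Cfsg.qdOver F => (z.1.1 : Matrix (Fin 3) (Fin 3) F)) h
  have e00 := congrFun (congrFun h1 0) 0
  have e01 := congrFun (congrFun h1 0) 1
  have e10 := congrFun (congrFun h1 1) 0
  have e11 := congrFun (congrFun h1 1) 1
  have e02 := congrFun (congrFun h1 0) 2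
  have e12 := congrFun (congrFun h1 1) 2
  simp [qoMat] at e00 e01 e10 e11 e02 e12
  constructor
  · apply Subtype.ext
    ext i j
    fin_cases i <;> fin_cases j <;> assumption
  · funext i
    fin_cases i <;> assumption

/-- The last row of an element of `Qd(F)` is `(0,0,1)`. -/
theorem qo_lastRow (M : Matrix.SpecialLinearGroup (Fin 3) F) (hM : M ∈ Cfsg.qdOver F) :
    (M : Matrix (Fin 3) (Fin 3) F) 2 0 = 0 ∧ (M : Matrix (Fin 3) (Fin 3) F) 2 1 = 0 ∧
      (M : Matrix (Fin 3) (Fin 3) F) 2 2 = 1 := by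
  let H : Subgroup (Matrix.SpecialLinearGroup (Fin 3) F) :=
    { carrier := {M | Matrix.vecMul ![0, 0, 1] (M : Matrix (Fin 3) (Fin 3) F) = ![0, 0, 1]}
      mul_mem' := by
        intro a b ha hb
        simp only [Set.mem_ofPred_eq, Matrix.SpecialLinearGroup.coe_mul] at ha hb ⊢
        rw [← Matrix.vecMul_vecMul, ha, hb]
      one_mem' := by simp
      inv_mem' := by
        intro a ha
        simp only [Set.mem_ofPred_eq] at ha ⊢
        have h3 : (a : Matrix (Fin 3) (Fin 3) F) * ((a⁻¹ : Matrix.SpecialLinearGroup (Fin 3) F) : Matrix (Fin 3) (Fin 3) F) = 1 :=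
          congrArg Subtype.val (mul_inv_cancel a)
        conv_lhs => rw [← ha]
        rw [Matrix.vecMul_vecMul, h3, Matrix.vecMul_one] }
  have hle : Cfsg.qdOver F ≤ H := by
    apply (Subgroup.closure_le _).mpr
    rintro g ⟨h1, h2, h3⟩
    change Matrix.vecMul ![0, 0, 1] (g : Matrix (Fin 3) (Fin 3) F) = ![0, 0, 1]
    funext j
    simp only [Matrix.vecMul, dotProduct, Fin.sum_univ_three]
    fin_cases j <;> simp [h1, h2, h3]
  have h := hle hM
  change Matrix.vecMul ![0, 0, 1] (M : Matrix (Fin 3) (Fin 3) F) = ![0, 0, 1] at h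
  have h0 := congrFun h 0
  have h1 := congrFun h 1
  have h2 := congrFun h 2
  simp only [Matrix.vecMul, dotProduct, Fin.sum_univ_three] at h0 h1 h2
  refine ⟨?_, ?_, ?_⟩
  · simpa using h0
  · simpa using h1
  · simpa using h2

theorem qoEl_surj (M : Cfsg.qdOver F) : ∃ (A : SL2 F) (u : Fin 2 → F), M = qoEl A u := by
  obtain ⟨h0, h1, h2⟩ := qo_lastRow _ M.2
  set m : Matrix (Fin 3) (Fin 3) F := M.1.1 with hm
  have hd : m.det = 1 := M.1.2
  rw [Matrix.det_fin_three, h0, h1, h2] at hd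
  have hA : (!![m 0 0, m 0 1; m 1 0, m 1 1] : Matrix (Fin 2) (Fin 2) F).det = 1 := by
    rw [Matrix.det_fin_two_of]
    linear_combination hd
  refine ⟨⟨_, hA⟩, ![m 0 2, m 1 2], ?_⟩
  apply Subtype.ext
  apply Subtype.ext
  show m = qoMat _ _
  ext i j
  fin_cases i <;> fin_cases j <;> simp [qoMat, h0, h1, h2]

/-- The block of an element. -/
theorem qoEl_val (A : SL2 F) (u : Fin 2 → F) :
    (((qoEl A u : Cfsg.qdOver F) : Matrix.SpecialLinearGroup (Fin 3) F) : Matrix (Fin 3) (Fin 3) F)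
      = qoMat A.1 u := rfl

/-- The block map as a function on elements. -/
noncomputable def qoBlockF (M : Cfsg.qdOver F) : SL2 F := (qoEl_surj M).choose

theorem qoEl_block (A : SL2 F) (u : Fin 2 → F) : qoBlockF (qoEl A u) = A := by
  have h := (qoEl_surj (qoEl A u)).choose_spec
  obtain ⟨v, hv⟩ := h
  exact (qoEl_inj hv).1.symm

/-- The block homomorphism. -/
noncomputable def qoBlock : Cfsg.qdOver F →* SL2 F where
  toFun := qoBlockF
  map_one' := by rw [← qoEl_one, qoEl_block]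
  map_mul' a b := by
    obtain ⟨A, u, rfl⟩ := qoEl_surj a
    obtain ⟨B, v, rfl⟩ := qoEl_surj b
    rw [qoEl_mul, qoEl_block, qoEl_block, qoEl_block]

theorem qoBlock_el (A : SL2 F) (u : Fin 2 → F) : qoBlock (qoEl A u) = A := qoEl_block A u

theorem qoBlock_surj : Function.Surjective (qoBlock : Cfsg.qdOver F →* SL2 F) :=
  fun A => ⟨qoEl A 0, qoBlock_el A 0⟩

/-- The complement. -/
noncomputable def qoB : SL2 F →* Cfsg.qdOver F where
  toFun A := qoEl A 0
  map_one' := qoEl_one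
  map_mul' A B := by
    rw [qoEl_mul]
    simp

theorem qoB_apply (A : SL2 F) : qoB A = qoEl A 0 := rfl

theorem qoB_injective : Function.Injective (qoB : SL2 F →* Cfsg.qdOver F) :=
  fun _ _ h => (qoEl_inj h).1

theorem qoEl_inv (A : SL2 F) (u : Fin 2 → F) : (qoEl A u)⁻¹ = qoEl A⁻¹ (-(A⁻¹).1.mulVec u) := by
  apply inv_eq_of_mul_eq_one_right
  rw [qoEl_mul, mul_inv_cancel, Matrix.mulVec_neg, Matrix.mulVec_mulVec]
  have : A.1 * (A⁻¹).1 = 1 := congrArg Subtype.val (mul_inv_cancel A)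
  rw [this, Matrix.one_mulVec, neg_add_cancel, qoEl_one]

/-- conjugation of a translation. -/
theorem qoEl_conj (A : SL2 F) (u v : Fin 2 → F) :
    qoEl A u * qoEl 1 v * (qoEl A u)⁻¹ = qoEl 1 (A.1.mulVec v) := by
  rw [eq_comm, eq_mul_inv_iff_mul_eq, qoEl_mul, qoEl_mul]
  simp only [Matrix.SpecialLinearGroup.coe_one, Matrix.one_mulVec, one_mul, mul_one]
  congr 1
  exact add_comm _ _

theorem qoT_pow (u : Fin 2 → F) (n : ℕ) : (qoEl (1 : SL2 F) u) ^ n = qoEl 1 (n • u) := by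
  induction n with
  | zero => simp [qoEl_one]
  | succ k ih =>
    rw [pow_succ, ih, qoEl_mul, one_mul, succ_nsmul]
    simp [add_comm]

/-- A normal `p`-subgroup of `SL₂(F)` is trivial. -/
theorem sl2_normal_p_trivial [Finite F] {p : ℕ} [Fact p.Prime] [CharP F p] (N : Subgroup (SL2 F)) (hN : N.Normal)
    (hNp : IsPGroup p N) : N = ⊥ := by
  classical
  haveI : Fintype F := Fintype.ofFinite F
  letI : MulAction N (Fin 2 → F) :=
    { smul := fun g v => ((g : SL2 F) : Matrix (Fin 2) (Fin 2) F).mulVec v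
      one_smul := fun v => by
        show ((1 : SL2 F) : Matrix (Fin 2) (Fin 2) F).mulVec v = v
        simp
      mul_smul := fun a b v => by
        show (((a : SL2 F) * (b : SL2 F) : SL2 F) : Matrix (Fin 2) (Fin 2) F).mulVec v =
          ((a : SL2 F) : Matrix (Fin 2) (Fin 2) F).mulVec (((b : SL2 F) : Matrix (Fin 2) (Fin 2) F).mulVec v)
        rw [Matrix.SpecialLinearGroup.coe_mul, Matrix.mulVec_mulVec] }
  haveI hfin : Finite (MulAction.fixedPoints N (Fin 2 → F)) := inferInstance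
  have h1 := hNp.card_modEq_card_fixedPoints (Fin 2 → F)
  have hp : p ∣ Nat.card (Fin 2 → F) := by
    obtain ⟨n, hn⟩ := FiniteField.card F p
    rw [Nat.card_eq_fintype_card]
    simp only [Fintype.card_fun, Fintype.card_fin]
    rw [hn.2]
    exact dvd_pow (dvd_pow_self _ (PNat.ne_zero n)) (by norm_num)
  have hdvd : p ∣ Nat.card (MulAction.fixedPoints N (Fin 2 → F)) :=
    (Nat.modEq_zero_iff_dvd.1 (h1.symm.trans (Nat.modEq_zero_iff_dvd.2 hp)))
  have hzero : (0 : Fin 2 → F) ∈ MulAction.fixedPoints N (Fin 2 → F) := by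
    intro g
    show ((g : SL2 F) : Matrix (Fin 2) (Fin 2) F).mulVec 0 = 0
    simp
  haveI : Nonempty (MulAction.fixedPoints N (Fin 2 → F)) := ⟨⟨0, hzero⟩⟩
  have hlt : 1 < Nat.card (MulAction.fixedPoints N (Fin 2 → F)) :=
    lt_of_lt_of_le (Fact.out : p.Prime).one_lt (Nat.le_of_dvd Nat.card_pos hdvd)
  haveI hnt := Finite.one_lt_card_iff_nontrivial.1 hlt
  obtain ⟨⟨v, hv⟩, hv0⟩ := exists_ne (⟨0, hzero⟩ : MulAction.fixedPoints N (Fin 2 → F))
  have hv0' : v ≠ 0 := fun h => hv0 (Subtype.ext h)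
  have hfix : ∀ x ∈ N, (x : Matrix (Fin 2) (Fin 2) F).mulVec v = v := fun x hx => hv ⟨x, hx⟩
  -- transitivity
  have htrans : ∀ w : Fin 2 → F, w ≠ 0 → ∃ g : SL2 F, g.1.mulVec ![1, 0] = w := by
    intro w hw
    by_cases h0 : w 0 = 0
    · have h1 : w 1 ≠ 0 := fun h => hw (by funext i; fin_cases i <;> simp [h0, h])
      refine ⟨⟨!![0, -(w 1)⁻¹; w 1, 0], by simp [Matrix.det_fin_two, h1]⟩, ?_⟩
      funext i
      fin_cases i <;> simp [Matrix.mulVec, dotProduct, Fin.sum_univ_two, h0]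
    · refine ⟨⟨!![w 0, 0; w 1, (w 0)⁻¹], by simp [Matrix.det_fin_two, h0]⟩, ?_⟩
      funext i
      fin_cases i <;> simp [Matrix.mulVec, dotProduct, Fin.sum_univ_two]
  obtain ⟨g₀, hg₀⟩ := htrans v hv0'
  have hall : ∀ x ∈ N, ∀ w : Fin 2 → F, x.1.mulVec w = w := by
    intro x hx w
    by_cases hw : w = 0
    · subst hw; simp
    obtain ⟨g₁, hg₁⟩ := htrans w hw
    have mv : ∀ (a b : SL2 F) (u : Fin 2 → F), (a * b).1.mulVec u = a.1.mulVec (b.1.mulVec u) := by
      intro a b u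
      rw [Matrix.mulVec_mulVec]
      rfl
    have hh : (g₁ * g₀⁻¹).1.mulVec v = w := by
      rw [← hg₀, ← mv (g₁ * g₀⁻¹) g₀, inv_mul_cancel_right, hg₁]
    have hmem : (g₁ * g₀⁻¹)⁻¹ * x * (g₁ * g₀⁻¹) ∈ N := by
      simpa using hN.conj_mem x hx (g₁ * g₀⁻¹)⁻¹
    have h3 := hfix _ hmem
    rw [mv, mv, hh] at h3
    have h4 : (g₁ * g₀⁻¹).1.mulVec (((g₁ * g₀⁻¹)⁻¹).1.mulVec (x.1.mulVec w)) = (g₁ * g₀⁻¹).1.mulVec v :=
      congrArg _ h3
    rwa [← mv, mul_inv_cancel, hh, Matrix.SpecialLinearGroup.coe_one, Matrix.one_mulVec] at h4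
  rw [eq_bot_iff]
  intro x hx
  rw [Subgroup.mem_bot]
  apply Subtype.ext
  ext i j
  have h := congrFun (hall x hx (Pi.single j 1)) i
  rw [Matrix.mulVec_single] at h
  simpa [Matrix.one_apply, Pi.single_apply, eq_comm] using h

/-- The largest normal `p`-subgroup of `Qd(F)` is the kernel of the block map. -/
theorem pCore_qo [Finite F] {p : ℕ} [Fact p.Prime] [CharP F p] :
    Cfsg.pCore p (Cfsg.qdOver F) = (qoBlock : Cfsg.qdOver F →* SL2 F).ker := by
  apply le_antisymm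
  · have hn : (Cfsg.pCore p (Cfsg.qdOver F)).Normal := Cfsg.Agent.Lib.Basic.pCore_normal p
    have hpg : IsPGroup p (Cfsg.pCore p (Cfsg.qdOver F)) := Cfsg.Agent.Lib.Basic.pCore_isPGroup p
    have hmap : (Cfsg.pCore p (Cfsg.qdOver F)).map (qoBlock : Cfsg.qdOver F →* SL2 F) = ⊥ :=
      sl2_normal_p_trivial (p := p) _ (hn.map _ qoBlock_surj) (hpg.map _ )
    exact (Subgroup.map_eq_bot_iff _).1 hmap
  · apply Cfsg.Agent.Lib.Basic.le_pCore (MonoidHom.normal_ker _)
    intro ⟨M, hM⟩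
    obtain ⟨A, u, rfl⟩ := qoEl_surj M
    have hA : A = 1 := by
      have : qoBlock (qoEl A u) = 1 := hM
      rwa [qoBlock_el] at this
    subst hA
    refine ⟨1, ?_⟩
    apply Subtype.ext
    show (qoEl (1 : SL2 F) u) ^ p ^ 1 = 1
    rw [pow_one, qoT_pow]
    have : p • u = 0 := by
      funext i
      simp
    rw [this, qoEl_one]

theorem mem_pCore_iff [Finite F] {p : ℕ} [Fact p.Prime] [CharP F p] (M : Cfsg.qdOver F) :
    M ∈ Cfsg.pCore p (Cfsg.qdOver F) ↔ (M.1.1 0 0 = 1 ∧ M.1.1 0 1 = 0 ∧ M.1.1 1 0 = 0 ∧ M.1.1 1 1 = 1) := by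
  rw [pCore_qo, MonoidHom.mem_ker]
  obtain ⟨A, u, rfl⟩ := qoEl_surj M
  rw [qoBlock_el]
  simp only [qoEl_val]
  constructor
  · rintro rfl
    simp [qoMat]
  · rintro ⟨h0, h1, h2, h3⟩
    simp only [qoMat] at h0 h1 h2 h3
    apply Subtype.ext
    ext i j
    fin_cases i <;> fin_cases j <;> simpa using ‹_›

theorem qo_natural [Finite F] {p : ℕ} [Fact p.Prime] [CharP F p] :
    Cfsg.IsNaturalSL2Module F (Cfsg.pCore p (Cfsg.qdOver F)) (qoB : SL2 F →* Cfsg.qdOver F).range := by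
  have hVn : (Cfsg.pCore p (Cfsg.qdOver F)).Normal := Cfsg.Agent.Lib.Basic.pCore_normal p
  have hmem : ∀ u : Fin 2 → F, qoEl 1 u ∈ Cfsg.pCore p (Cfsg.qdOver F) := by
    intro u
    rw [pCore_qo, MonoidHom.mem_ker, qoBlock_el]
  have hV : ∀ v : Cfsg.pCore p (Cfsg.qdOver F), ∃ u, (v : Cfsg.qdOver F) = qoEl 1 u := by
    rintro ⟨v, hv⟩
    obtain ⟨A, u, rfl⟩ := qoEl_surj v
    rw [pCore_qo, MonoidHom.mem_ker, qoBlock_el] at hv
    subst hv
    exact ⟨u, rfl⟩
  let e₀ : (Fin 2 → F) →+ Additive (Cfsg.pCore p (Cfsg.qdOver F)) :=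
    { toFun := fun u => Additive.ofMul ⟨qoEl 1 u, hmem u⟩
      map_zero' := by
        apply Additive.toMul.injective
        apply Subtype.ext
        exact qoEl_one
      map_add' := fun a b => by
        apply Additive.toMul.injective
        apply Subtype.ext
        show qoEl 1 (a + b) = qoEl 1 a * qoEl 1 b
        rw [qoEl_mul, one_mul]
        congr 1
        rw [Matrix.SpecialLinearGroup.coe_one, Matrix.one_mulVec, add_comm] }
  have he₀ : Function.Bijective e₀ := by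
    constructor
    · intro a b h
      have h2 : qoEl (1 : SL2 F) a = qoEl 1 b := congrArg (fun x : Additive (Cfsg.pCore p (Cfsg.qdOver F)) => ((Additive.toMul x : Cfsg.pCore p (Cfsg.qdOver F)) : Cfsg.qdOver F)) h
      exact (qoEl_inj h2).2
    · intro x
      obtain ⟨u, hu⟩ := hV (Additive.toMul x)
      refine ⟨u, ?_⟩
      apply Additive.toMul.injective
      apply Subtype.ext
      exact hu.symm
  let e := AddEquiv.ofBijective e₀ he₀
  have hesymm : ∀ u, e.symm (Additive.ofMul ⟨qoEl 1 u, hmem u⟩) = u := fun u => e.symm_apply_apply u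
  refine ⟨?_, (qoBlock).comp (qoB : SL2 F →* Cfsg.qdOver F).range.subtype, e.symm, ?_, ?_, ?_⟩
  · haveI := hVn
    rw [Subgroup.normalizer_eq_top]
    exact le_top
  · intro A
    exact ⟨⟨qoB A, ⟨A, rfl⟩⟩, qoBlock_el A 0⟩
  · ext ⟨k, A, hA⟩
    subst hA
    rw [MonoidHom.mem_ker, Subgroup.mem_subgroupOf]
    show qoBlock (qoEl A 0) = 1 ↔ qoEl A 0 ∈ _
    rw [qoBlock_el]
    constructor
    · rintro rfl
      rw [qoEl_one]
      exact Subgroup.one_mem _
    · intro h
      rw [Subgroup.mem_centralizer_iff] at h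
      have h2 : ∀ u, A.1.mulVec u = u := by
        intro u
        have h3 := h (qoEl 1 u) (hmem u)
        rw [qoEl_mul, qoEl_mul] at h3
        have h4 := (qoEl_inj h3).2
        simp only [Matrix.SpecialLinearGroup.coe_one, Matrix.one_mulVec, add_zero, Matrix.mulVec_zero, zero_add] at h4
        exact h4.symm
      apply Subtype.ext
      ext i j
      have h5 := congrFun (h2 (Pi.single j 1)) i
      rw [Matrix.mulVec_single] at h5
      simpa [Matrix.one_apply, Pi.single_apply, eq_comm] using h5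
  · rintro ⟨k, A, rfl⟩ ⟨v, hv⟩
    obtain ⟨u, hu⟩ := hV ⟨v, hv⟩
    simp only at hu
    subst hu
    refine ⟨⟨qoEl 1 (A.1.mulVec u), hmem _⟩, ?_, ?_⟩
    · show qoEl 1 (A.1.mulVec u) = qoEl A 0 * qoEl 1 u * (qoEl A 0)⁻¹
      rw [qoEl_conj]
    · rw [hesymm, hesymm]
      show _ = ((qoBlock (qoEl A 0) : SL2 F) : Matrix (Fin 2) (Fin 2) F).mulVec u
      rw [qoBlock_el]

end Cfsg.Agent.Lib.LocalEven.QdOver
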