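import Cfsg.Agent.Lib.LocalEven.ZJControl
import Cfsg.Agent.S3074

/-! In `Qd(p)`, `p` odd, the subgroup `Z(J(T))` does not control strong fusion. -/

set_option autoImplicit false
set_option linter.unusedSectionVars false
set_option linter.style.haveILetI false

namespace Cfsg.Agent.Lib.LocalEven

open Subgroup Cfsg Cfsg.Agent.Lib.LocalEven2 Cfsg.Agent.Lib.Known
open scoped commutatorElement

universe u

variable {p : ℕ} [Fact p.Prime]

/-- The basis vectors. -/
def qdE₁ (p : ℕ) : QVec p := Multiplicative.ofAdd ![1, 0]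
def qdE₂ (p : ℕ) : QVec p := Multiplicative.ofAdd ![0, 1]

theorem qdT_injective : Function.Injective (qdT (p := p)) := by
  intro a b h
  exact Multiplicative.toAdd.injective (qdEl_inj h).2

theorem card_qdT_range : Nat.card (qdT (p := p)).range = p ^ 2 := by
  rw [Nat.card_congr (MonoidHom.ofInjective (qdT_injective (p := p))).symm.toEquiv,
    Nat.card_congr (Multiplicative.toAdd : QVec p ≃ (Fin 2 → ZMod p)), Nat.card_fun]
  simp

theorem qdB_not_mem_range : qdB (sl2U (1 : ZMod p)) ∉ (qdT (p := p)).range := by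
  rintro ⟨u, hu⟩
  have h1 := (qdEl_inj hu).1
  have h2 : ((1 : SL2 (ZMod p)).1 0 1 : ZMod p) = (sl2U (1 : ZMod p)).1 0 1 := by rw [h1]
  simp at h2

theorem qdT_pow (u : QVec p) : (qdT u) ^ p = 1 := by
  rw [← map_pow]
  have : u ^ p = 1 := by
    apply Multiplicative.toAdd.injective
    show p • (Multiplicative.toAdd u) = 0
    funext i
    simp
  rw [this, map_one]

theorem qdT_comm (u v : QVec p) : qdT u * qdT v = qdT v * qdT u := by
  rw [← map_mul, ← map_mul, mul_comm]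

theorem natAct_U_E₁ : natAct (sl2U (1 : ZMod p)) (qdE₁ p) = qdE₁ p := by
  apply Multiplicative.toAdd.injective
  show (sl2U (1 : ZMod p)).1.mulVec ![1, 0] = ![1, 0]
  funext i
  fin_cases i <;> simp [Matrix.mulVec, dotProduct, Fin.sum_univ_two]

theorem natAct_U_E₂ : natAct (sl2U (1 : ZMod p)) (qdE₂ p) ≠ qdE₂ p := by
  intro h
  have h1 : (sl2U (1 : ZMod p)).1.mulVec ![0, 1] = ![0, 1] := congrArg Multiplicative.toAdd h
  have h2 := congrFun h1 0
  simp [Matrix.mulVec, dotProduct, Fin.sum_univ_two] at h2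

/-- The Thompson centre of the Sylow subgroup of `Qd(p)` containing the unipotent block. -/
theorem qd_zj (hp : p ≠ 2) (T : Sylow p (Cfsg.qd p)) (hg₀ : qdB (sl2U (1 : ZMod p)) ∈ (T : Subgroup (Cfsg.qd p)))
    (e : ℕ) (he : ∀ x ∈ (T : Subgroup (Cfsg.qd p)), x ^ e = 1) :
    qdT (qdE₁ p) ∈ zjZ e (T : Subgroup (Cfsg.qd p)) ∧ qdT (qdE₂ p) ∉ zjZ e (T : Subgroup (Cfsg.qd p)) := by
  classical
  have hpp : p.Prime := Fact.out
  have hcard : Nat.card (T : Subgroup (Cfsg.qd p)) = p ^ 3 := (Cfsg.Agent.S3074.result p hp T).2.1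
  haveI hWn : (qdT (p := p)).range.Normal := qdT_range_normal
  have hWT : (qdT (p := p)).range ≤ (T : Subgroup (Cfsg.qd p)) :=
    Cfsg.Agent.Lib.Basic.normal_pGroup_le_sylow hWn qdT_range_isPGroup T
  obtain ⟨g₀, hg₀def⟩ : ∃ g₀ : Cfsg.qd p, g₀ = qdB (sl2U (1 : ZMod p)) := ⟨_, rfl⟩
  rw [← hg₀def] at hg₀
  have hg₀W : g₀ ∉ (qdT (p := p)).range := hg₀def ▸ qdB_not_mem_range
  -- subgroups of `T` have order a power of `p`
  have hsub : ∀ B : Subgroup (Cfsg.qd p), B ≤ T → ∃ k ≤ 3, Nat.card B = p ^ k := by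
    intro B hB
    have h1 := Subgroup.card_dvd_of_le hB
    rw [hcard] at h1
    exact (Nat.dvd_prime_pow hpp).1 h1
  have hTeq : (T : Subgroup (Cfsg.qd p)) = (qdT (p := p)).range ⊔ zpowers g₀ := by
    have hle : (qdT (p := p)).range ⊔ zpowers g₀ ≤ T := sup_le hWT (Subgroup.zpowers_le.2 hg₀)
    obtain ⟨k, hk3, hk⟩ := hsub _ hle
    have hlt : (qdT (p := p)).range < (qdT (p := p)).range ⊔ zpowers g₀ := by
      refine lt_of_le_of_ne le_sup_left ?_
      intro h
      apply hg₀W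
      rw [h]
      exact (le_sup_right : zpowers g₀ ≤ _) (mem_zpowers g₀)
    have hc := Cfsg.Agent.Lib.OddLocal.card_lt_of_lt hlt
    rw [hk, card_qdT_range] at hc
    have hk' : 2 < k := (Nat.pow_lt_pow_iff_right hpp.one_lt).1 hc
    have hk3' : k = 3 := by omega
    subst hk3'
    exact (Subgroup.eq_of_le_of_card_ge hle (by rw [hcard, hk])).symm
  have hcommE₁g : g₀ * qdT (qdE₁ p) = qdT (qdE₁ p) * g₀ := by
    rw [hg₀def, qdB_conj, natAct_U_E₁]
  have hcent : ∀ x ∈ (T : Subgroup (Cfsg.qd p)), x * qdT (qdE₁ p) = qdT (qdE₁ p) * x := by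
    have hle : (T : Subgroup (Cfsg.qd p)) ≤ centralizer ({qdT (qdE₁ p)} : Set (Cfsg.qd p)) := by
      rw [hTeq]
      refine sup_le ?_ ?_
      · rintro _ ⟨u, rfl⟩
        rw [Subgroup.mem_centralizer_iff]
        intro h hh
        rw [Set.mem_singleton_iff.1 hh]
        exact qdT_comm _ _
      · rw [Subgroup.zpowers_le, Subgroup.mem_centralizer_iff]
        intro h hh
        rw [Set.mem_singleton_iff.1 hh]
        exact hcommE₁g.symm
    intro x hx
    have h1 := Subgroup.mem_centralizer_iff.1 (hle hx) _ (Set.mem_singleton _)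
    exact h1.symm
  have hE₁T : qdT (qdE₁ p) ∈ (T : Subgroup (Cfsg.qd p)) := hWT ⟨_, rfl⟩
  have hE₂T : qdT (qdE₂ p) ∈ (T : Subgroup (Cfsg.qd p)) := hWT ⟨_, rfl⟩
  refine ⟨mem_zjZ_of_central hE₁T (he _ hE₁T) hcent, ?_⟩
  intro hz
  -- the family
  obtain ⟨A₁, hA₁def⟩ : ∃ A₁ : Subgroup (Cfsg.qd p), A₁ = Subgroup.closure ({qdT (qdE₁ p), g₀} : Set (Cfsg.qd p)) := ⟨_, rfl⟩
  have hE₁A : qdT (qdE₁ p) ∈ A₁ := hA₁def ▸ Subgroup.subset_closure (Set.mem_insert _ _)
  have hgA : g₀ ∈ A₁ := hA₁def ▸ Subgroup.subset_closure (Set.mem_insert_of_mem _ rfl)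
  have hA₁T : A₁ ≤ T := by
    rw [hA₁def, Subgroup.closure_le]
    rintro x (rfl | hx)
    · exact hE₁T
    · rw [Set.mem_singleton_iff.1 hx]
      exact hg₀
  have hA₁c : ∀ a ∈ A₁, ∀ b ∈ A₁, a * b = b * a := by
    rw [hA₁def]
    apply comm_of_closure'
    rintro a (rfl | ha) b (rfl | hb)
    · rfl
    · rw [Set.mem_singleton_iff.1 hb]
      exact hcommE₁g.symm
    · rw [Set.mem_singleton_iff.1 ha]
      exact hcommE₁g
    · rw [Set.mem_singleton_iff.1 ha, Set.mem_singleton_iff.1 hb]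
  have hcardA : p ^ 2 ≤ Nat.card A₁ := by
    obtain ⟨k, -, hk⟩ := hsub _ hA₁T
    have hE₁1 : qdT (qdE₁ p) ≠ 1 := by
      intro h
      have h1 : qdE₁ p = 1 := qdT_injective (h.trans (map_one _).symm)
      have h2 : (![1, 0] : Fin 2 → ZMod p) = 0 := congrArg Multiplicative.toAdd h1
      have h3 := congrFun h2 0
      simp at h3
    have hord : orderOf (qdT (qdE₁ p)) = p := orderOf_eq_prime (qdT_pow _) hE₁1
    have hlt : zpowers (qdT (qdE₁ p)) < A₁ := by
      refine lt_of_le_of_ne (Subgroup.zpowers_le.2 hE₁A) ?_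
      intro h
      apply hg₀W
      have h1 : g₀ ∈ zpowers (qdT (qdE₁ p)) := by rw [h]; exact hgA
      have h2 : zpowers (qdT (qdE₁ p)) ≤ (qdT (p := p)).range := Subgroup.zpowers_le.2 ⟨_, rfl⟩
      exact h2 h1
    have hc := Cfsg.Agent.Lib.OddLocal.card_lt_of_lt hlt
    rw [Nat.card_zpowers, hord, hk] at hc
    have h1 : 1 < k := by
      have := (Nat.pow_lt_pow_iff_right hpp.one_lt (n := 1) (m := k)).1 (by simpa using hc)
      exact this
    rw [hk]
    exact Nat.pow_le_pow_right hpp.pos h1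
  have hnc : ¬ ∀ a ∈ (T : Subgroup (Cfsg.qd p)), ∀ b ∈ (T : Subgroup (Cfsg.qd p)), a * b = b * a := by
    intro h
    have h1 := h _ hg₀ _ hE₂T
    rw [hg₀def, qdB_conj] at h1
    have h2 := mul_right_cancel h1
    exact natAct_U_E₂ (qdT_injective h2)
  have hfam : A₁ ∈ zjFam e (T : Subgroup (Cfsg.qd p)) := by
    refine ⟨hA₁T, hA₁c, fun a ha => he a (hA₁T ha), ?_⟩
    intro B hB hBc _
    obtain ⟨k, hk3, hk⟩ := hsub B hB
    refine le_trans ?_ hcardA
    rw [hk]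
    apply Nat.pow_le_pow_right hpp.pos
    by_contra hcon
    have hk3' : k = 3 := by omega
    subst hk3'
    have hBT : B = T := Subgroup.eq_of_le_of_card_ge hB (by rw [hcard, hk])
    exact hnc (hBT ▸ hBc)
  have hgJ : g₀ ∈ zjJ e (T : Subgroup (Cfsg.qd p)) := le_zjJ hfam hgA
  have h5 := Subgroup.mem_centralizer_iff.1 (mem_zjZ.1 hz).2.1 g₀ hgJ
  rw [hg₀def, qdB_conj] at h5
  have h6 := mul_right_cancel h5
  exact natAct_U_E₂ (qdT_injective h6)

/-- The Thompson centre in a group isomorphic to `Qd(p)` does not control strong fusion. -/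
theorem not_controls_of_equiv (hp : p ≠ 2) {X : Type*} [Group X] [Finite X] (eq : X ≃* Cfsg.qd p) :
    ∃ T : Sylow p X, ¬ ControlsStrongFusion p (centerThompsonAOf (T : Subgroup X)) := by
  classical
  have hpp : p.Prime := Fact.out
  let f : Cfsg.qd p →* X := eq.symm.toMonoidHom
  have hf : Function.Surjective f := eq.symm.surjective
  have hfi : Function.Injective f := eq.symm.injective
  -- a Sylow subgroup containing the unipotent block
  have hzp : IsPGroup p (zpowers (qdB (sl2U (1 : ZMod p)))) := by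
    apply Cfsg.Agent.Lib.LocalEven2.isPGroup_zpowers
    refine ⟨1, ?_⟩
    rw [pow_one]
    apply orderOf_eq_prime
    · rw [← map_pow, sl2U_pow]
      simp
    · intro h
      have h1 : qdB (sl2U (1 : ZMod p)) = qdB 1 := by rw [h, map_one]
      have h2 := (qdEl_inj h1).1
      have h3 : (sl2U (1 : ZMod p)).1 0 1 = (1 : SL2 (ZMod p)).1 0 1 := by rw [h2]
      simp at h3
  obtain ⟨T₀, hT₀⟩ := hzp.exists_le_sylow
  have hg₀ : qdB (sl2U (1 : ZMod p)) ∈ (T₀ : Subgroup (Cfsg.qd p)) := hT₀ (mem_zpowers _)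
  obtain ⟨T, hT⟩ : ∃ T : Sylow p X, (T : Subgroup X) = (T₀ : Subgroup (Cfsg.qd p)).map f :=
    ⟨T₀.mapSurjective hf, Sylow.coe_mapSurjective _ _⟩
  refine ⟨T, ?_⟩
  rintro ⟨T₁, hU, hctrl⟩
  obtain ⟨e, hedef⟩ : ∃ e : ℕ, e = Nat.card X := ⟨_, rfl⟩
  have hUe : centerThompsonAOf (T : Subgroup X) = (zjZ e (T₀ : Subgroup (Cfsg.qd p))).map f := by
    rw [centerThompsonA_eq (T : Subgroup X) (e := e) (fun x _ => hedef ▸ pow_card_eq_one'), zjZ_map hfi, hT]
  have he : ∀ x ∈ (T₀ : Subgroup (Cfsg.qd p)), x ^ e = 1 := by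
    intro x _
    apply hfi
    rw [map_pow, map_one, hedef]
    exact pow_card_eq_one'
  obtain ⟨h1, h2⟩ := qd_zj hp T₀ hg₀ e he
  rw [hUe] at hctrl
  -- the four-group of translations in `X`
  haveI hWn : (qdT (p := p)).range.Normal := qdT_range_normal
  obtain ⟨W, hWdef⟩ : ∃ W : Subgroup X, W = (qdT (p := p)).range.map f := ⟨_, rfl⟩
  have hWN : W.Normal := hWdef ▸ hWn.map f hf
  have hWT : W ≤ T₁ := Cfsg.Agent.Lib.Basic.normal_pGroup_le_sylow hWN (hWdef ▸ qdT_range_isPGroup.map f) T₁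
  have hc := (hctrl (W : Set X) hWT).2
  let S' : SL2 (ZMod p) := sl2Mk 0 (-1) 1 0 (by ring)
  obtain ⟨x, hx, hxa⟩ := hc (f (qdB S')) (by
    rintro _ ⟨a, ha, rfl⟩
    exact hWT (hWN.conj_mem a ha _))
  have hE₁W : f (qdT (qdE₁ p)) ∈ W := by
    rw [hWdef]
    exact ⟨_, ⟨_, rfl⟩, rfl⟩
  have h3 := hxa _ hE₁W
  have h4 : f (qdB S') * f (qdT (qdE₁ p)) * (f (qdB S'))⁻¹ = f (qdT (qdE₂ p)) := by
    rw [← map_mul, ← map_inv, ← map_mul, qdB_conj, mul_inv_cancel_right]
    congr 2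
    apply Multiplicative.toAdd.injective
    show S'.1.mulVec ![1, 0] = ![0, 1]
    funext i
    fin_cases i <;> simp [S', sl2Mk, Matrix.mulVec, dotProduct, Fin.sum_univ_two]
  rw [h4] at h3
  have h5 : x * f (qdT (qdE₁ p)) * x⁻¹ ∈ (zjZ e (T₀ : Subgroup (Cfsg.qd p))).map f :=
    (Subgroup.mem_normalizer_iff.1 hx _).1 ⟨_, h1, rfl⟩
  rw [← h3] at h5
  obtain ⟨y, hy, hye⟩ := h5
  have h6 : y = qdT (qdE₂ p) := hfi hye
  rw [h6] at hy
  exact h2 hy

/-- **`Qd(p)` is not involved if and only if `Z(J)` controls strong fusion in every section.** -/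
theorem noQd_iff_sections_control (hp : p ≠ 2) {G : Type*} [Group G] [Finite G] :
    ¬ Involves (Cfsg.qd p) G ↔
      ∀ (K R : Subgroup G) [hR : (R.subgroupOf K).Normal], ∀ T : Sylow p (K ⧸ R.subgroupOf K),
        ControlsStrongFusion p (centerThompsonAOf (T : Subgroup (K ⧸ R.subgroupOf K))) := by
  constructor
  · intro h K R hR T
    have hno : NoQd p (K ⧸ R.subgroupOf K) := fun h1 =>
      h (Cfsg.Agent.Lib.Fusion.Qd.involves_of_subgroup K (Cfsg.Agent.Lib.Fusion.Qd.involves_of_quotient _ h1))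
    have hsc : IsStronglyClosed (T : Subgroup (K ⧸ R.subgroupOf K)) (T : Subgroup (K ⧸ R.subgroupOf K)) :=
      ⟨le_rfl, fun x _ g hg => hg⟩
    refine ⟨T, ?_, (noQd_control hp hno T _ hsc).1⟩
    rw [centerThompsonA_eq (T : Subgroup (K ⧸ R.subgroupOf K)) (e := Nat.card (K ⧸ R.subgroupOf K))
      (fun x _ => pow_card_eq_one')]
    exact zjZ_le
  · rintro h ⟨K, R, hR, ⟨e⟩⟩
    haveI := hR
    obtain ⟨T, hT⟩ := not_controls_of_equiv hp e
    exact hT (h K R T)

end Cfsg.Agent.Lib.LocalEven
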