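import Mathlib
import Cfsg.Prelude.Def_Transfer
import Cfsg.Agent.Lib.Transfer.Frattini
import Cfsg.Agent.Lib.Components.Signal
import Cfsg.Agent.Lib.Components.QuatQuot
import Cfsg.Agent.Lib.OddLocal.UniqueP2
import Cfsg.Agent.Lib.Char.GagolaSolv
import Cfsg.Agent.Lib.Perm.RegQ8
import Cfsg.Agent.Lib.Coprime.Partition
import Cfsg.Agent.Lib.Coprime.Extraspecial
import Cfsg.Agent.Lib.LocalEven.ElemAut

/-!
Abelian groups of automorphisms of a 2-group, in which each nontrivial element fixes at most one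
involution.
-/

set_option autoImplicit false
set_option linter.unusedSectionVars false
set_option linter.style.haveILetI false

namespace Cfsg.Agent.Lib.LocalEven.QuatAct

open scoped commutatorElement
open Subgroup
open QuaternionGroup

section QuatFacts

local notation "Q8" => QuaternionGroup 2

set_option maxRecDepth 100000 in
theorem q8_invol : ∀ g : Q8, g * g = 1 → g = 1 ∨ g = a 2 := by decide

set_option maxRecDepth 100000 in
theorem q8_sq : ∀ g : Q8, g * g = 1 ∨ g * g = a 2 := by decide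

set_option maxRecDepth 100000 in
theorem q8_a2_invol : (a 2 : Q8) * a 2 = 1 := by decide

set_option maxRecDepth 100000 in
theorem q8_a2_ne : (a 2 : Q8) ≠ 1 := by decide

set_option maxRecDepth 100000 in
theorem q8_center : ∀ g : Q8, (∀ u : Q8, u * g = g * u) → g = 1 ∨ g = a 2 := by decide

set_option maxRecDepth 100000 in
theorem q8_a2_center : ∀ u : Q8, u * a 2 = a 2 * u := by decide

set_option maxRecDepth 100000 in
theorem q8_noncomm : ∀ x y : Q8, x ≠ 1 → x ≠ a 2 → y ≠ 1 → y ≠ a 2 → y ≠ x → y ≠ x⁻¹ → x * y ≠ y * x := by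
  decide

set_option maxRecDepth 100000 in
theorem q8_sq_ne : ∀ x : Q8, x ≠ 1 → x ≠ a 2 → x * x = a 2 := by decide

theorem q8_card : Nat.card Q8 = 8 := by
  rw [Nat.card_eq_fintype_card, QuaternionGroup.card]

theorem q8_order (x : Q8) (h1 : x ≠ 1) (h2 : x ≠ a 2) : orderOf x = 2 ^ 2 := by
  apply orderOf_eq_prime_pow (p := 2) (n := 1)
  · rw [pow_one, pow_two, q8_sq_ne x h1 h2]
    exact q8_a2_ne
  · have : (2 : ℕ) ^ (1 + 1) = 2 + 2 := rfl
    rw [this, pow_add, pow_two, q8_sq_ne x h1 h2, q8_a2_invol]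

/-- A `3`-automorphism of `Q₈` fixing an element of order `4` is trivial. -/
theorem q8_fix (φ : MulAut Q8) {k : ℕ} (hφ : φ ^ 3 ^ k = 1) (x : Q8) (h1 : x ≠ 1) (h2 : x ≠ a 2)
    (hx : φ x = x) : φ = 1 := by
  classical
  haveI : Fact (Nat.Prime 3) := ⟨Nat.prime_three⟩
  let f : Function.End Q8 := (φ : Q8 → Q8)
  have hf : ∀ m : ℕ, (f ^ m : Function.End Q8) = ((φ ^ m : MulAut Q8) : Q8 → Q8) := by
    intro m
    induction m with
    | zero => rfl
    | succ m ih =>
      rw [pow_succ, pow_succ, Function.End.mul_def, ih]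
      funext g
      rfl
  have hfp : f ^ 3 ^ k = 1 := by
    rw [hf, hφ]
    rfl
  have hmod := Equiv.Perm.card_fixedPoints_modEq (f := f) (p := 3) (n := k) hfp
  let Fx : Subgroup Q8 :=
    { carrier := {g | φ g = g}
      mul_mem' := fun {a b} ha hb => by
        show φ (a * b) = a * b
        rw [map_mul, show φ a = a from ha, show φ b = b from hb]
      one_mem' := by
        show φ 1 = 1
        rw [map_one]
      inv_mem' := fun {a} ha => by
        show φ a⁻¹ = a⁻¹
        rw [map_inv, show φ a = a from ha] }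
  have hFxcard : Fintype.card (Function.fixedPoints f) = Nat.card Fx := by
    rw [← Nat.card_eq_fintype_card]
    rfl
  rw [hFxcard] at hmod
  have hd : Nat.card Fx ∣ 8 := by
    rw [← q8_card]
    exact Subgroup.card_subgroup_dvd_card Fx
  have h4 : 4 ∣ Nat.card Fx := by
    have h5 : zpowers x ≤ Fx := zpowers_le.mpr hx
    have h6 := Subgroup.card_dvd_of_le h5
    rw [Nat.card_zpowers, q8_order x h1 h2] at h6
    exact h6
  have hcQ : Fintype.card Q8 = 8 := by rw [QuaternionGroup.card]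
  rw [hcQ] at hmod
  have h8 : Nat.card Fx = 8 := by
    have hle : Nat.card Fx ≤ 8 := Nat.le_of_dvd (by norm_num) hd
    obtain ⟨c, hc⟩ := h4
    have hc0 : c ≠ 0 := by
      rintro rfl
      rw [hc] at hd
      simp at hd
    have hc2 : c = 1 ∨ c = 2 := by omega
    rcases hc2 with rfl | rfl
    · exfalso
      rw [hc] at hmod
      revert hmod
      decide
    · rw [hc]
  have htop : Fx = ⊤ := by
    rw [← Subgroup.card_eq_iff_eq_top, h8, q8_card]
  ext g
  have hg : g ∈ Fx := by rw [htop]; trivial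
  exact hg

/-- `3`-automorphisms of `Q₈` have order dividing `3`. -/
theorem q8_cube (φ : MulAut Q8) {k : ℕ} (hφ : φ ^ 3 ^ k = 1) : φ ^ 3 = 1 := by
  have h1 : orderOf φ ∣ 3 ^ k := orderOf_dvd_of_pow_eq_one hφ
  obtain ⟨j, -, hj⟩ := (Nat.dvd_prime_pow Nat.prime_three).mp h1
  have h2 : orderOf φ ∣ 24 :=
    (orderOf_dvd_natCard φ).trans Cfsg.Agent.Lib.Perm.rq_q8_aut_dvd
  have h3 : j ≤ 1 := by
    by_contra hj2
    have h4 : 3 ^ 2 ∣ orderOf φ := by
      rw [hj]
      exact pow_dvd_pow 3 (by omega)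
    have h5 := h4.trans h2
    revert h5
    decide
  apply orderOf_dvd_iff_pow_eq_one.mp
  rw [hj]
  have h5 : 3 ^ j ∣ 3 ^ 1 := pow_dvd_pow 3 h3
  simpa using h5

/-- A non-trivial `3`-automorphism of `Q₈` moves every element of order `4` to an element not
commuting with it. -/
theorem q8_comm (φ : MulAut Q8) {k : ℕ} (hφ : φ ^ 3 ^ k = 1) (hne : φ ≠ 1) (x : Q8) (h1 : x ≠ 1)
    (h2 : x ≠ a 2) : x * φ x ≠ φ x * x := by
  have hz : φ (a 2) = a 2 := by
    rcases q8_invol (φ (a 2)) (by rw [← map_mul, q8_a2_invol, map_one]) with h | h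
    · exfalso
      apply q8_a2_ne
      apply φ.injective
      rw [h, map_one]
    · exact h
  apply q8_noncomm x (φ x) h1 h2
  · intro h
    exact h1 (φ.injective (by rw [h, map_one]))
  · intro h
    exact h2 (φ.injective (by rw [h, hz]))
  · intro h
    exact hne (q8_fix φ hφ x h1 h2 h)
  · intro h
    have h3 : (φ * φ) x = x := by
      rw [MulAut.mul_apply, h, map_inv, h, inv_inv]
    have h4 : (φ * φ) ^ 3 ^ k = 1 := by
      rw [← pow_two, ← pow_mul, mul_comm, pow_mul, hφ, one_pow]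
    have h5 := q8_fix (φ * φ) h4 x h1 h2 h3
    have h6 : orderOf φ ∣ 2 := orderOf_dvd_of_pow_eq_one (by rw [pow_two]; exact h5)
    have h7 : orderOf φ ∣ 3 ^ k := orderOf_dvd_of_pow_eq_one hφ
    have h8 : orderOf φ = 1 := Nat.Coprime.eq_one_of_dvd
      (Nat.Coprime.coprime_dvd_left h6 (by
        apply Nat.Coprime.pow_right
        decide)) h7
    exact hne (orderOf_eq_one_iff.mp h8)

end QuatFacts

section Setup

variable {W : Type*} [Group W]

/-- Fixed points of an automorphism. -/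
def Fx (a : MulAut W) : Subgroup W where
  carrier := {x | a x = x}
  mul_mem' := fun {x y} hx hy => by
    show a (x * y) = x * y
    rw [map_mul, show a x = x from hx, show a y = y from hy]
  one_mem' := by
    show a 1 = 1
    rw [map_one]
  inv_mem' := fun {x} hx => by
    show a x⁻¹ = x⁻¹
    rw [map_inv, show a x = x from hx]

theorem mem_Fx {a : MulAut W} {x : W} : x ∈ Fx a ↔ a x = x := Iff.rfl

/-- Restriction of a commuting automorphism to the fixed points. -/
def resFx (a f : MulAut W) (h : a * f = f * a) : MulAut ↥(Fx a) where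
  toFun x := ⟨f x, by
    have h1 := DFunLike.congr_fun h (x : W)
    rw [MulAut.mul_apply, MulAut.mul_apply, show a (x : W) = x from x.2] at h1
    exact h1⟩
  invFun x := ⟨f⁻¹ x, by
    have h1 : a * f⁻¹ = f⁻¹ * a := by
      rw [mul_inv_eq_iff_eq_mul, mul_assoc, h, inv_mul_cancel_left]
    have h2 := DFunLike.congr_fun h1 (x : W)
    rw [MulAut.mul_apply, MulAut.mul_apply, show a (x : W) = x from x.2] at h2
    exact h2⟩
  left_inv x := by
    apply Subtype.ext
    simp
  right_inv x := by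
    apply Subtype.ext
    simp
  map_mul' x y := by
    apply Subtype.ext
    simp

theorem resFx_val (a f : MulAut W) (h : a * f = f * a) (x : ↥(Fx a)) :
    ((resFx a f h x : ↥(Fx a)) : W) = f x := rfl

theorem resFx_pow (a f : MulAut W) (h : a * f = f * a) (n : ℕ) (x : ↥(Fx a)) :
    (((resFx a f h) ^ n) x : W) = (f ^ n) x := by
  induction n generalizing x with
  | zero => rfl
  | succ n ih =>
    rw [pow_succ, pow_succ, MulAut.mul_apply, ih, MulAut.mul_apply, resFx_val]

theorem resFx_eq_one_iff (a f : MulAut W) (h : a * f = f * a) :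
    resFx a f h = 1 ↔ ∀ x, a x = x → f x = x := by
  constructor
  · intro h1 x hx
    have h2 := DFunLike.congr_fun h1 (⟨x, hx⟩ : ↥(Fx a))
    exact congrArg Subtype.val h2
  · intro h1
    apply MulEquiv.ext
    intro x
    apply Subtype.ext
    exact h1 x x.2

/-- Generation by fixed points of non-identity elements, for an elementary group of rank `2`. -/
theorem gen_le [Finite W] {p : ℕ} [Fact p.Prime] (A : Subgroup (MulAut W))
    (hA : Cfsg.IsElementaryAbelian p A) (hcard : Nat.card A = p ^ 2) (V : Subgroup W)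
    (hV : ∀ a ∈ A, ∀ x ∈ V, a x ∈ V) (hc : ¬ p ∣ Nat.card V) (S : Subgroup W)
    (h : ∀ a ∈ A, a ≠ 1 → ∀ x ∈ V, a x = x → x ∈ S) : V ≤ S := by
  classical
  have hp : p.Prime := Fact.out
  let φ : MulAut W →* MulAut W := MonoidHom.id _
  let inl : W →* W ⋊[φ] MulAut W := SemidirectProduct.inl
  let inr : MulAut W →* W ⋊[φ] MulAut W := SemidirectProduct.inr
  have hinl : Function.Injective inl := SemidirectProduct.inl_injective
  have hinr : Function.Injective inr := SemidirectProduct.inr_injective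
  haveI : Finite (W ⋊[φ] MulAut W) := Finite.of_equiv _ SemidirectProduct.equivProd.symm
  let X : Subgroup (W ⋊[φ] MulAut W) := V.map inl
  let A' : Subgroup (W ⋊[φ] MulAut W) := A.map inr
  have hconj : ∀ (a : MulAut W) (x : W), inr a * inl x * (inr a)⁻¹ = inl (a x) := by
    intro a x
    rw [← map_inv]
    exact (SemidirectProduct.inl_aut (φ := φ) a x).symm
  have hA' : Cfsg.IsElementaryAbelian p A' := by
    constructor
    · refine ⟨⟨?_⟩⟩
      rintro ⟨_, a, ha, rfl⟩ ⟨_, b, hb, rfl⟩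
      apply Subtype.ext
      change inr a * inr b = inr b * inr a
      rw [← map_mul, ← map_mul, Cfsg.Agent.Lib.Components.ea_comm hA ha hb]
    · rintro _ ⟨a, ha, rfl⟩
      rw [← map_pow, hA.2 a ha, map_one]
  have hcardX : Nat.card X = Nat.card V :=
    (Nat.card_congr (Subgroup.equivMapOfInjective V _ hinl).toEquiv).symm
  have hcardA' : Nat.card A' = p ^ 2 := by
    rw [← hcard]
    exact (Nat.card_congr (Subgroup.equivMapOfInjective A _ hinr).toEquiv).symm
  have hXc : ¬ p ∣ Nat.card X := by rwa [hcardX]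
  have hAX : A' ≤ normalizer (X : Set (W ⋊[φ] MulAut W)) := by
    rintro _ ⟨a, ha, rfl⟩
    rw [mem_normalizer_iff]
    intro y
    constructor
    · rintro ⟨x, hx, rfl⟩
      change inr a * inl x * (inr a)⁻¹ ∈ X
      rw [hconj]
      exact ⟨a x, hV a ha x hx, rfl⟩
    · rintro ⟨x, hx, he⟩
      have h1 : y = inr a⁻¹ * inl x * (inr a⁻¹)⁻¹ := by
        change inl x = inr a * y * (inr a)⁻¹ at he
        rw [he, map_inv]
        group
      rw [h1, hconj]
      exact ⟨a⁻¹ x, hV a⁻¹ (A.inv_mem ha) x hx, rfl⟩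
  have hle := Cfsg.Agent.Lib.Components.le_iSup_centralizer_hyperplane hA' hXc hAX
  have hle2 : X ≤ S.map inl := by
    refine hle.trans (iSup_le ?_)
    rintro ⟨B, hBA, hBi⟩
    rintro y ⟨⟨v, hv, rfl⟩, hyc⟩
    rcases Subgroup.bot_or_exists_ne_one B with hB | ⟨b, hb, hb1⟩
    · exfalso
      rw [hB, Subgroup.relIndex_bot_left, hcardA'] at hBi
      have h2 := hp.two_le
      nlinarith
    · obtain ⟨a, ha, rfl⟩ := hBA hb
      have ha1 : a ≠ 1 := fun h1 => hb1 (by rw [h1, map_one])
      have h3 : inr a * inl v * (inr a)⁻¹ = inl v := by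
        have h4 := mem_centralizer_iff.mp hyc (inr a) hb
        change inr a * inl v = inl v * inr a at h4
        rw [h4, mul_inv_cancel_right]
      rw [hconj] at h3
      have h4 : a v = v := hinl h3
      exact ⟨v, h a ha ha1 v hv h4, rfl⟩
  intro v hv
  obtain ⟨s, hs, he⟩ := hle2 (⟨v, hv, rfl⟩ : inl v ∈ X)
  rw [← hinl he]
  exact hs

end Setup

section Main

variable {W : Type*} [Group W] [Finite W] {p : ℕ} [Fact p.Prime]

local notation "Q8" => QuaternionGroup 2

/-- The hypotheses. -/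
structure QA (p : ℕ) (E : Subgroup (MulAut W)) : Prop where
  hW : IsPGroup 2 W
  hp : p ≠ 2
  hE : IsPGroup p ↥E
  hab : IsMulCommutative ↥E
  hfix : ∀ e ∈ E, e ≠ 1 → ∀ x y : W, orderOf x = 2 → orderOf y = 2 → e x = x → e y = y → x = y

/-- An elementary subgroup of rank two. -/
structure El (p : ℕ) (E A : Subgroup (MulAut W)) : Prop where
  le : A ≤ E
  ea : Cfsg.IsElementaryAbelian p A
  card : Nat.card A = p ^ 2

namespace QA

variable {E A : Subgroup (MulAut W)} (h : QA p E)

include h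

theorem comm {a f : MulAut W} (ha : a ∈ E) (hf : f ∈ E) : a * f = f * a :=
  congrArg Subtype.val (h.hab.is_comm.comm ⟨a, ha⟩ ⟨f, hf⟩)

theorem pow_eq {f : MulAut W} (hf : f ∈ E) : ∃ k : ℕ, f ^ p ^ k = 1 := by
  obtain ⟨k, hk⟩ := h.hE ⟨f, hf⟩
  exact ⟨k, congrArg Subtype.val hk⟩

theorem not_dvd (V : Subgroup W) : ¬ p ∣ Nat.card V := by
  haveI : Fact (Nat.Prime 2) := ⟨Nat.prime_two⟩
  have hp : p.Prime := Fact.out
  obtain ⟨n, hn⟩ := IsPGroup.iff_card.mp (h.hW.to_subgroup V)
  rw [hn]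
  intro hd
  have h2 := hp.dvd_of_dvd_pow hd
  exact h.hp ((Nat.prime_dvd_prime_iff_eq hp Nat.prime_two).mp h2)

theorem exists_z (hA : El p E A) : ∃ z : W, orderOf z = 2 ∧ z ∈ center W ∧ ∀ e ∈ E, e z = z := by
  classical
  haveI : Fact (Nat.Prime 2) := ⟨Nat.prime_two⟩
  have hp : p.Prime := Fact.out
  let V : Subgroup W :=
    { carrier := {x | x ∈ center W ∧ x * x = 1}
      mul_mem' := fun {x y} hx hy => by
        refine ⟨mul_mem hx.1 hy.1, ?_⟩
        have h1 : y * x = x * y := (mem_center_iff.mp hx.1 y)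
        calc x * y * (x * y) = x * (y * x) * y := by group
          _ = x * (x * y) * y := by rw [h1]
          _ = (x * x) * (y * y) := by group
          _ = 1 := by rw [hx.2, hy.2, one_mul]
      one_mem' := ⟨one_mem _, one_mul 1⟩
      inv_mem' := fun {x} hx => by
        refine ⟨inv_mem hx.1, ?_⟩
        rw [← mul_inv_rev, hx.2, inv_one] }
  have hVinv : ∀ e : MulAut W, ∀ x ∈ V, e x ∈ V := by
    intro e x hx
    refine ⟨?_, by rw [← map_mul, hx.2, map_one]⟩
    exact Cfsg.Agent.Lib.LocalEven.ElemAut.char_stable (center W) e x hx.1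
  have hnt : Nontrivial W := by
    by_contra hnt
    rw [not_nontrivial_iff_subsingleton] at hnt
    have h1 : ∀ a ∈ A, a = 1 := by
      intro a _
      apply MulEquiv.ext
      intro x
      exact Subsingleton.elim _ _
    have h2 : A = ⊥ := by
      rw [eq_bot_iff]
      intro a ha
      exact h1 a ha
    have h3 := hA.card
    rw [h2, Subgroup.card_bot] at h3
    have h4 := hp.two_le
    nlinarith
  haveI : Nontrivial (center W) := h.hW.center_nontrivial
  obtain ⟨y, hy⟩ : ∃ y : center W, orderOf y = 2 := by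
    have h1 : 2 ∣ Nat.card (center W) := by
      obtain ⟨n, hn⟩ := IsPGroup.iff_card.mp (h.hW.to_subgroup (center W))
      rw [hn]
      have hn0 : n ≠ 0 := by
        rintro rfl
        rw [pow_zero] at hn
        have := Finite.one_lt_card (α := center W)
        omega
      exact dvd_pow_self 2 hn0
    exact exists_prime_orderOf_dvd_card' 2 h1
  have hyV : (y : W) ∈ V := by
    refine ⟨y.2, ?_⟩
    rw [← pow_two, ← Subgroup.coe_pow, ← hy, pow_orderOf_eq_one]
    rfl
  have hy1 : (y : W) ≠ 1 := by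
    intro h1
    have : y = 1 := Subtype.ext h1
    rw [this, orderOf_one] at hy
    omega
  have hex : ∃ a ∈ A, a ≠ 1 ∧ ∃ x ∈ V, a x = x ∧ x ≠ 1 := by
    by_contra hno
    push Not at hno
    have hle := gen_le A hA.ea hA.card V (fun a _ x hx => hVinv a x hx) (h.not_dvd V) ⊥
      (fun a ha ha1 x hx hax => by
        rw [mem_bot]
        exact hno a ha ha1 x hx hax)
    exact hy1 (mem_bot.mp (hle hyV))
  obtain ⟨a, ha, ha1, x, hx, hax, hx1⟩ := hex
  have hord : ∀ w ∈ V, w ≠ 1 → orderOf w = 2 := by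
    intro w hw hw1
    apply orderOf_eq_prime
    · rw [pow_two]
      exact hw.2
    · exact hw1
  refine ⟨x, hord x hx hx1, hx.1, fun e he => ?_⟩
  apply h.hfix a (hA.le ha) ha1
  · exact hord _ (hVinv e x hx) (fun h1 => hx1 (e.injective (by rw [h1, map_one])))
  · exact hord x hx hx1
  · have h1 := DFunLike.congr_fun (h.comm (hA.le ha) he) x
    rw [MulAut.mul_apply, MulAut.mul_apply, hax] at h1
    exact h1
  · exact hax


/-- Fixed points form a cyclic or quaternion group. -/
theorem Fx_cases {z : W} (hz : orderOf z = 2) (hzE : ∀ e ∈ E, e z = z) {a : MulAut W} (ha : a ∈ E)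
    (ha1 : a ≠ 1) : IsCyclic (Fx a) ∨ ∃ n : ℕ, Nonempty (Fx a ≃* QuaternionGroup (2 ^ n)) := by
  apply Cfsg.Agent.Lib.OddLocal.cyclic_or_quaternion (h.hW.to_subgroup _)
  apply Cfsg.Agent.Lib.Components.uniqueP_of_existsUnique
  refine ⟨⟨z, mem_Fx.mpr (hzE a ha)⟩, ?_, ?_⟩
  · change orderOf (⟨z, mem_Fx.mpr (hzE a ha)⟩ : Fx a) = 2
    rw [Subgroup.orderOf_mk]
    exact hz
  · rintro ⟨x, hx⟩ hxo
    apply Subtype.ext
    rw [Subgroup.orderOf_mk] at hxo
    exact h.hfix a ha ha1 x z hxo hz hx (hzE a ha)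

/-- If `f` acts nontrivially on the fixed points of `a`, then `p = 3` and the fixed points form
a quaternion group of order `8`. -/
theorem dich {z : W} (hz : orderOf z = 2) (hzE : ∀ e ∈ E, e z = z) {a f : MulAut W} (ha : a ∈ E)
    (ha1 : a ≠ 1) (hf : f ∈ E) (hne : resFx a f (h.comm ha hf) ≠ 1) :
    p = 3 ∧ Nonempty (Fx a ≃* Q8) := by
  classical
  haveI : Fact (Nat.Prime 2) := ⟨Nat.prime_two⟩
  have hp : p.Prime := Fact.out
  obtain ⟨k, hk⟩ := h.pow_eq hf
  set φ := resFx a f (h.comm ha hf) with hφ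
  have hφk : φ ^ p ^ k = 1 := by
    apply MulEquiv.ext
    intro x
    apply Subtype.ext
    rw [hφ, resFx_pow, hk]
    rfl
  rcases h.Fx_cases hz hzE ha ha1 with hc | ⟨n, ⟨e⟩⟩
  · exfalso
    apply hne
    obtain ⟨m, hm⟩ := IsPGroup.iff_card.mp (h.hW.to_subgroup (Fx a))
    have h1 : Nat.card (MulAut (Fx a)) = Nat.totient (Nat.card (Fx a)) := IsCyclic.card_mulAut (G := Fx a)
    have h2 : orderOf φ ∣ Nat.totient (2 ^ m) := by
      rw [← hm, ← h1]
      exact orderOf_dvd_natCard φ
    have h3 : ∀ m : ℕ, ∃ j, Nat.totient (2 ^ m) = 2 ^ j := by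
      intro m
      rcases m with _ | m
      · exact ⟨0, by simp⟩
      · exact ⟨m, by rw [Nat.totient_prime_pow Nat.prime_two (Nat.succ_pos m)]; simp⟩
    obtain ⟨j, hj⟩ := h3 m
    rw [hj] at h2
    have h4 : orderOf φ ∣ p ^ k := orderOf_dvd_of_pow_eq_one hφk
    have h5 : Nat.Coprime (2 ^ j) (p ^ k) := by
      apply Nat.Coprime.pow
      exact (Nat.coprime_primes Nat.prime_two hp).mpr (Ne.symm h.hp)
    have h6 := Nat.Coprime.eq_one_of_dvd (Nat.Coprime.coprime_dvd_left h2 h5) h4
    exact orderOf_eq_one_iff.mp h6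
  · by_cases hc : p = 3 ∧ n = 1
    · obtain ⟨h3, rfl⟩ := hc
      exact ⟨h3, ⟨e⟩⟩
    · exfalso
      apply hne
      have h2 : p ≠ 3 ∨ n ≠ 1 := by
        by_contra h3
        push Not at h3
        exact hc h3
      have h3 : (MulAut.congr e φ) ^ p ^ k = 1 := by
        rw [← map_pow, hφk, map_one]
      have h4 := Cfsg.Agent.Lib.Char.GS.quat_aut_trivial (MulAut.congr e φ) h.hp h2 h3
      exact (MulAut.congr e).injective (by rw [h4, map_one])

end QA

/-- The facts on `Q₈`, transported. -/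
theorem q8_transport {Y : Type*} [Group Y] (e : Y ≃* Q8) (zY : Y) (hzY : zY * zY = 1) (hz1 : zY ≠ 1) :
    e zY = a 2 ∧ (∀ y : Y, y * y = 1 ∨ y * y = zY) ∧
      (∀ y : Y, (∀ u : Y, u * y = y * u) → y = 1 ∨ y = zY) ∧
      (∀ y : Y, y ≠ 1 → y ≠ zY → e y ≠ 1 ∧ e y ≠ a 2) := by
  have h1 : e zY = a 2 := by
    rcases q8_invol (e zY) (by rw [← map_mul, hzY, map_one]) with h | h
    · exact absurd (e.injective (by rw [h, map_one])) hz1
    · exact h
  refine ⟨h1, ?_, ?_, ?_⟩
  · intro y
    rcases q8_sq (e y) with h | h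
    · left
      apply e.injective
      rw [map_mul, h, map_one]
    · right
      apply e.injective
      rw [map_mul, h, h1]
  · intro y hy
    have h2 : ∀ u : Q8, u * e y = e y * u := by
      intro u
      have h3 := hy (e.symm u)
      have h4 := congrArg e h3
      simpa using h4
    rcases q8_center _ h2 with h | h
    · left
      apply e.injective
      rw [h, map_one]
    · right
      apply e.injective
      rw [h, h1]
  · intro y hy1 hy2
    constructor
    · intro h
      exact hy1 (e.injective (by rw [h, map_one]))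
    · intro h
      exact hy2 (e.injective (by rw [h, h1]))

theorem q8_transport_comm {Y : Type*} [Group Y] (e : Y ≃* Q8) (φ : MulAut Y) {k : ℕ}
    (hφ : φ ^ 3 ^ k = 1) (hne : φ ≠ 1) (y : Y) (h1 : e y ≠ 1) (h2 : e y ≠ a 2) :
    y * φ y ≠ φ y * y := by
  have h3 : (MulAut.congr e φ) ^ 3 ^ k = 1 := by
    rw [← map_pow, hφ, map_one]
  have h4 : MulAut.congr e φ ≠ 1 := by
    intro h5
    apply hne
    exact (MulAut.congr e).injective (by rw [h5, map_one])
  have h5 := q8_comm _ h3 h4 (e y) h1 h2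
  intro h6
  apply h5
  have h7 : (MulAut.congr e φ) (e y) = e (φ y) := by
    simp [MulAut.congr_apply]
  rw [h7, ← map_mul, ← map_mul, h6]

/-- The size bound. -/
theorem card_sup_le {C : Type*} [CommGroup C] [Finite C] (H K : Subgroup C) :
    Nat.card ↥(H ⊔ K) ≤ Nat.card H * Nat.card K := by
  let f : H × K → ↥(H ⊔ K) := fun t => ⟨(t.1 : C) * (t.2 : C), mul_mem (mem_sup_left t.1.2) (mem_sup_right t.2.2)⟩
  have hf : Function.Surjective f := by
    rintro ⟨x, hx⟩
    obtain ⟨y, hy, w, hw, rfl⟩ := Subgroup.mem_sup.mp hx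
    exact ⟨(⟨y, hy⟩, ⟨w, hw⟩), rfl⟩
  rw [← Nat.card_prod]
  exact Nat.card_le_card_of_surjective f hf

/-- With the distinguished involution. -/
structure QZ (p : ℕ) (E : Subgroup (MulAut W)) (z : W) : Prop extends QA p E where
  hz : orderOf z = 2
  hzc : z ∈ center W
  hzE : ∀ e ∈ E, e z = z

namespace QZ

variable {E A : Subgroup (MulAut W)} {z : W} (h : QZ p E z)

include h

theorem mem_N (x : W) : x ∈ zpowers z ↔ x = 1 ∨ x = z := by
  have hz2 : z * z = 1 := by
    rw [← pow_two, ← h.hz, pow_orderOf_eq_one]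
  constructor
  · intro hx
    obtain ⟨n, rfl⟩ := mem_zpowers_iff.mp hx
    rcases Int.even_or_odd' n with ⟨m, rfl | rfl⟩
    · left
      rw [zpow_mul, zpow_two, hz2, one_zpow]
    · right
      rw [zpow_add, zpow_mul, zpow_two, hz2, one_zpow, one_mul, zpow_one]
  · rintro (rfl | rfl)
    · exact one_mem _
    · exact mem_zpowers _

theorem z_ne : z ≠ 1 := by
  intro h1
  have h2 := h.hz
  rw [h1, orderOf_one] at h2
  omega

theorem z_sq : z * z = 1 := by
  rw [← pow_two, ← h.hz, pow_orderOf_eq_one]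

theorem N_le_center : zpowers z ≤ center W := zpowers_le.mpr h.hzc

theorem N_normal : (zpowers z).Normal := by
  refine ⟨fun n hn g => ?_⟩
  rw [mem_center_iff.mp (h.N_le_center hn) g, mul_inv_cancel_right]
  exact hn

/-- The data transported to a quaternion fixed-point subgroup. -/
theorem q8_data {a : MulAut W} (ha : a ∈ E) (e : Fx a ≃* Q8) :
    (∀ x, a x = x → x * x = 1 ∨ x * x = z) ∧
    (∀ x, a x = x → (∀ u, a u = u → u * x = x * u) → x = 1 ∨ x = z) ∧
    (∀ x, a x = x → x ≠ 1 → x ≠ z → ∀ hp3 : p = 3, ∀ f (hf : f ∈ E), ∀ hne : resFx a f (h.toQA.comm ha hf) ≠ 1,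
      x * f x ≠ f x * x) ∧ Nat.card (Fx a) = 8 := by
  have hzF : z ∈ Fx a := mem_Fx.mpr (h.hzE a ha)
  let zY : Fx a := ⟨z, hzF⟩
  have hzY : zY * zY = 1 := Subtype.ext h.z_sq
  have hz1 : zY ≠ 1 := fun h1 => h.z_ne (congrArg Subtype.val h1)
  obtain ⟨h1, h2, h3, h4⟩ := q8_transport e zY hzY hz1
  refine ⟨?_, ?_, ?_, ?_⟩
  · intro x hx
    rcases h2 ⟨x, hx⟩ with h5 | h5
    · left
      exact congrArg Subtype.val h5
    · right
      exact congrArg Subtype.val h5
  · intro x hx hc
    rcases h3 ⟨x, hx⟩ (fun u => Subtype.ext (hc u u.2)) with h5 | h5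
    · left
      exact congrArg Subtype.val h5
    · right
      exact congrArg Subtype.val h5
  · intro x hx hx1 hxz hp3 f hf hne
    subst hp3
    obtain ⟨k, hk⟩ := h.toQA.pow_eq hf
    have hφk : (resFx a f (h.toQA.comm ha hf)) ^ 3 ^ k = 1 := by
      apply MulEquiv.ext
      intro x
      apply Subtype.ext
      rw [resFx_pow, hk]
      rfl
    obtain ⟨h5, h6⟩ := h4 ⟨x, hx⟩ (fun h7 => hx1 (congrArg Subtype.val h7))
      (fun h7 => hxz (congrArg Subtype.val h7))
    have h7 := q8_transport_comm e _ hφk hne ⟨x, hx⟩ h5 h6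
    intro h8
    exact h7 (Subtype.ext h8)
  · rw [Nat.card_congr e.toEquiv, q8_card]

theorem exists_nontriv (hA : El p E A) : ∃ a ∈ A, a ≠ 1 ∧ ∃ f ∈ A, ∃ x, a x = x ∧ f x ≠ x := by
  have hp : p.Prime := Fact.out
  by_contra hno
  push Not at hno
  have hall : ∀ f ∈ A, f = 1 := by
    intro f hf
    have hle := gen_le A hA.ea hA.card ⊤ (fun _ _ _ _ => mem_top _) (h.toQA.not_dvd ⊤) (Fx f)
      (fun a ha ha1 x _ hax => mem_Fx.mpr (hno a ha ha1 f hf x hax))
    apply MulEquiv.ext
    intro x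
    exact mem_Fx.mp (hle (mem_top x))
  have h2 : A = ⊥ := by
    rw [eq_bot_iff]
    intro a ha
    exact hall a ha
  have h3 := hA.card
  rw [h2, Subgroup.card_bot] at h3
  have h4 := hp.two_le
  nlinarith

theorem resFx_ne {a f : MulAut W} (ha : a ∈ E) (hf : f ∈ E) {x : W} (hx : a x = x) (hfx : f x ≠ x) :
    resFx a f (h.toQA.comm ha hf) ≠ 1 := by
  intro h1
  exact hfx ((resFx_eq_one_iff a f _).mp h1 x hx)

theorem p_eq_three (hA : El p E A) : p = 3 := by
  obtain ⟨a, ha, ha1, f, hf, x, hx, hfx⟩ := h.exists_nontriv hA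
  exact (h.toQA.dich h.hz h.hzE (hA.le ha) ha1 (hA.le hf) (h.resFx_ne (hA.le ha) (hA.le hf) hx hfx)).1

/-- The common fixed points of a rank two subgroup. -/
theorem fixA (hA : El p E A) (x : W) (hx : ∀ b ∈ A, b x = x) : x = 1 ∨ x = z := by
  obtain ⟨a, ha, ha1, f, hf, y, hy, hfy⟩ := h.exists_nontriv hA
  have hne := h.resFx_ne (hA.le ha) (hA.le hf) hy hfy
  obtain ⟨hp3, ⟨e⟩⟩ := h.toQA.dich h.hz h.hzE (hA.le ha) ha1 (hA.le hf) hne
  by_contra hc
  push Not at hc
  obtain ⟨-, -, h3, -⟩ := h.q8_data (hA.le ha) e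
  apply h3 x (hx a ha) hc.1 hc.2 hp3 f (hA.le hf) hne
  rw [hx f hf]

/-- The two possibilities for the fixed points of an element of `A`. -/
theorem L8 (hA : El p E A) {a : MulAut W} (ha : a ∈ A) (ha1 : a ≠ 1) :
    (∀ x, a x = x → x = 1 ∨ x = z) ∨
      (p = 3 ∧ ∃ e : Fx a ≃* Q8, ∃ f ∈ A, ∃ hf : f ∈ E, resFx a f (h.toQA.comm (hA.le ha) hf) ≠ 1) := by
  by_cases hc : ∀ f ∈ A, ∀ x, a x = x → f x = x
  · left
    intro x hx
    exact h.fixA hA x (fun b hb => hc b hb x hx)
  · right
    push Not at hc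
    obtain ⟨f, hf, x, hx, hfx⟩ := hc
    have hne := h.resFx_ne (hA.le ha) (hA.le hf) hx hfx
    obtain ⟨hp3, ⟨e⟩⟩ := h.toQA.dich h.hz h.hzE (hA.le ha) ha1 (hA.le hf) hne
    exact ⟨hp3, e, f, hf, hA.le hf, hne⟩

/-- `G' ≤ ⟨z⟩`. -/
theorem comm_le (hA : El p E A) : commutator W ≤ zpowers z := by
  classical
  haveI : Fact (Nat.Prime 2) := ⟨Nat.prime_two⟩
  haveI hNn : (zpowers z).Normal := h.N_normal
  haveI : Group.IsNilpotent W := h.hW.isNilpotent
  by_contra hcontra
  let L : ℕ → Subgroup W := fun n => (⊤ : Subgroup W).lowerCentralSeries n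
  have hex : ∃ n, L n ≤ zpowers z := by
    obtain ⟨n, hn⟩ := Subgroup.nilpotent_iff_lowerCentralSeries.mp
      (inferInstance : Group.IsNilpotent W)
    refine ⟨n, ?_⟩
    change (⊤ : Subgroup W).lowerCentralSeries n ≤ _
    rw [hn]
    exact bot_le
  have hc := Nat.find_spec hex
  have hmin := fun m => Nat.find_min (m := m) hex
  set c := Nat.find hex with hcdef
  have hL1 : L 1 = commutator W := top_lowerCentralSeries_one
  have hL0 : L 0 = ⊤ := rfl
  have hanti : ∀ m, L (m + 1) ≤ L m := fun m =>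
    Subgroup.lowerCentralSeries_antitone _ (Nat.le_succ m)
  have hc0 : c ≠ 0 := by
    intro h0
    rw [h0, hL0] at hc
    exact hcontra (le_top.trans hc)
  have hc1 : c ≠ 1 := by
    intro h0
    rw [h0, hL1] at hc
    exact hcontra hc
  obtain ⟨d, hd⟩ : ∃ d, c = d + 2 := ⟨c - 2, by omega⟩
  rw [hd] at hc
  have hm1 : ¬ L (d + 1) ≤ zpowers z := hmin (d + 1) (by omega)
  let X : Subgroup W := L (d + 1) ⊔ zpowers z
  have hcentN : ∀ K : Subgroup W, ⁅zpowers z, K⁆ = ⊥ := by
    intro K
    rw [commutator_eq_bot_iff_le_centralizer]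
    intro x hx
    rw [mem_centralizer_iff]
    intro y _
    exact (mem_center_iff.mp (h.N_le_center hx) y)
  -- `[X, W] ≤ ⟨z⟩`
  have hXW : ⁅X, (⊤ : Subgroup W)⁆ ≤ zpowers z := by
    let π : W →* W ⧸ zpowers z := QuotientGroup.mk' _
    have hπ : ∀ x, π x = 1 ↔ x ∈ zpowers z := fun x => QuotientGroup.eq_one_iff x
    let Y : Subgroup W := (center (W ⧸ zpowers z)).comap π
    have hY : ∀ x, (∀ y, ⁅x, y⁆ ∈ zpowers z) → x ∈ Y := by
      intro x hx
      change π x ∈ center _
      rw [mem_center_iff]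
      intro q
      obtain ⟨y, rfl⟩ := QuotientGroup.mk'_surjective _ q
      have h1 := (hπ _).mpr (hx y)
      rw [map_commutatorElement, commutatorElement_eq_one_iff_mul_comm] at h1
      exact h1.symm
    have hXY : X ≤ Y := by
      apply sup_le
      · intro x hx
        apply hY
        intro y
        exact hc (commutator_mem_commutator hx (mem_top y))
      · intro x hx
        apply hY
        intro y
        have h1 : ⁅x, y⁆ ∈ ⁅zpowers z, (⊤ : Subgroup W)⁆ :=
          commutator_mem_commutator hx (mem_top y)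
        rw [hcentN] at h1
        rw [mem_bot.mp h1]
        exact one_mem _
    rw [commutator_le]
    intro x hx y _
    apply (hπ _).mp
    have h1 : π x ∈ center _ := hXY hx
    rw [map_commutatorElement, commutatorElement_eq_one_iff_mul_comm]
    exact (mem_center_iff.mp h1 (π y)).symm
  -- three subgroups lemma
  have h3s : ⁅⁅L d, (⊤ : Subgroup W)⁆, X⁆ = ⊥ := by
    apply commutator_commutator_eq_bot_of_rotate
    · rw [eq_bot_iff, commutator_comm (⊤ : Subgroup W) X]
      refine (commutator_mono hXW le_rfl).trans ?_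
      rw [hcentN]
    · rw [eq_bot_iff]
      have h1 : ⁅X, L d⁆ ≤ zpowers z := (commutator_mono le_rfl le_top).trans hXW
      refine (commutator_mono h1 le_rfl).trans ?_
      rw [hcentN]
  have hLX : L (d + 1) ≤ centralizer (X : Set W) :=
    commutator_eq_bot_iff_le_centralizer.mp h3s
  have hXX : X ≤ centralizer (X : Set W) := by
    apply sup_le hLX
    intro x hx
    rw [mem_centralizer_iff]
    intro y _
    exact mem_center_iff.mp (h.N_le_center hx) y
  -- invariance
  have hXinv : ∀ b ∈ E, ∀ x ∈ X, b x ∈ X := by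
    intro b hb
    have h1 : X ≤ X.comap b.toMonoidHom := by
      apply sup_le
      · intro x hx
        apply Subgroup.mem_sup_left
        exact Cfsg.Agent.Lib.LocalEven.ElemAut.char_stable (L (d + 1)) b x hx
      · rw [zpowers_le]
        apply Subgroup.mem_sup_right
        change b z ∈ _
        rw [h.hzE b hb]
        exact mem_zpowers z
    exact fun x hx => h1 hx
  by_cases hgood : ∀ a ∈ A, a ≠ 1 → ∀ x ∈ X, a x = x → x ∈ zpowers z
  · have hle := gen_le A hA.ea hA.card X (fun a ha x hx => hXinv a (hA.le ha) x hx)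
      (h.toQA.not_dvd X) (zpowers z) hgood
    exact hm1 (le_sup_left.trans hle)
  · push Not at hgood
    obtain ⟨a, ha, ha1, x, hx, hax, hxN⟩ := hgood
    have hx' : x ≠ 1 ∧ x ≠ z := by
      rw [h.mem_N] at hxN
      push Not at hxN
      exact hxN
    rcases h.L8 hA ha ha1 with h1 | ⟨hp3, e, f, hf, hfE, hne⟩
    · rcases h1 x hax with h2 | h2
      · exact hx'.1 h2
      · exact hx'.2 h2
    · obtain ⟨-, -, h3, -⟩ := h.q8_data (hA.le ha) e
      apply h3 x hax hx'.1 hx'.2 hp3 f hfE hne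
      exact (mem_centralizer_iff.mp (hXX hx) (f x) (hXinv f hfE x hx)).symm

/-- All squares in `⟨z⟩`. -/
theorem sq_mem (hA : El p E A) (x : W) : x * x ∈ zpowers z := by
  have hc := h.comm_le hA
  let S : Subgroup W :=
    { carrier := {x | x * x ∈ zpowers z}
      mul_mem' := fun {x y} hx hy => by
        show x * y * (x * y) ∈ zpowers z
        have h1 : ⁅y, x⁆ ∈ zpowers z := hc (commutator_mem_commutator (mem_top y) (mem_top x))
        have h2 : x * y * (x * y) = x * ⁅y, x⁆ * x * y * y := by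
          rw [commutatorElement_def]
          group
        have h3 : x * ⁅y, x⁆ = ⁅y, x⁆ * x := (mem_center_iff.mp (h.N_le_center h1) x)
        have h4 : x * y * (x * y) = ⁅y, x⁆ * ((x * x) * (y * y)) := by
          rw [h2, h3]
          group
        rw [h4]
        exact mul_mem h1 (mul_mem hx hy)
      one_mem' := by
        show (1 : W) * 1 ∈ zpowers z
        rw [one_mul]
        exact one_mem _
      inv_mem' := fun {x} hx => by
        show x⁻¹ * x⁻¹ ∈ zpowers z
        rw [← mul_inv_rev]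
        exact inv_mem hx }
  have hle := gen_le A hA.ea hA.card ⊤ (fun _ _ _ _ => mem_top _) (h.toQA.not_dvd ⊤) S (by
    intro a ha ha1 y _ hay
    change y * y ∈ zpowers z
    rw [h.mem_N]
    rcases h.L8 hA ha ha1 with h1 | ⟨hp3, e, -⟩
    · rcases h1 y hay with rfl | rfl
      · left
        rw [one_mul]
      · left
        exact h.z_sq
    · exact (h.q8_data (hA.le ha) e).1 y hay)
  exact hle (mem_top x)

/-- There are non-commuting elements. -/
theorem exists_noncomm (hA : El p E A) : ∃ a ∈ A, a ≠ 1 ∧ ∃ (_ : Fx a ≃* Q8) (u v : W), a u = u ∧ a v = v ∧ u * v ≠ v * u := by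
  obtain ⟨a, ha, ha1, f, hf, x, hx, hfx⟩ := h.exists_nontriv hA
  have hne := h.resFx_ne (hA.le ha) (hA.le hf) hx hfx
  obtain ⟨hp3, ⟨e⟩⟩ := h.toQA.dich h.hz h.hzE (hA.le ha) ha1 (hA.le hf) hne
  refine ⟨a, ha, ha1, e, x, f x, hx, ?_, ?_⟩
  · have h1 := DFunLike.congr_fun (h.toQA.comm (hA.le ha) (hA.le hf)) x
    rw [MulAut.mul_apply, MulAut.mul_apply, hx] at h1
    exact h1
  · obtain ⟨-, -, h3, -⟩ := h.q8_data (hA.le ha) e
    apply h3 x hx _ _ hp3 f (hA.le hf) hne
    · rintro rfl
      rw [map_one] at hfx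
      exact hfx rfl
    · rintro rfl
      exact hfx (h.hzE f (hA.le hf))

theorem z_mem_comm (hA : El p E A) : z ∈ commutator W := by
  obtain ⟨a, ha, ha1, e, u, v, hu, hv, huv⟩ := h.exists_noncomm hA
  have h1 : ⁅u, v⁆ ∈ commutator W := commutator_mem_commutator (mem_top u) (mem_top v)
  rcases (h.mem_N _).mp (h.comm_le hA h1) with h2 | h2
  · rw [commutatorElement_eq_one_iff_mul_comm] at h2
    exact absurd h2 huv
  · rwa [h2] at h1

theorem center_eq (hA : El p E A) : center W = zpowers z := by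
  apply le_antisymm
  · apply gen_le A hA.ea hA.card _ (fun a _ x hx =>
      Cfsg.Agent.Lib.LocalEven.ElemAut.char_stable (center W) a x hx) (h.toQA.not_dvd _)
    intro a ha ha1 x hx hax
    rw [h.mem_N]
    rcases h.L8 hA ha ha1 with h1 | ⟨hp3, e, -⟩
    · exact h1 x hax
    · exact (h.q8_data (hA.le ha) e).2.1 x hax (fun u _ => mem_center_iff.mp hx u)
  · exact h.N_le_center

theorem comm_eq (hA : El p E A) : commutator W = zpowers z :=
  le_antisymm (h.comm_le hA) (zpowers_le.mpr (h.z_mem_comm hA))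

theorem frattini_eq (hA : El p E A) : frattini W = zpowers z := by
  haveI : Fact (Nat.Prime 2) := ⟨Nat.prime_two⟩
  haveI hNn : (zpowers z).Normal := h.N_normal
  apply le_antisymm
  · apply Cfsg.Agent.Lib.Transfer.frattini_le_of_elementary (p := 2)
    · intro x
      rw [pow_two]
      exact h.sq_mem hA x
    · intro x y
      exact h.comm_le hA (commutator_mem_commutator (mem_top x) (mem_top y))
  · rw [← h.comm_eq hA]
    exact Cfsg.Agent.Lib.Transfer.commutator_le_frattini h.hW

theorem extraspecial (hA : El p E A) : Cfsg.IsExtraspecial 2 W := by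
  refine ⟨⟨h.hW, ?_, ?_⟩, ?_⟩
  · rw [h.frattini_eq hA, h.center_eq hA]
  · rw [h.comm_eq hA, h.center_eq hA]
  · rw [h.center_eq hA, Nat.card_zpowers, h.hz]

theorem fixed_eq (hA : El p E A) : {x : W | ∀ e ∈ E, e x = x} = (center W : Set W) := by
  ext x
  rw [h.center_eq hA]
  constructor
  · intro hx
    exact (h.mem_N x).mpr (h.fixA hA x (fun b hb => hx b (hA.le hb)))
  · intro hx e he
    rcases (h.mem_N x).mp hx with rfl | rfl
    · exact map_one e
    · exact h.hzE e he

/-- The lines of a rank two group of exponent three. -/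
theorem exists_lines (hA : El 3 E A) [Fact (Nat.Prime 3)] :
    ∃ e f : MulAut W, e ∈ A ∧ f ∈ A ∧ e ≠ 1 ∧ f ≠ 1 ∧ e * f ≠ 1 ∧ e * f * f ≠ 1 ∧
      ∀ a ∈ A, a ≠ 1 → (∀ x, a x = x → e x = x) ∨ (∀ x, a x = x → f x = x) ∨
        (∀ x, a x = x → (e * f) x = x) ∨ (∀ x, a x = x → (e * f * f) x = x) := by
  classical
  have hcom : ∀ {a b : MulAut W}, a ∈ A → b ∈ A → a * b = b * a := fun ha hb =>
    Cfsg.Agent.Lib.Components.ea_comm hA.ea ha hb
  have hc9 : Nat.card A = 9 := hA.card
  have hcube : ∀ a ∈ A, a ^ 3 = 1 := hA.ea.2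
  have hfixpow : ∀ (a : MulAut W) (n : ℕ) (x : W), a x = x → (a ^ n) x = x := by
    intro a n x hx
    induction n with
    | zero => rfl
    | succ n ih => rw [pow_succ, MulAut.mul_apply, hx, ih]
  obtain ⟨e, he, he1⟩ : ∃ e ∈ A, e ≠ 1 := by
    rcases Subgroup.bot_or_exists_ne_one A with h0 | h0
    · rw [h0, Subgroup.card_bot] at hc9
      omega
    · exact h0
  have hze : zpowers e ≤ A := zpowers_le.mpr he
  have hzc : Nat.card (zpowers e) = 3 := by
    rw [Nat.card_zpowers]
    exact orderOf_eq_prime (hcube e he) he1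
  obtain ⟨f, hf, hfz⟩ : ∃ f ∈ A, f ∉ zpowers e := by
    by_contra hno
    push Not at hno
    have h1 : A ≤ zpowers e := hno
    have h2 := Subgroup.card_dvd_of_le h1
    rw [hc9, hzc] at h2
    omega
  have hf1 : f ≠ 1 := by
    rintro rfl
    exact hfz (one_mem _)
  have hpowz : ∀ n : ℕ, e ^ n ∈ zpowers e := fun n => Subgroup.pow_mem _ (mem_zpowers e) n
  -- every element is `e ^ i * f ^ j`
  let g : Fin 3 × Fin 3 → A := fun t =>
    ⟨e ^ (t.1 : ℕ) * f ^ (t.2 : ℕ), A.mul_mem (A.pow_mem he _) (A.pow_mem hf _)⟩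
  have hord : ∀ b ∈ A, b ≠ 1 → orderOf b = 3 := fun b hb hb1 => orderOf_eq_prime (hcube b hb) hb1
  have hfj : ∀ j k : Fin 3, e ^ 0 * f ^ (j : ℕ) ∈ zpowers e → (j : ℕ) = 0 := by
    intro j _ hj
    rw [pow_zero, one_mul] at hj
    by_contra hj0
    apply hfz
    have hj12 : (j : ℕ) = 1 ∨ (j : ℕ) = 2 := by omega
    rcases hj12 with h1 | h1
    · rwa [h1, pow_one] at hj
    · rw [h1] at hj
      have h2 : f = (f ^ 2) ^ 2 := by
        rw [← pow_mul]
        have : (2 * 2 : ℕ) = 3 + 1 := rfl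
        rw [this, pow_succ, hcube f hf, one_mul]
      rw [h2]
      exact Subgroup.pow_mem _ hj 2
  have hginj : Function.Injective g := by
    rintro ⟨i, j⟩ ⟨i', j'⟩ hg
    have h1 : e ^ (i : ℕ) * f ^ (j : ℕ) = e ^ (i' : ℕ) * f ^ (j' : ℕ) := congrArg Subtype.val hg
    -- `f ^ j / f ^ j'` lies in the powers of `e`
    have hf3 : ∀ n : ℕ, f ^ n = f ^ (n % 3) := by
      intro n
      conv_lhs => rw [← Nat.mod_add_div n 3, pow_add, pow_mul, hcube f hf, one_pow, mul_one]
    have he3 : ∀ n : ℕ, e ^ n = e ^ (n % 3) := by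
      intro n
      conv_lhs => rw [← Nat.mod_add_div n 3, pow_add, pow_mul, hcube e he, one_pow, mul_one]
    have h2 : f ^ ((j : ℕ) + 2 * (j' : ℕ)) ∈ zpowers e := by
      have h3 : f ^ ((j : ℕ) + 2 * (j' : ℕ)) = e ^ ((i' : ℕ) + 2 * (i : ℕ)) := by
        have h4 : f ^ (j : ℕ) = e ^ (2 * (i : ℕ)) * e ^ (i' : ℕ) * f ^ (j' : ℕ) := by
          have h5 : e ^ (2 * (i : ℕ)) * e ^ (i : ℕ) = 1 := by
            rw [← pow_add]
            have : 2 * (i : ℕ) + (i : ℕ) = 3 * (i : ℕ) := by ring
            rw [this, pow_mul, hcube e he, one_pow]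
          calc f ^ (j : ℕ) = (e ^ (2 * (i : ℕ)) * e ^ (i : ℕ)) * f ^ (j : ℕ) := by rw [h5, one_mul]
            _ = e ^ (2 * (i : ℕ)) * (e ^ (i : ℕ) * f ^ (j : ℕ)) := by rw [mul_assoc]
            _ = e ^ (2 * (i : ℕ)) * (e ^ (i' : ℕ) * f ^ (j' : ℕ)) := by rw [h1]
            _ = _ := by rw [mul_assoc]
        have h6 : f ^ (j' : ℕ) * f ^ (2 * (j' : ℕ)) = 1 := by
          rw [← pow_add]
          have : (j' : ℕ) + 2 * (j' : ℕ) = 3 * (j' : ℕ) := by ring
          rw [this, pow_mul, hcube f hf, one_pow]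
        rw [pow_add, h4, mul_assoc, h6, mul_one, ← pow_add, add_comm]
      rw [h3]
      exact hpowz _
    have hj : (j : ℕ) = (j' : ℕ) := by
      have h3 : f ^ (((j : ℕ) + 2 * (j' : ℕ)) % 3) ∈ zpowers e := by rwa [← hf3]
      have h4 := hfj ⟨((j : ℕ) + 2 * (j' : ℕ)) % 3, Nat.mod_lt _ (by norm_num)⟩ 0 (by
        rw [pow_zero, one_mul]
        exact h3)
      have h5 : ((j : ℕ) + 2 * (j' : ℕ)) % 3 = 0 := h4
      have h6 := j.2
      have h7 := j'.2
      omega
    have h8 : e ^ (i : ℕ) = e ^ (i' : ℕ) := by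
      rw [hj] at h1
      exact mul_right_cancel h1
    have hi : (i : ℕ) = (i' : ℕ) := by
      have h9 := (pow_inj_mod (x := e) (n := (i : ℕ)) (m := (i' : ℕ))).mp h8
      rw [orderOf_eq_prime (hcube e he) he1] at h9
      have h6 := i.2
      have h7 := i'.2
      omega
    exact Prod.ext (Fin.ext hi) (Fin.ext hj)
  have hgsurj : Function.Surjective g := by
    have hb := hginj.bijective_of_nat_card_le (by
      rw [hc9]
      simp)
    exact hb.2
  have hrep : ∀ a ∈ A, ∃ i j : Fin 3, a = e ^ (i : ℕ) * f ^ (j : ℕ) := by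
    intro a ha
    obtain ⟨⟨i, j⟩, hij⟩ := hgsurj ⟨a, ha⟩
    exact ⟨i, j, (congrArg Subtype.val hij).symm⟩
  have hne : ∀ i j : Fin 3, e ^ (i : ℕ) * f ^ (j : ℕ) = 1 → i = 0 ∧ j = 0 := by
    intro i j hij
    have h1 : g (i, j) = g (0, 0) := Subtype.ext (by
      change e ^ (i : ℕ) * f ^ (j : ℕ) = e ^ 0 * f ^ 0
      rw [hij]
      simp)
    have h2 := hginj h1
    exact ⟨congrArg Prod.fst h2, congrArg Prod.snd h2⟩
  have hef1 : e * f ≠ 1 := by
    intro h1
    have := hne 1 1 (by simpa using h1)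
    exact absurd this.1 (by decide)
  have heff1 : e * f * f ≠ 1 := by
    intro h1
    have := hne 1 2 (by
      change e ^ 1 * f ^ 2 = 1
      rw [pow_one, pow_two, ← mul_assoc]
      exact h1)
    exact absurd this.1 (by decide)
  refine ⟨e, f, he, hf, he1, hf1, hef1, heff1, ?_⟩
  intro a ha ha1
  obtain ⟨i, j, rfl⟩ := hrep a ha
  -- the square of an element of `A` has the same fixed points
  have hsq : ∀ b ∈ A, ∀ x, (b ^ 2) x = x → b x = x := by
    intro b hb x hx
    have h2 : b = (b ^ 2) ^ 2 := by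
      rw [← pow_mul]
      have : (2 * 2 : ℕ) = 3 + 1 := rfl
      rw [this, pow_succ, hcube b hb, one_mul]
    rw [h2]
    exact hfixpow _ 2 x hx
  have hcef := hcom he hf
  fin_cases i <;> fin_cases j
  · exact absurd (by simp) ha1
  · right; left
    intro x hx
    simpa using hx
  · right; left
    intro x hx
    apply hsq f hf
    simpa using hx
  · left
    intro x hx
    simpa using hx
  · right; right; left
    intro x hx
    simpa using hx
  · right; right; right
    intro x hx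
    have h3 : e ^ 1 * f ^ 2 = e * f * f := by
      rw [pow_one, pow_two, mul_assoc]
    have h4 : (e ^ 1 * f ^ 2) x = x := by simpa using hx
    rw [h3] at h4
    exact h4
  · left
    intro x hx
    apply hsq e he
    simpa using hx
  · -- `e ^ 2 * f = (e * f * f) ^ 2`
    right; right; right
    intro x hx
    apply hsq (e * f * f) (A.mul_mem (A.mul_mem he hf) hf)
    have h3 : (e * f * f) ^ 2 = e ^ 2 * f ^ 1 := by
      have h4 : f ^ 4 = f := by
        have : (4 : ℕ) = 3 + 1 := rfl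
        rw [this, pow_succ, hcube f hf, one_mul]
      have h5 : (e * f * f) ^ 2 = e ^ 2 * f ^ 4 := by
        rw [pow_two, pow_two]
        have : (4 : ℕ) = 1 + 1 + 1 + 1 := rfl
        rw [this, pow_succ, pow_succ, pow_succ, pow_one]
        calc e * f * f * (e * f * f) = e * (f * f * e) * f * f := by group
          _ = e * (e * (f * f)) * f * f := by
            rw [mul_assoc f f e, ← hcef, ← mul_assoc f e f, ← hcef, mul_assoc e f f]
          _ = _ := by group
      rw [h5, h4, pow_one]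
    rw [h3]
    exact hx
  · -- `e ^ 2 * f ^ 2 = (e * f) ^ 2`
    right; right; left
    intro x hx
    apply hsq (e * f) (A.mul_mem he hf)
    have h3 : (e * f) ^ 2 = e ^ 2 * f ^ 2 := by
      rw [pow_two, pow_two, pow_two]
      calc e * f * (e * f) = e * (f * e) * f := by group
        _ = e * (e * f) * f := by rw [hcef]
        _ = _ := by group
    rw [h3]
    exact hx

/-- The order of `W` is at most `2 ^ 9`. -/
theorem card_le (hA : El p E A) : Nat.card W ≤ 2 ^ 9 := by
  classical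
  have hp3 := h.p_eq_three hA
  subst hp3
  obtain ⟨e, f, he, hf, he1, hf1, hef1, heff1, hlines⟩ := h.exists_lines hA
  haveI hNn : (zpowers z).Normal := h.N_normal
  have hcommQ : ∀ x y : W ⧸ zpowers z, x * y = y * x := by
    intro x y
    induction x using QuotientGroup.induction_on with | _ x => ?_
    induction y using QuotientGroup.induction_on with | _ y => ?_
    rw [← QuotientGroup.mk_mul, ← QuotientGroup.mk_mul, QuotientGroup.eq]
    have h4 : (x * y)⁻¹ * (y * x) = ⁅y⁻¹, x⁻¹⁆ := by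
      rw [commutatorElement_def]
      group
    rw [h4]
    exact h.comm_le hA (commutator_mem_commutator (mem_top _) (mem_top _))
  letI : CommGroup (W ⧸ zpowers z) := { (inferInstance : Group (W ⧸ zpowers z)) with mul_comm := hcommQ }
  let π : W →* W ⧸ zpowers z := QuotientGroup.mk' _
  have hπ1 : ∀ x, π x = 1 ↔ x ∈ zpowers z := fun x => QuotientGroup.eq_one_iff x
  let R : MulAut W → Subgroup (W ⧸ zpowers z) := fun b => (π.comp (Fx b).subtype).range
  have hRmem : ∀ b x, b x = x → π x ∈ R b := fun b x hx => ⟨⟨x, hx⟩, rfl⟩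
  have hRcard : ∀ b ∈ A, b ≠ 1 → Nat.card (R b) ≤ 4 := by
    intro b hb hb1
    have hzb : z ∈ Fx b := mem_Fx.mpr (h.hzE b (hA.le hb))
    have hF8 : Nat.card (Fx b) ≤ 8 := by
      rcases h.L8 hA hb hb1 with h1 | ⟨-, e', -⟩
      · have h2 : Fx b ≤ zpowers z := by
          intro x hx
          exact (h.mem_N x).mpr (h1 x hx)
        have h3 := Subgroup.card_dvd_of_le h2
        rw [Nat.card_zpowers, h.hz] at h3
        have h4 := Nat.le_of_dvd (by norm_num) h3
        omega
      · exact ((h.q8_data (hA.le hb) e').2.2.2).le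
    let φ : Fx b →* W ⧸ zpowers z := π.comp (Fx b).subtype
    have h5 : Nat.card φ.ker * Nat.card φ.range = Nat.card (Fx b) := by
      rw [← Subgroup.index_ker]
      exact Subgroup.card_mul_index φ.ker
    have h6 : 2 ≤ Nat.card φ.ker := by
      have hmem : (⟨z, hzb⟩ : Fx b) ∈ φ.ker := by
        rw [MonoidHom.mem_ker]
        exact (hπ1 z).mpr (mem_zpowers z)
      haveI : Nontrivial φ.ker := ⟨⟨⟨⟨z, hzb⟩, hmem⟩, 1, fun h7 => h.z_ne (congrArg (fun t : φ.ker => ((t : Fx b) : W)) h7)⟩⟩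
      exact Finite.one_lt_card
    change Nat.card φ.range ≤ 4
    have h7 : 0 < Nat.card φ.range := Nat.card_pos
    nlinarith
  -- generation
  have hgen : (⊤ : Subgroup (W ⧸ zpowers z)) = R e ⊔ R f ⊔ R (e * f) ⊔ R (e * f * f) := by
    rw [eq_comm, eq_top_iff]
    rintro q -
    obtain ⟨x, rfl⟩ := QuotientGroup.mk'_surjective _ q
    let S : Subgroup W := (R e ⊔ R f ⊔ R (e * f) ⊔ R (e * f * f)).comap π
    have hle := gen_le A hA.ea hA.card ⊤ (fun _ _ _ _ => mem_top _) (h.toQA.not_dvd ⊤) S (by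
      intro a ha ha1 y _ hay
      change π y ∈ (R e ⊔ R f ⊔ R (e * f) ⊔ R (e * f * f))
      rcases hlines a ha ha1 with h1 | h1 | h1 | h1
      · exact mem_sup_left (mem_sup_left (mem_sup_left (hRmem _ _ (h1 y hay))))
      · exact mem_sup_left (mem_sup_left (mem_sup_right (hRmem _ _ (h1 y hay))))
      · exact mem_sup_left (mem_sup_right (hRmem _ _ (h1 y hay)))
      · exact mem_sup_right (hRmem _ _ (h1 y hay)))
    exact hle (mem_top x)
  have hcardQ : Nat.card (W ⧸ zpowers z) ≤ 2 ^ 8 := by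
    have h1 : Nat.card (W ⧸ zpowers z) = Nat.card ↥(⊤ : Subgroup (W ⧸ zpowers z)) :=
      (Subgroup.card_top).symm
    rw [h1, hgen]
    have h2 := card_sup_le (R e ⊔ R f ⊔ R (e * f)) (R (e * f * f))
    have h3 := card_sup_le (R e ⊔ R f) (R (e * f))
    have h4 := card_sup_le (R e) (R f)
    have c1 := hRcard e he he1
    have c2 := hRcard f hf hf1
    have c3 := hRcard (e * f) (A.mul_mem he hf) hef1
    have c4 := hRcard (e * f * f) (A.mul_mem (A.mul_mem he hf) hf) heff1
    calc _ ≤ _ := h2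
      _ ≤ (Nat.card (R e) * Nat.card (R f) * Nat.card (R (e * f))) * Nat.card (R (e * f * f)) :=
        Nat.mul_le_mul_right _ (h3.trans (Nat.mul_le_mul_right _ h4))
      _ ≤ (4 * 4 * 4) * 4 := by gcongr
      _ = 2 ^ 8 := by norm_num
  have h5 := Subgroup.card_eq_card_quotient_mul_card_subgroup (zpowers z)
  rw [Nat.card_zpowers, h.hz] at h5
  rw [h5]
  have : (2 : ℕ) ^ 9 = 2 ^ 8 * 2 := by norm_num
  rw [this]
  exact Nat.mul_le_mul_right _ hcardQ

/-- The order of `W`. -/
theorem card_cases (hA : El p E A) :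
    Nat.card W = 2 ^ 5 ∨ Nat.card W = 2 ^ 7 ∨ Nat.card W = 2 ^ 9 := by
  haveI : Fact (Nat.Prime 2) := ⟨Nat.prime_two⟩
  obtain ⟨n, hn1, hn⟩ := Cfsg.Agent.Lib.Coprime.ext_card (h.extraspecial hA)
  have hle := h.card_le hA
  rw [hn] at hle
  have hn4 : 1 + 2 * n ≤ 9 := (Nat.pow_le_pow_iff_right (by norm_num)).mp hle
  have hn2 : n ≠ 1 := by
    rintro rfl
    obtain ⟨a, ha, ha1, e, -⟩ := h.exists_noncomm hA
    have h8 := (h.q8_data (hA.le ha) e).2.2.2
    have h9 : Fx a = ⊤ := by
      rw [← Subgroup.card_eq_iff_eq_top, h8, hn]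
      norm_num
    apply ha1
    apply MulEquiv.ext
    intro x
    have : x ∈ Fx a := by rw [h9]; trivial
    exact this
  have hcases : n = 2 ∨ n = 3 ∨ n = 4 := by omega
  rcases hcases with rfl | rfl | rfl
  · left; rw [hn]
  · right; left; rw [hn]
  · right; right; rw [hn]

end QZ

/-- Rank two subgroups exist. -/
theorem QA.exists_El {E K : Subgroup (MulAut W)} (h : QA p E) (hK : K ≤ E) (hnc : ¬ IsCyclic K) :
    ∃ A ≤ K, El p E A := by
  classical
  have hp : p.Prime := Fact.out
  have hKp : IsPGroup p K := h.hE.to_le hK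
  letI : CommGroup K := { (inferInstance : Group K) with
    mul_comm := fun a b => Subtype.ext (h.comm (hK a.2) (hK b.2)) }
  obtain ⟨r, hr, T, hTc, hT⟩ := Cfsg.Agent.Lib.Coprime.exists_rank_two_of_not_isCyclic (C := K) hnc
  have hrp : r = p := by
    obtain ⟨m, hm⟩ := IsPGroup.iff_card.mp hKp
    have h1 : r ∣ Nat.card T := by
      rw [hTc]
      exact dvd_pow_self r (by norm_num)
    have h2 : r ∣ p ^ m := by
      rw [← hm]
      exact h1.trans (Subgroup.card_subgroup_dvd_card T)
    exact (Nat.prime_dvd_prime_iff_eq hr hp).mp (hr.dvd_of_dvd_pow h2)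
  subst hrp
  refine ⟨T.map K.subtype, ?_, ?_, ?_, ?_⟩
  · rintro _ ⟨x, -, rfl⟩
    exact x.2
  · rintro _ ⟨x, -, rfl⟩
    exact hK x.2
  · constructor
    · refine ⟨⟨?_⟩⟩
      rintro ⟨_, x, -, rfl⟩ ⟨_, y, -, rfl⟩
      exact Subtype.ext (h.comm (hK x.2) (hK y.2))
    · rintro _ ⟨x, hx, rfl⟩
      have := hT x hx
      exact congrArg Subtype.val this
  · rw [← hTc]
    exact (Nat.card_congr (Subgroup.equivMapOfInjective T _ K.subtype_injective).toEquiv).symm

/-- The structure of `E`. -/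
theorem QZ.card_E {E A : Subgroup (MulAut W)} {z : W} (h : QZ p E z) (hA : El p E A) :
    Nat.card E = 9 := by
  classical
  have hp3 := h.p_eq_three hA
  subst hp3
  have hp : Nat.Prime 3 := Fact.out
  -- exponent three
  have hexp : ∀ x ∈ E, x ^ 3 = 1 := by
    intro x hx
    have hle := gen_le A hA.ea hA.card ⊤ (fun _ _ _ _ => mem_top _) (h.toQA.not_dvd ⊤) (Fx (x ^ 3)) (by
      intro a ha ha1 y _ hay
      rw [mem_Fx]
      rcases h.L8 hA ha ha1 with h1 | ⟨-, e, -⟩
      · rcases h1 y hay with rfl | rfl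
        · exact map_one _
        · exact h.hzE _ (E.pow_mem hx 3)
      · obtain ⟨k, hk⟩ := h.toQA.pow_eq hx
        have hφk : (resFx a x (h.toQA.comm (hA.le ha) hx)) ^ 3 ^ k = 1 := by
          apply MulEquiv.ext
          intro t
          apply Subtype.ext
          rw [resFx_pow, hk]
          rfl
        have h3 : (MulAut.congr e (resFx a x (h.toQA.comm (hA.le ha) hx))) ^ 3 ^ k = 1 := by
          rw [← map_pow, hφk, map_one]
        have h4 := q8_cube _ h3
        have h5 : (resFx a x (h.toQA.comm (hA.le ha) hx)) ^ 3 = 1 := by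
          apply (MulAut.congr e).injective
          rw [map_pow, h4, map_one]
        have h6 := DFunLike.congr_fun h5 ⟨y, hay⟩
        have h7 := congrArg Subtype.val h6
        rw [resFx_pow] at h7
        exact h7)
    apply MulEquiv.ext
    intro y
    exact mem_Fx.mp (hle (mem_top y))
  obtain ⟨a, ha, ha1, e, u, v, hu, hv, huv⟩ := h.exists_noncomm hA
  have haE := hA.le ha
  have h8 := (h.q8_data haE e).2.2.2
  -- the homomorphism to `Aut Q₈`
  let ψ : E →* MulAut Q8 :=
    { toFun := fun x => MulAut.congr e (resFx a x (h.toQA.comm haE x.2))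
      map_one' := by
        rw [← map_one (MulAut.congr e)]
        congr 1
      map_mul' := fun x y => by
        rw [← map_mul]
        congr 1 }
  have hψker : ∀ x : E, x ∈ ψ.ker → ∀ t, a t = t → (x : MulAut W) t = t := by
    intro x hx t ht
    have h1 : MulAut.congr e (resFx a x (h.toQA.comm haE x.2)) = 1 := hx
    have h2 : resFx a x (h.toQA.comm haE x.2) = 1 := by
      apply (MulAut.congr e).injective
      rw [h1, map_one]
    exact (resFx_eq_one_iff a x _).mp h2 t ht
  obtain ⟨m, hm⟩ := IsPGroup.iff_card.mp h.hE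
  have h5 : Nat.card ψ.ker * Nat.card ψ.range = Nat.card E := by
    rw [← Subgroup.index_ker]
    exact Subgroup.card_mul_index ψ.ker
  have hrange : Nat.card ψ.range ≤ 3 := by
    have h6 : Nat.card ψ.range ∣ 24 :=
      (Subgroup.card_subgroup_dvd_card _).trans Cfsg.Agent.Lib.Perm.rq_q8_aut_dvd
    have h7 : Nat.card ψ.range ∣ 3 ^ m := by
      rw [← hm, ← h5]
      exact Dvd.intro_left _ rfl
    obtain ⟨j, -, hj⟩ := (Nat.dvd_prime_pow hp).mp h7
    rw [hj] at h6 ⊢
    have hj1 : j ≤ 1 := by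
      by_contra hj2
      have h9 : 3 ^ 2 ∣ 3 ^ j := pow_dvd_pow 3 (by omega)
      have h10 := h9.trans h6
      revert h10
      decide
    calc 3 ^ j ≤ 3 ^ 1 := Nat.pow_le_pow_right (by norm_num) hj1
      _ = 3 := rfl
  have hAcard : Nat.card A = 9 := hA.card
  have hdvd : 9 ∣ Nat.card E := by
    rw [← hAcard]
    let A' : Subgroup E := A.subgroupOf E
    have : Nat.card A' = Nat.card A := by
      exact Nat.card_congr (Subgroup.subgroupOfEquivOfLe hA.le).toEquiv
    rw [← this]
    exact Subgroup.card_subgroup_dvd_card A'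
  have hle9 : Nat.card E ≤ 9 := by
    by_contra hgt
    push Not at hgt
    -- the kernel has order at least nine
    have h10 : 27 ≤ Nat.card E := by
      rw [hm] at hgt ⊢
      have h11 : 2 < m := by
        by_contra h12
        have h13 : m ≤ 2 := by omega
        have h14 : 3 ^ m ≤ 3 ^ 2 := Nat.pow_le_pow_right (by norm_num) h13
        omega
      calc 27 = 3 ^ 3 := by norm_num
        _ ≤ 3 ^ m := Nat.pow_le_pow_right (by norm_num) h11
    have h11 : 9 ≤ Nat.card ψ.ker := by
      by_contra h12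
      have h13 : Nat.card ψ.ker ≤ 8 := by omega
      have h14 : Nat.card ψ.ker * Nat.card ψ.range ≤ 8 * 3 := Nat.mul_le_mul h13 hrange
      omega
    let K : Subgroup (MulAut W) := ψ.ker.map E.subtype
    have hKE : K ≤ E := by
      rintro _ ⟨x, -, rfl⟩
      exact x.2
    have hKcard : Nat.card K = Nat.card ψ.ker :=
      (Nat.card_congr (Subgroup.equivMapOfInjective ψ.ker _ E.subtype_injective).toEquiv).symm
    have hnc : ¬ IsCyclic K := by
      intro hc
      obtain ⟨g, hg⟩ := hc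
      have h12 : Nat.card K ∣ 3 := by
        have h13 := Nat.card_zpowers g
        have h14 : zpowers g = ⊤ := by
          rw [eq_top_iff]
          intro y _
          exact hg y
        rw [h14, Subgroup.card_top] at h13
        rw [h13]
        apply orderOf_dvd_of_pow_eq_one
        exact Subtype.ext (hexp _ (hKE g.2))
      have h13 := Nat.le_of_dvd (by norm_num) h12
      omega
    obtain ⟨A₁, hA₁K, hA₁⟩ := h.toQA.exists_El hKE hnc
    -- the fixed points of `a` are fixed by `A₁`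
    have hfix : ∀ t, a t = t → t = 1 ∨ t = z := by
      intro t ht
      apply h.fixA hA₁ t
      intro b hb
      obtain ⟨x, hx, rfl⟩ := hA₁K hb
      exact hψker x hx t ht
    have hle : Fx a ≤ zpowers z := fun t ht => (h.mem_N t).mpr (hfix t ht)
    have h12 := Subgroup.card_dvd_of_le hle
    rw [Nat.card_zpowers, h.hz, h8] at h12
    revert h12
    decide
  have h9pos := Nat.le_of_dvd Nat.card_pos hdvd
  omega

/-- **Main theorem.** -/
theorem main_QA (hW : IsPGroup 2 W) (hp : p ≠ 2) (E : Subgroup (MulAut W)) (hE : IsPGroup p ↥E)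
    (hab : IsMulCommutative ↥E) (hnc : ¬ IsCyclic ↥E)
    (hfix : ∀ e ∈ E, e ≠ 1 → ∀ x y : W, orderOf x = 2 → orderOf y = 2 → e x = x → e y = y → x = y) :
    Nat.card ↥E = 9 ∧ Cfsg.IsExtraspecial 2 W ∧
      (Nat.card W = 2 ^ 5 ∨ Nat.card W = 2 ^ 7 ∨ Nat.card W = 2 ^ 9) ∧
      {x : W | ∀ e ∈ E, e x = x} = (Subgroup.center W : Set W) := by
  have hQ : QA p E := ⟨hW, hp, hE, hab, hfix⟩
  obtain ⟨A, -, hA⟩ := hQ.exists_El le_rfl hnc
  obtain ⟨z, hz, hzc, hzE⟩ := hQ.exists_z hA
  have h : QZ p E z := { hQ with hz := hz, hzc := hzc, hzE := hzE }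
  exact ⟨h.card_E hA, h.extraspecial hA, h.card_cases hA, h.fixed_eq hA⟩

end Main

end Cfsg.Agent.Lib.LocalEven.QuatAct
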