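import Mathlib
import Cfsg.Agent.Lib.Basic.QuatSylow
import Cfsg.Agent.Lib.Basic.Solv1
import Cfsg.Agent.Lib.Basic.Core
import Cfsg.Agent.Lib.TwoGroups.QD

/-!
# Solvable groups with dihedral or semidihedral Sylow 2-subgroups and `O(G) = 1`
-/

set_option autoImplicit false

namespace Cfsg.Agent.Lib.LocalEven.SolvDS

open Subgroup

variable {G : Type*} [Group G]

/-- An element of odd order normalizing a cyclic 2-subgroup centralizes it. -/
theorem centralizes_cyclic [Finite G] {g : G} (hg : Odd (orderOf g)) {A : Subgroup G} (hcyc : IsCyclic A)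
    (h2 : IsPGroup 2 A) (hA : ∀ a ∈ A, g * a * g⁻¹ ∈ A) : ∀ a ∈ A, g * a * g⁻¹ = a := by
  classical
  let f : A →* A := ((MulAut.conj g).toMonoidHom.comp A.subtype).codRestrict A (fun a => hA a a.2)
  have hfv : ∀ a : A, ((f a : A) : G) = g * a * g⁻¹ := fun a => rfl
  have hinj : Function.Injective f := by
    intro a b hab
    have : ((f a : A) : G) = ((f b : A) : G) := by rw [hab]
    rw [hfv, hfv] at this
    apply Subtype.ext
    simpa using this
  have hbij : Function.Bijective f := Finite.injective_iff_bijective.1 hinj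
  let σ : MulAut A := MulEquiv.ofBijective f hbij
  have hσv : ∀ a : A, ((σ a : A) : G) = g * a * g⁻¹ := fun a => rfl
  have hσ : ∀ (n : ℕ) (a : A), (((σ ^ n) a : A) : G) = g ^ n * a * (g ^ n)⁻¹ := by
    intro n
    induction n with
    | zero => intro a; simp
    | succ n ih =>
      intro a
      rw [pow_succ', MulAut.mul_apply, hσv, ih, pow_succ']
      simp [mul_assoc]
  have h1 : σ ^ orderOf g = 1 := by
    ext a
    rw [hσ, pow_orderOf_eq_one]
    simp
  have hAut : IsPGroup 2 (MulAut A) := by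
    obtain ⟨k, hk⟩ := IsPGroup.iff_card.1 h2
    rw [IsPGroup.iff_card, IsCyclic.card_mulAut, hk]
    rcases k with _ | k
    · exact ⟨0, by simp⟩
    · rw [Nat.totient_prime_pow_succ Nat.prime_two]
      exact ⟨k, by simp⟩
  obtain ⟨e, he⟩ := hAut σ
  have hd1 := orderOf_dvd_of_pow_eq_one h1
  have hd2 := orderOf_dvd_of_pow_eq_one he
  have hco : Nat.Coprime (orderOf g) (2 ^ e) := by
    apply Nat.Coprime.pow_right
    exact (Nat.coprime_two_right).2 hg
  have hone : orderOf σ = 1 := Nat.eq_one_of_dvd_coprimes hco hd1 hd2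
  have hσ1 : σ = 1 := orderOf_eq_one_iff.1 hone
  intro a ha
  have := hσv ⟨a, ha⟩
  rw [hσ1] at this
  exact this.symm

/-- Coprime action: trivial on a cyclic 2-subgroup `A` of "index ≤ 2" in `Q`. -/
theorem centralizes_of_index_two [Finite G] {g : G} (hg : Odd (orderOf g)) {Q A : Subgroup G}
    (hQ : ∀ q ∈ Q, g * q * g⁻¹ ∈ Q) (hcyc : IsCyclic A) (h2 : IsPGroup 2 A) (hA : ∀ a ∈ A, g * a * g⁻¹ ∈ A)
    (hidx : ∀ q ∈ Q, ∀ q' ∈ Q, q ∉ A → q' ∉ A → q⁻¹ * q' ∈ A) : ∀ q ∈ Q, g * q * g⁻¹ = q := by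
  have hcA := centralizes_cyclic hg hcyc h2 hA
  intro q hq
  by_cases hqA : q ∈ A
  · exact hcA q hqA
  have hq' : g * q * g⁻¹ ∉ A := by
    intro hmem
    have h1 := hcA _ hmem
    have h3 : g * q * g⁻¹ = q := by
      have h4 : g * (g * q * g⁻¹) * g⁻¹ = g * q * g⁻¹ := h1
      have h5 : g * (g * q * g⁻¹) = (g * q * g⁻¹) * g := by
        calc g * (g * q * g⁻¹) = (g * (g * q * g⁻¹) * g⁻¹) * g := by group
          _ = _ := by rw [h4]
      have h6 : g * q * g⁻¹ = q := by
        have : g⁻¹ * (g * (g * q * g⁻¹)) * g = g⁻¹ * ((g * q * g⁻¹) * g) * g := by rw [h5]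
        have h7 : g⁻¹ * (g * (g * q * g⁻¹)) * g = g * q := by group
        have h8 : g⁻¹ * ((g * q * g⁻¹) * g) * g = q * g := by group
        rw [h7, h8] at this
        calc g * q * g⁻¹ = q * g * g⁻¹ := by rw [this]
          _ = q := by group
      exact h6
    rw [h3] at hmem
    exact hqA hmem
  obtain ⟨a, ha, hga⟩ : ∃ a ∈ A, g * q * g⁻¹ = q * a :=
    ⟨q⁻¹ * (g * q * g⁻¹), hidx q hq _ (hQ q hq) hqA hq', by group⟩
  have hcomm : ∀ b ∈ A, g * b = b * g := by
    intro b hb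
    calc g * b = (g * b * g⁻¹) * g := by group
      _ = b * g := by rw [hcA b hb]
  have hpow : ∀ n : ℕ, g ^ n * q * (g ^ n)⁻¹ = q * a ^ n := by
    intro n
    induction n with
    | zero => simp
    | succ n ih =>
      have han : a ^ n ∈ A := A.pow_mem ha n
      calc g ^ (n + 1) * q * (g ^ (n + 1))⁻¹ = g * (g ^ n * q * (g ^ n)⁻¹) * g⁻¹ := by
            rw [pow_succ']; group
        _ = g * (q * a ^ n) * g⁻¹ := by rw [ih]
        _ = (g * q * g⁻¹) * (g * a ^ n * g⁻¹) := by group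
        _ = q * a * a ^ n := by rw [hga, hcA _ han]
        _ = q * a ^ (n + 1) := by rw [pow_succ']; group
  have h3 := hpow (orderOf g)
  rw [pow_orderOf_eq_one] at h3
  have h4 : a ^ orderOf g = 1 := by
    have : q = q * a ^ orderOf g := by simpa using h3
    simpa using this.symm
  obtain ⟨e, he⟩ := h2 ⟨a, ha⟩
  have he' : a ^ 2 ^ e = 1 := by
    have := congrArg Subtype.val he
    simpa using this
  have hco : Nat.Coprime (orderOf g) (2 ^ e) := by
    apply Nat.Coprime.pow_right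
    exact (Nat.coprime_two_right).2 hg
  have ha1 : a = 1 := by
    have hd1 := orderOf_dvd_of_pow_eq_one h4
    have hd2 := orderOf_dvd_of_pow_eq_one he'
    exact orderOf_eq_one_iff.1 (Nat.eq_one_of_dvd_coprimes hco hd1 hd2)
  rw [hga, ha1, mul_one]

theorem mem_z4 {i a : G} (i4 : i ^ 4 = 1) (ha : a ∈ zpowers i) : a = 1 ∨ a = i ∨ a = i ^ 2 ∨ a = i⁻¹ := by
  obtain ⟨k, rfl⟩ := mem_zpowers_iff.1 ha
  have h4 : (4 : ℤ) ≠ 0 := by norm_num
  have hk : i ^ k = i ^ (k % 4) := by
    conv_lhs => rw [← Int.mul_ediv_add_emod k 4, zpow_add, zpow_mul]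
    have : i ^ (4 : ℤ) = 1 := by exact_mod_cast i4
    rw [this]; simp
  rw [hk]
  have h1 : k % 4 = 0 ∨ k % 4 = 1 ∨ k % 4 = 2 ∨ k % 4 = 3 := by omega
  rcases h1 with h | h | h | h <;> rw [h]
  · left; simp
  · right; left; simp
  · right; right; left; exact_mod_cast rfl
  · right; right; right
    have : i ^ (3 : ℤ) * i = 1 := by
      rw [← zpow_add_one]; exact_mod_cast i4
    exact eq_inv_of_mul_eq_one_left this

/-- Recognition of `SL₂(3)` and normality from the index. -/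
theorem normal_sl23_of_triple [Finite G] (hG : Nat.card G = 48) {i j s : G}
    (h4 : i ^ 4 = 1) (h2 : j ^ 2 = i ^ 2) (hji : j * i * j⁻¹ = i⁻¹) (hsi : s * i * s⁻¹ = j)
    (hsj : s * j * s⁻¹ = i * j) (hs3 : s ^ 3 = 1) (hne : i ^ 2 ≠ 1) :
    ∃ U : Subgroup G, U.Normal ∧ Nonempty (↥U ≃* Matrix.SpecialLinearGroup (Fin 2) (ZMod 3)) := by
  classical
  let U : Subgroup G := closure ({i, j, s} : Set G)
  have hiU : i ∈ U := subset_closure (by simp)
  have hjU : j ∈ U := subset_closure (by simp)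
  have hsU : s ∈ U := subset_closure (by simp)
  have hgen : closure ({⟨i, hiU⟩, ⟨j, hjU⟩, ⟨s, hsU⟩} : Set U) = ⊤ := by
    have h := closure_closure_coe_preimage (k := ({i, j, s} : Set G))
    convert h using 2
    ext ⟨a, ha⟩
    simp [Subtype.ext_iff]
  have hiso := Cfsg.Agent.Lib.Basic.qs_iso_of_rel (E := U) ⟨i, hiU⟩ ⟨j, hjU⟩ ⟨s, hsU⟩
    (Subtype.ext h4) (Subtype.ext h2) (Subtype.ext hji) (Subtype.ext hsi) (Subtype.ext hsj)
    (Subtype.ext hs3) (fun h => hne (congrArg Subtype.val h)) hgen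
  obtain ⟨e⟩ := hiso
  have hU : Nat.card U = 24 := by
    rw [Nat.card_congr e.toEquiv]
    exact Cfsg.Agent.Lib.Basic.qs_card
  have hidx : U.index = 2 := by
    have := U.index_mul_card
    rw [hU, hG] at this
    omega
  exact ⟨U, Subgroup.normal_of_index_eq_two hidx, ⟨e⟩⟩

/-- The `Q₈` case. -/
theorem bad_case [Finite G] {Q : Subgroup G} (hQn : Q.Normal) (hQ2 : IsPGroup 2 Q)
    (hCQ : centralizer (Q : Set G) ≤ Q) {i t : G} (hi : i ∈ Q) (ht : t ∈ Q)
    (i4 : i ^ 4 = 1) (i2 : i ^ 2 ≠ 1) (t2 : t * t = i ^ 2) (ti : t * i * t⁻¹ = i⁻¹)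
    (hform : ∀ q ∈ Q, q ∈ zpowers i ∨ t⁻¹ * q ∈ zpowers i) (T : Sylow 2 G) (hT : Nat.card T = 16)
    (hne : (T : Subgroup G) ≠ ⊤) :
    ∃ U : Subgroup G, U.Normal ∧ Nonempty (↥U ≃* Matrix.SpecialLinearGroup (Fin 2) (ZMod 3)) := by
  classical
  have hz2 : i ^ 2 * i ^ 2 = 1 := by rw [← pow_add]; exact i4
  have hizc : i ^ 2 * i = i * i ^ 2 := by rw [pow_two]; group
  have hiinv : i ≠ i⁻¹ := by
    intro h
    apply i2
    rw [pow_two]
    nth_rewrite 2 [h]
    simp
  -- conjugating powers of `i` by `t`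
  have hta : ∀ a ∈ zpowers i, t * a * t⁻¹ = a⁻¹ := by
    intro a ha
    obtain ⟨k, rfl⟩ := mem_zpowers_iff.1 ha
    rw [← _root_.conj_zpow, ti, inv_zpow]
  have hcomm_a : ∀ a ∈ zpowers i, a * i = i * a := by
    intro a ha
    obtain ⟨k, rfl⟩ := mem_zpowers_iff.1 ha
    exact (Commute.zpow_self i k)
  have hcomm_az : ∀ a ∈ zpowers i, a * i ^ 2 = i ^ 2 * a := by
    intro a ha
    obtain ⟨k, rfl⟩ := mem_zpowers_iff.1 ha
    have := (Commute.zpow_zpow_self i k (2 : ℤ))
    exact_mod_cast this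
  -- outer elements
  have houter : ∀ q ∈ Q, q ∉ zpowers i → q * q = i ^ 2 ∧ q * i * q⁻¹ = i⁻¹ := by
    intro q hq hqi
    have ha : t⁻¹ * q ∈ zpowers i := (hform q hq).resolve_left hqi
    obtain ⟨a, ha', hqa⟩ : ∃ a ∈ zpowers i, q = t * a := ⟨t⁻¹ * q, ha, by group⟩
    subst hqa
    constructor
    · have h1 : t * a = a⁻¹ * t := by
        rw [← hta a ha']; group
      calc t * a * (t * a) = a⁻¹ * t * (t * a) := by rw [h1]
        _ = a⁻¹ * (t * t) * a := by group
        _ = a⁻¹ * (i ^ 2) * a := by rw [t2]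
        _ = a⁻¹ * (i ^ 2 * a) := by group
        _ = a⁻¹ * (a * i ^ 2) := by rw [hcomm_az a ha']
        _ = i ^ 2 := by group
    · calc t * a * i * (t * a)⁻¹ = t * (a * i * a⁻¹) * t⁻¹ := by group
        _ = t * i * t⁻¹ := by rw [hcomm_a a ha']; group
        _ = i⁻¹ := ti
  have hzQ : i ^ 2 ∈ Q := Q.pow_mem hi 2
  have hnotin : t ∉ zpowers i := by
    intro h
    have h1 := hta t h
    have h2 : t * t * t⁻¹ = t := by group
    rw [h2] at h1
    have h3 : t * t = 1 := by
      calc t * t = t * t⁻¹ := by nth_rewrite 2 [h1]; rfl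
        _ = 1 := by group
    rw [t2] at h3
    exact i2 h3
  -- the index-two property
  have hidx : ∀ q ∈ Q, ∀ q' ∈ Q, q ∉ zpowers i → q' ∉ zpowers i → q⁻¹ * q' ∈ zpowers i := by
    intro q hq q' hq' h1 h2
    have ha := (hform q hq).resolve_left h1
    have ha' := (hform q' hq').resolve_left h2
    have : q⁻¹ * q' = (t⁻¹ * q)⁻¹ * (t⁻¹ * q') := by group
    rw [this]
    exact (zpowers i).mul_mem ((zpowers i).inv_mem ha) ha'
  -- the enumeration of the elements
  have henum : ∀ q ∈ Q, q * q ≠ 1 →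
      q = i ∨ q = i⁻¹ ∨ q = t ∨ q = t * i ∨ q = t * i ^ 2 ∨ q = t * i⁻¹ := by
    intro q hq hqq
    rcases hform q hq with h | h
    · rcases mem_z4 i4 h with rfl | rfl | rfl | rfl
      · simp at hqq
      · exact Or.inl rfl
      · exact absurd hz2 hqq
      · exact Or.inr (Or.inl rfl)
    · have hq' : q = t * (t⁻¹ * q) := by group
      rcases mem_z4 i4 h with h1 | h1 | h1 | h1 <;> rw [h1] at hq' <;> try simp only [mul_one] at hq'
      · exact Or.inr (Or.inr (Or.inl hq'))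
      · exact Or.inr (Or.inr (Or.inr (Or.inl hq')))
      · exact Or.inr (Or.inr (Or.inr (Or.inr (Or.inl hq'))))
      · exact Or.inr (Or.inr (Or.inr (Or.inr (Or.inr hq'))))
  -- central elements of `Q`
  have hcentral : ∀ c : G, c * i = i * c → c * t = t * c → c = 1 ∨ c = i ^ 2 := by
    intro c hci hct
    have hcC : c ∈ centralizer (Q : Set G) := by
      rw [mem_centralizer_iff]
      intro q hq
      have hq' : q ∈ Q := hq
      have hcia : ∀ a ∈ zpowers i, a * c = c * a := by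
        intro a ha
        obtain ⟨k, rfl⟩ := mem_zpowers_iff.1 ha
        exact ((Commute.zpow_left (show Commute i c from hci.symm) k))
      rcases hform q hq' with h | h
      · exact hcia q h
      · have h1 := hcia _ h
        have : q = t * (t⁻¹ * q) := by group
        rw [this]
        calc t * (t⁻¹ * q) * c = t * ((t⁻¹ * q) * c) := by group
          _ = t * (c * (t⁻¹ * q)) := by rw [h1]
          _ = (t * c) * (t⁻¹ * q) := by group
          _ = (c * t) * (t⁻¹ * q) := by rw [hct]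
          _ = c * (t * (t⁻¹ * q)) := by group
    have hcQ : c ∈ Q := hCQ hcC
    by_cases hcz : c ∈ zpowers i
    · rcases mem_z4 i4 hcz with h | h | h | h
      · exact Or.inl h
      · exfalso
        subst h
        have h1 : t * c * t⁻¹ = c := by rw [← hct]; group
        rw [ti] at h1
        exact hiinv h1.symm
      · exact Or.inr h
      · exfalso
        subst h
        have h1 : t * i⁻¹ * t⁻¹ = i⁻¹ := by rw [← hct]; group
        have h2 : t * i⁻¹ * t⁻¹ = (t * i * t⁻¹)⁻¹ := by group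
        rw [h2, ti, inv_inv] at h1
        exact hiinv h1
    · exfalso
      have h1 := (houter c hcQ hcz).2
      have h2 : c * i * c⁻¹ = i := by rw [hci]; group
      rw [h2] at h1
      exact hiinv h1
  -- bound for the order
  haveI := Fintype.ofFinite G
  have hbound : Nat.card G ≤ 48 := by
    let f : G → G × G := fun g => (g * i * g⁻¹, g * t * g⁻¹)
    let Ω : Finset G := Finset.univ.filter (fun a => a ∈ Q ∧ a * a ≠ 1)
    have hΩcard : Ω.card ≤ 6 := by
      have hsub : Ω ⊆ ({i, i⁻¹, t, t * i, t * i ^ 2, t * i⁻¹} : Finset G) := by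
        intro a ha
        simp only [Ω, Finset.mem_filter, Finset.mem_univ, true_and] at ha
        have := henum a ha.1 ha.2
        simpa using this
      exact (Finset.card_le_card hsub).trans (by
        refine (Finset.card_insert_le _ _).trans ?_
        refine Nat.succ_le_succ ((Finset.card_insert_le _ _).trans ?_)
        refine Nat.succ_le_succ ((Finset.card_insert_le _ _).trans ?_)
        refine Nat.succ_le_succ ((Finset.card_insert_le _ _).trans ?_)
        refine Nat.succ_le_succ ((Finset.card_insert_le _ _).trans ?_)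
        refine Nat.succ_le_succ ?_
        simp)
    let P : Finset (G × G) := Ω.biUnion (fun a => ({a} : Finset G) ×ˢ ((Ω.erase a).erase a⁻¹))
    have hPcard : P.card ≤ 24 := by
      refine (Finset.card_biUnion_le).trans ?_
      have : ∀ a ∈ Ω, (({a} : Finset G) ×ˢ ((Ω.erase a).erase a⁻¹)).card ≤ 4 := by
        intro a ha
        rw [Finset.card_product, Finset.card_singleton, one_mul]
        simp only [Ω, Finset.mem_filter, Finset.mem_univ, true_and] at ha
        have hane : a⁻¹ ≠ a := by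
          intro h
          apply ha.2
          nth_rewrite 1 [← h]
          simp
        have h1 : a ∈ Ω := by simp [Ω, ha.1, ha.2]
        have h2 : a⁻¹ ∈ Ω.erase a := by
          rw [Finset.mem_erase]
          refine ⟨hane, ?_⟩
          simp only [Ω, Finset.mem_filter, Finset.mem_univ, true_and]
          refine ⟨Q.inv_mem ha.1, ?_⟩
          intro h
          apply ha.2
          have : (a⁻¹ * a⁻¹)⁻¹ = 1 := by rw [h]; simp
          simpa [mul_inv_rev] using this
        rw [Finset.card_erase_of_mem h2, Finset.card_erase_of_mem h1]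
        omega
      calc ∑ a ∈ Ω, (({a} : Finset G) ×ˢ ((Ω.erase a).erase a⁻¹)).card ≤ ∑ _a ∈ Ω, 4 := Finset.sum_le_sum this
        _ = Ω.card * 4 := by simp
        _ ≤ 24 := by omega
    have hfP : ∀ g : G, f g ∈ P := by
      intro g
      have hconj : ∀ q ∈ Q, g * q * g⁻¹ ∈ Q := fun q hq => hQn.conj_mem q hq g
      have hsq : ∀ a : G, a * a ≠ 1 → (g * a * g⁻¹) * (g * a * g⁻¹) ≠ 1 := by
        intro a ha h
        apply ha
        have : (g * a * g⁻¹) * (g * a * g⁻¹) = g * (a * a) * g⁻¹ := by group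
        rw [this] at h
        have h2 : a * a = g⁻¹ * (g * (a * a) * g⁻¹) * g := by group
        rw [h2, h]
        group
      have hiΩ : i * i ≠ 1 := by rw [← pow_two]; exact i2
      have htΩ : t * t ≠ 1 := by rw [t2]; exact i2
      simp only [P, Finset.mem_biUnion, Finset.mem_product, Finset.mem_singleton, Finset.mem_erase]
      refine ⟨g * i * g⁻¹, ?_, rfl, ?_, ?_, ?_⟩
      · simp only [Ω, Finset.mem_filter, Finset.mem_univ, true_and]
        exact ⟨hconj i hi, hsq i hiΩ⟩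
      · intro h
        have h1 : g * t * g⁻¹ = g * i⁻¹ * g⁻¹ := by
          rw [show f g = (g * i * g⁻¹, g * t * g⁻¹) from rfl] at h
          simp only at h
          rw [h]; group
        have h2 : t = i⁻¹ := by simpa using h1
        apply hnotin
        rw [h2]
        exact (zpowers i).inv_mem (mem_zpowers i)
      · intro h
        have h1 : g * t * g⁻¹ = g * i * g⁻¹ := h
        have h2 : t = i := by simpa using h1
        apply hnotin
        rw [h2]
        exact mem_zpowers i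
      · simp only [Ω, Finset.mem_filter, Finset.mem_univ, true_and]
        exact ⟨hconj t ht, hsq t htΩ⟩
    have hfib : ∀ b ∈ Finset.univ.image f, (Finset.univ.filter (fun g => f g = b)).card ≤ 2 := by
      intro b hb
      obtain ⟨g, -, rfl⟩ := Finset.mem_image.1 hb
      have hsub : Finset.univ.filter (fun h => f h = f g) ⊆ ({g, g * i ^ 2} : Finset G) := by
        intro h hh
        simp only [Finset.mem_filter, Finset.mem_univ, true_and] at hh
        have h1 : h * i * h⁻¹ = g * i * g⁻¹ := congrArg Prod.fst hh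
        have h2 : h * t * h⁻¹ = g * t * g⁻¹ := congrArg Prod.snd hh
        have hc1 : (g⁻¹ * h) * i = i * (g⁻¹ * h) := by
          have : h * i = g * i * g⁻¹ * h := by rw [← h1]; group
          calc (g⁻¹ * h) * i = g⁻¹ * (h * i) := by group
            _ = g⁻¹ * (g * i * g⁻¹ * h) := by rw [this]
            _ = i * (g⁻¹ * h) := by group
        have hc2 : (g⁻¹ * h) * t = t * (g⁻¹ * h) := by
          have : h * t = g * t * g⁻¹ * h := by rw [← h2]; group
          calc (g⁻¹ * h) * t = g⁻¹ * (h * t) := by group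
            _ = g⁻¹ * (g * t * g⁻¹ * h) := by rw [this]
            _ = t * (g⁻¹ * h) := by group
        simp only [Finset.mem_insert, Finset.mem_singleton]
        rcases hcentral _ hc1 hc2 with h3 | h3
        · left
          calc h = g * (g⁻¹ * h) := by group
            _ = g := by rw [h3, mul_one]
        · right
          calc h = g * (g⁻¹ * h) := by group
            _ = g * i ^ 2 := by rw [h3]
      exact (Finset.card_le_card hsub).trans Finset.card_le_two
    have h1 := Finset.card_le_mul_card_image (f := f) (Finset.univ : Finset G) 2 hfib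
    have h2 : (Finset.univ.image f).card ≤ 24 := by
      refine (Finset.card_le_card ?_).trans hPcard
      intro b hb
      obtain ⟨g, -, rfl⟩ := Finset.mem_image.1 hb
      exact hfP g
    rw [Nat.card_eq_fintype_card, ← Finset.card_univ]
    omega
  -- the order is 48
  have hG : Nat.card G = 48 := by
    have h1 := (T : Subgroup G).index_mul_card
    rw [hT] at h1
    have h2 : ¬ 2 ∣ (T : Subgroup G).index := T.not_dvd_index
    have h3 : (T : Subgroup G).index ≠ 1 := by
      intro h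
      exact hne (Subgroup.index_eq_one.1 h)
    have h4 : 0 < (T : Subgroup G).index := Nat.pos_of_ne_zero (Subgroup.index_ne_zero_of_finite)
    have h5 : (T : Subgroup G).index ≤ 3 := by omega
    have h6 : (T : Subgroup G).index = 3 := by
      interval_cases (T : Subgroup G).index <;> omega
    rw [h6] at h1
    omega
  -- an element of order 3
  haveI : Fact (Nat.Prime 3) := ⟨by norm_num⟩
  obtain ⟨s, hs⟩ := exists_prime_orderOf_dvd_card' (G := G) 3 (by rw [hG]; norm_num)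
  have hs3 : s ^ 3 = 1 := by rw [← hs]; exact pow_orderOf_eq_one s
  have hsodd : Odd (orderOf s) := by rw [hs]; decide
  have hs1 : s ≠ 1 := by
    intro h
    rw [h, orderOf_one] at hs
    omega
  have hsnotQ : ∀ q ∈ Q, s ≠ q := by
    intro q hq h
    obtain ⟨e, he⟩ := hQ2 ⟨q, hq⟩
    have he' : q ^ 2 ^ e = 1 := by
      have := congrArg Subtype.val he
      simpa using this
    rw [← h] at he'
    have hd := orderOf_dvd_of_pow_eq_one he'
    rw [hs] at hd
    have := (Nat.prime_three.dvd_of_dvd_pow hd)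
    omega
  have hconjQ : ∀ g : G, ∀ q ∈ Q, g * q * g⁻¹ ∈ Q := fun g q hq => hQn.conj_mem q hq g
  -- `s` does not normalize a cyclic subgroup of order 4
  have hnorm : s * i * s⁻¹ ∉ zpowers i := by
    intro hmem
    have hnA : ∀ a ∈ zpowers i, s * a * s⁻¹ ∈ zpowers i := by
      intro a ha
      obtain ⟨k, rfl⟩ := mem_zpowers_iff.1 ha
      rw [← _root_.conj_zpow]
      exact (zpowers i).zpow_mem hmem k
    have hzle : zpowers i ≤ Q := by
      rw [zpowers_le]; exact hi
    have hc := centralizes_of_index_two hsodd (hconjQ s) (isCyclic_zpowers i)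
      (hQ2.to_le hzle) hnA hidx
    have hsC : s ∈ centralizer (Q : Set G) := by
      rw [mem_centralizer_iff]
      intro q hq
      have := hc q hq
      calc q * s = (s * q * s⁻¹) * s := by rw [this]
        _ = s * q := by group
    exact hsnotQ s (hCQ hsC) rfl
  obtain ⟨j, hj⟩ : ∃ j, j = s * i * s⁻¹ := ⟨_, rfl⟩
  have hjQ : j ∈ Q := hj ▸ hconjQ s i hi
  have hjnot : j ∉ zpowers i := hj ▸ hnorm
  obtain ⟨hjj, hji⟩ := houter j hjQ hjnot
  obtain ⟨k, hk⟩ : ∃ k, k = s * j * s⁻¹ := ⟨_, rfl⟩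
  have hkQ : k ∈ Q := hk ▸ hconjQ s j hjQ
  have hski : s * k * s⁻¹ = i := by
    have h0 : s ^ 3 = s * s * s := by simp [pow_succ]
    have h1 : s * (s * (s * i * s⁻¹) * s⁻¹) * s⁻¹ = s ^ 3 * i * (s ^ 3)⁻¹ := by rw [h0]; group
    rw [hk, hj, h1, hs3]
    group
  have hknot : k ∉ zpowers i := by
    intro hmem
    have hkk : k * k ≠ 1 := by
      intro h
      have h1 : k * k = s * (s * (i * i) * s⁻¹) * s⁻¹ := by rw [hk, hj]; group
      rw [h1] at h
      apply i2
      rw [pow_two]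
      have h2 : i * i = s⁻¹ * (s⁻¹ * (s * (s * (i * i) * s⁻¹) * s⁻¹) * s) * s := by group
      rw [h2, h]
      group
    rcases mem_z4 i4 hmem with h | h | h | h
    · rw [h] at hkk; simp at hkk
    · rw [h] at hski
      apply hnorm
      rw [hski]
      exact mem_zpowers i
    · rw [h] at hkk; exact hkk hz2
    · rw [h] at hski
      apply hnorm
      have h1 : s * i * s⁻¹ = (s * i⁻¹ * s⁻¹)⁻¹ := by group
      rw [h1, hski]
      exact (zpowers i).inv_mem (mem_zpowers i)
  have hsj1 : s * j * s⁻¹ ≠ j := by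
    intro h
    have h1 : s * j = j * s := by
      calc s * j = (s * j * s⁻¹) * s := by group
        _ = j * s := by rw [h]
    have h2 : s * i * s⁻¹ = i := by
      have h3 : s * (s * i * s⁻¹) = (s * i * s⁻¹) * s := by rw [← hj]; exact h1
      have h4 : s * i = i * s := by
        have h5 : s⁻¹ * (s * (s * i * s⁻¹)) * s = s⁻¹ * ((s * i * s⁻¹) * s) * s := by rw [h3]
        have h6 : s⁻¹ * (s * (s * i * s⁻¹)) * s = s * i := by group
        have h7 : s⁻¹ * ((s * i * s⁻¹) * s) * s = i * s := by group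
        rwa [h6, h7] at h5
      rw [h4]; group
    apply hnorm
    rw [h2]
    exact mem_zpowers i
  have ha : j⁻¹ * k ∈ zpowers i := hidx j hjQ k hkQ hjnot hknot
  have hk' : k = j * (j⁻¹ * k) := by group
  have hjcomm : j * i⁻¹ = i * j := by
    have : i⁻¹ * j = j * i := by rw [← hji]; group
    have h2 : (i⁻¹ * j)⁻¹ = (j * i)⁻¹ := by rw [this]
    have h3 : j⁻¹ * i = i⁻¹ * j⁻¹ := by simpa [mul_inv_rev] using h2
    calc j * i⁻¹ = (j * i⁻¹ * j⁻¹) * j := by group
      _ = (j * i * j⁻¹)⁻¹ * j := by group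
      _ = i * j := by rw [hji]; simp
  rcases mem_z4 i4 ha with h | h | h | h
  · exfalso
    rw [h, mul_one] at hk'
    apply hsj1
    rw [← hk, hk']
  · -- `k = j * i`: use the inverses
    have hkv : k = j * i := by rw [hk', h]
    have h1 : (i⁻¹) ^ 4 = 1 := by rw [inv_pow, i4, inv_one]
    have h2 : (j⁻¹) ^ 2 = (i⁻¹) ^ 2 := by
      rw [inv_pow, inv_pow, pow_two, hjj]
    have h3 : j⁻¹ * i⁻¹ * (j⁻¹)⁻¹ = (i⁻¹)⁻¹ := by
      calc j⁻¹ * i⁻¹ * (j⁻¹)⁻¹ = j⁻¹ * (j * i * j⁻¹) * j := by rw [hji, inv_inv]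
        _ = i := by group
        _ = (i⁻¹)⁻¹ := by simp
    have h4 : s * i⁻¹ * s⁻¹ = j⁻¹ := by rw [hj]; group
    have h5 : s * j⁻¹ * s⁻¹ = i⁻¹ * j⁻¹ := by
      have : s * j⁻¹ * s⁻¹ = (s * j * s⁻¹)⁻¹ := by group
      rw [this, ← hk, hkv]; group
    have h6 : (i⁻¹) ^ 2 ≠ 1 := by
      rw [inv_pow]
      intro h
      exact i2 (inv_eq_one.1 h)
    exact normal_sl23_of_triple hG h1 h2 h3 h4 h5 hs3 h6
  · exfalso
    -- `k = j * i²  = j⁻¹`
    have hkv : k = j⁻¹ := by
      rw [hk', h, ← hjj]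
      have : j * j * j * j = (i ^ 2) * (i ^ 2) := by
        rw [← hjj]; group
      rw [hz2] at this
      have h5 : j * j * j = j⁻¹ := by
        rw [eq_inv_iff_mul_eq_one]; exact this
      rw [← h5]; group
    apply hnorm
    have h2 : s * j * s⁻¹ = j⁻¹ := by rw [← hk, hkv]
    have h3 : j * s * j = s := by
      calc j * s * j = j * (s * j * s⁻¹) * s := by group
        _ = j * j⁻¹ * s := by rw [h2]
        _ = s := by group
    have h4 : s * i * s⁻¹ = i⁻¹ := by
      rw [← hj]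
      have h5 : j = s * i * s⁻¹ := hj
      have h6 : s⁻¹ * j⁻¹ * s = i⁻¹ := by rw [hj]; group
      have h7 : s⁻¹ * j⁻¹ * s = j := by
        rw [← h2]; group
      rw [← h7, h6]
    rw [h4]
    exact (zpowers i).inv_mem (mem_zpowers i)
  · have hkv : k = i * j := by rw [hk', h, hjcomm]
    have h2 : j ^ 2 = i ^ 2 := by rw [pow_two, hjj]
    exact normal_sl23_of_triple hG i4 h2 hji hj.symm (by rw [← hk, hkv]) hs3 i2

/-- Dihedral or semidihedral data, in a subgroup of `G`. -/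
structure DSG (T : Subgroup G) (x : G) (n : ℕ) : Prop where
  two_le : 2 ≤ n
  xT : x ∈ T
  ord : orderOf x = 2 ^ n
  card : Nat.card T = 2 ^ (n + 1)
  comm : ∀ t ∈ T, t ∉ zpowers x → x ^ 2 ∈ zpowers (x * t * x⁻¹ * t⁻¹)
  sq_conj : ∀ t ∈ T, t ∉ zpowers x → t * x ^ 2 * t⁻¹ = (x ^ 2)⁻¹
  sq : ∀ t ∈ T, t ∉ zpowers x → t * t = 1 ∨ (3 ≤ n ∧ t * t = x ^ (2 ^ (n - 1)))
  outer : ∀ t ∈ T, ∀ t' ∈ T, t ∉ zpowers x → t' ∉ zpowers x → t⁻¹ * t' ∈ zpowers x

theorem main_of_DSG [Finite G] [Group.IsSolvable G] (hO : Cfsg.oddCore G = ⊥) (T : Sylow 2 G) {x : G} {n : ℕ}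
    (d : DSG (T : Subgroup G) x n) (hne : (T : Subgroup G) ≠ ⊤)
    (hZ : ((T : Subgroup G) ⊓ centralizer ((T : Subgroup G) : Set G)).Normal) :
    ∃ U : Subgroup G, U.Normal ∧ Nonempty (↥U ≃* Matrix.SpecialLinearGroup (Fin 2) (ZMod 3)) := by
  classical
  obtain ⟨Q, hQdef⟩ : ∃ Q, Q = Cfsg.pCore 2 G := ⟨_, rfl⟩
  have hQn : Q.Normal := hQdef ▸ Cfsg.Agent.Lib.Basic.pCore_normal 2
  have hQ2 : IsPGroup 2 Q := hQdef ▸ Cfsg.Agent.Lib.Basic.pCore_isPGroup 2
  have hQT : Q ≤ T := hQdef ▸ Cfsg.Agent.Lib.Basic.pCore_le_sylow T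
  have hCQ : centralizer (Q : Set G) ≤ Q := by
    rw [hQdef]
    exact Cfsg.Agent.Lib.Basic.centralizer_pCore_le_of_pPrimeCore_eq_bot 2 hO
  have hconjQ : ∀ g : G, ∀ q ∈ Q, g * q * g⁻¹ ∈ Q := fun g q hq => hQn.conj_mem q hq g
  have hkill : ∀ g : G, Odd (orderOf g) → (∀ q ∈ Q, g * q * g⁻¹ = q) → g = 1 := by
    intro g hg hc
    have hgC : g ∈ centralizer (Q : Set G) := by
      rw [mem_centralizer_iff]
      intro q hq
      have := hc q hq
      calc q * g = (g * q * g⁻¹) * g := by rw [this]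
        _ = g * q := by group
    have hgQ := hCQ hgC
    obtain ⟨e, he⟩ := hQ2 ⟨g, hgQ⟩
    have he' : g ^ 2 ^ e = 1 := by
      have := congrArg Subtype.val he
      simpa using this
    have hco : Nat.Coprime (orderOf g) (2 ^ e) := by
      apply Nat.Coprime.pow_right
      exact (Nat.coprime_two_right).2 hg
    exact orderOf_eq_one_iff.1 (Nat.eq_one_of_dvd_coprimes hco dvd_rfl (orderOf_dvd_of_pow_eq_one he'))
  obtain ⟨g, hg1, hgodd⟩ : ∃ g : G, g ≠ 1 ∧ Odd (orderOf g) := by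
    by_contra hno
    push Not at hno
    have h2 : IsPGroup 2 G := by
      rw [IsPGroup.iff_card]
      refine ⟨(Nat.card G).primeFactorsList.length, ?_⟩
      apply Nat.eq_prime_pow_of_unique_prime_dvd Nat.card_pos.ne'
      intro p hp hpd
      haveI : Fact p.Prime := ⟨hp⟩
      obtain ⟨a, ha⟩ := exists_prime_orderOf_dvd_card' p hpd
      by_contra hp2
      have h3 : Odd p := hp.odd_of_ne_two hp2
      have h4 : a ≠ 1 := by
        intro h
        rw [h, orderOf_one] at ha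
        exact hp.one_lt.ne ha
      exact hno a h4 (ha ▸ h3)
    apply hne
    exact T.3 (h2.to_subgroup ⊤) le_top |>.symm
  have hx2ne : x ^ 2 ≠ 1 := by
    intro h
    have := orderOf_dvd_of_pow_eq_one h
    rw [d.ord] at this
    have h3 := Nat.le_of_dvd (by norm_num) this
    have h4 : 2 ^ 2 ≤ 2 ^ n := Nat.pow_le_pow_right (by norm_num) d.two_le
    omega
  by_cases hQx : Q ≤ zpowers x
  · -- `Q = ⟨x⟩`
    exfalso
    have hle : zpowers x ≤ Q := by
      rw [zpowers_le]
      apply hCQ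
      rw [mem_centralizer_iff]
      intro q hq
      obtain ⟨k, rfl⟩ := mem_zpowers_iff.1 (hQx hq)
      exact (Commute.zpow_self x k)
    have hEq : Q = zpowers x := le_antisymm hQx hle
    have hcyc : IsCyclic Q := hEq ▸ isCyclic_zpowers x
    exact hg1 (hkill g hgodd (centralizes_cyclic hgodd hcyc hQ2 (hconjQ g)))
  obtain ⟨t, htQ, htx⟩ : ∃ t ∈ Q, t ∉ zpowers x := by
    by_contra h
    push Not at h
    exact hQx h
  have hx2Q : x ^ 2 ∈ Q := by
    have h1 : x * t * x⁻¹ * t⁻¹ ∈ Q := Q.mul_mem (hconjQ x t htQ) (Q.inv_mem htQ)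
    have h2 := d.comm t (hQT htQ) htx
    have h3 : zpowers (x * t * x⁻¹ * t⁻¹) ≤ Q := by rw [zpowers_le]; exact h1
    exact h3 h2
  have hord_conj : ∀ (a : G), orderOf (g * a * g⁻¹) = orderOf a := by
    intro a
    exact MulEquiv.orderOf_eq (MulAut.conj g) a
  by_cases hxQ : x ∈ Q
  · -- `Q = T`
    exfalso
    have hzle : zpowers x ≤ Q := by rw [zpowers_le]; exact hxQ
    have hidx : ∀ q ∈ Q, ∀ q' ∈ Q, q ∉ zpowers x → q' ∉ zpowers x → q⁻¹ * q' ∈ zpowers x :=
      fun q hq q' hq' => d.outer q (hQT hq) q' (hQT hq')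
    have hnorm : g * x * g⁻¹ ∈ zpowers x := by
      by_contra hmem
      have hy := hconjQ g x hxQ
      rcases d.sq _ (hQT hy) hmem with h | ⟨h3, h⟩
      · have h1 : orderOf (g * x * g⁻¹) ∣ 2 := orderOf_dvd_of_pow_eq_one (by rw [pow_two]; exact h)
        rw [hord_conj, d.ord] at h1
        have h3 := Nat.le_of_dvd (by norm_num) h1
        have h4 : 2 ^ 2 ≤ 2 ^ n := Nat.pow_le_pow_right (by norm_num) d.two_le
        omega
      · have h1 : (g * x * g⁻¹) ^ 4 = 1 := by
          have h5 : (g * x * g⁻¹) ^ 4 = (g * x * g⁻¹ * (g * x * g⁻¹)) * (g * x * g⁻¹ * (g * x * g⁻¹)) := by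
            simp [pow_succ, mul_assoc]
          rw [h5, h, ← pow_add]
          have : 2 ^ (n - 1) + 2 ^ (n - 1) = 2 ^ n := by
            obtain ⟨m, rfl⟩ : ∃ m, n = m + 1 := ⟨n - 1, by omega⟩
            simp [pow_succ]; ring
          rw [this, ← d.ord]
          exact pow_orderOf_eq_one x
        have h2 := orderOf_dvd_of_pow_eq_one h1
        rw [hord_conj, d.ord] at h2
        have h6 := Nat.le_of_dvd (by norm_num) h2
        have h4 : 2 ^ 3 ≤ 2 ^ n := Nat.pow_le_pow_right (by norm_num) h3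
        omega
    have hnA : ∀ a ∈ zpowers x, g * a * g⁻¹ ∈ zpowers x := by
      intro a ha
      obtain ⟨k, rfl⟩ := mem_zpowers_iff.1 ha
      rw [← _root_.conj_zpow]
      exact (zpowers x).zpow_mem hnorm k
    exact hg1 (hkill g hgodd (centralizes_of_index_two hgodd (hconjQ g) (isCyclic_zpowers x)
      (hQ2.to_le hzle) hnA hidx))
  -- `x ∉ Q`: the subgroup `A = ⟨x²⟩`
  have hAle : zpowers (x ^ 2) ≤ Q := by rw [zpowers_le]; exact hx2Q
  have hQA : ∀ q ∈ Q, q ∈ zpowers x → q ∈ zpowers (x ^ 2) := by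
    intro q hq hqx
    obtain ⟨k, rfl⟩ := mem_zpowers_iff.1 hqx
    rcases Int.even_or_odd' k with ⟨l, rfl | rfl⟩
    · rw [mem_zpowers_iff]
      refine ⟨l, ?_⟩
      rw [← zpow_natCast, ← zpow_mul]
      norm_cast
    · exfalso
      apply hxQ
      have h1 : x = x ^ (2 * l + 1) * (x ^ 2) ^ (-l) := by
        rw [← zpow_natCast, ← zpow_mul, ← zpow_add]
        have : 2 * l + 1 + ((2 : ℕ) : ℤ) * -l = 1 := by push_cast; ring
        rw [this, zpow_one]
      rw [h1]
      exact Q.mul_mem hq (Q.zpow_mem hx2Q _)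
  have hidx : ∀ q ∈ Q, ∀ q' ∈ Q, q ∉ zpowers (x ^ 2) → q' ∉ zpowers (x ^ 2) →
      q⁻¹ * q' ∈ zpowers (x ^ 2) := by
    intro q hq q' hq' h1 h2
    have h3 : q ∉ zpowers x := fun h => h1 (hQA q hq h)
    have h4 : q' ∉ zpowers x := fun h => h2 (hQA q' hq' h)
    exact hQA _ (Q.mul_mem (Q.inv_mem hq) hq') (d.outer q (hQT hq) q' (hQT hq') h3 h4)
  have hfinish : g * x ^ 2 * g⁻¹ ∈ zpowers (x ^ 2) → False := by
    intro hy
    have hnA : ∀ a ∈ zpowers (x ^ 2), g * a * g⁻¹ ∈ zpowers (x ^ 2) := by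
      intro a ha
      obtain ⟨k, rfl⟩ := mem_zpowers_iff.1 ha
      rw [← _root_.conj_zpow]
      exact (zpowers (x ^ 2)).zpow_mem hy k
    exact hg1 (hkill g hgodd (centralizes_of_index_two hgodd (hconjQ g) (isCyclic_zpowers _)
      (hQ2.to_le hAle) hnA hidx))
  obtain ⟨m, hm⟩ : ∃ m, n = m + 1 := ⟨n - 1, by have := d.two_le; omega⟩
  have hordx2 : orderOf (x ^ 2) = 2 ^ m := by
    rw [orderOf_pow' x (by norm_num), d.ord, hm, pow_succ]
    have : Nat.gcd (2 ^ m * 2) 2 = 2 := Nat.gcd_eq_right (Dvd.intro_left _ rfl)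
    rw [this]
    simp
  by_cases hn2 : n = 2
  · -- `T = D₈`
    exfalso
    subst hn2
    have hm1 : m = 1 := by omega
    have hx4 : x ^ 2 * x ^ 2 = 1 := by
      rw [← pow_add]
      have h := pow_orderOf_eq_one x
      rw [d.ord] at h
      simpa using h
    have hx2inv : (x ^ 2)⁻¹ = x ^ 2 := inv_eq_of_mul_eq_one_left hx4
    have hx2Z : x ^ 2 ∈ (T : Subgroup G) ⊓ centralizer ((T : Subgroup G) : Set G) := by
      refine Subgroup.mem_inf.2 ⟨(T : Subgroup G).pow_mem d.xT 2, ?_⟩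
      rw [mem_centralizer_iff]
      intro a ha
      by_cases hax : a ∈ zpowers x
      · obtain ⟨k, rfl⟩ := mem_zpowers_iff.1 hax
        have := (Commute.zpow_zpow_self x k (2 : ℤ))
        exact_mod_cast this
      · have h1 := d.sq_conj a ha hax
        rw [hx2inv] at h1
        calc a * x ^ 2 = (a * x ^ 2 * a⁻¹) * a := by group
          _ = x ^ 2 * a := by rw [h1]
    have hyZ := hZ.conj_mem _ hx2Z g
    apply hfinish
    -- central elements commute with `t`
    have hcent : ∀ c ∈ (T : Subgroup G) ⊓ centralizer ((T : Subgroup G) : Set G), ∀ a ∈ (T : Subgroup G), a * c = c * a := by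
      intro c hc a ha
      have := (Subgroup.mem_inf.1 hc).2
      rw [mem_centralizer_iff] at this
      exact this a ha
    have hnotcomm : ∀ a ∈ (T : Subgroup G), a ∉ zpowers x → x * a ≠ a * x := by
      intro a ha hax h
      have h1 := d.comm a ha hax
      have h2 : x * a * x⁻¹ * a⁻¹ = 1 := by rw [h]; group
      rw [h2, zpowers_one_eq_bot, Subgroup.mem_bot] at h1
      exact hx2ne h1
    by_cases hyx : g * x ^ 2 * g⁻¹ ∈ zpowers x
    · obtain ⟨k, hk⟩ := mem_zpowers_iff.1 hyx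
      rcases Int.even_or_odd' k with ⟨l, rfl | rfl⟩
      · rw [mem_zpowers_iff]
        refine ⟨l, ?_⟩
        rw [← hk, ← zpow_natCast, ← zpow_mul]
        norm_cast
      · exfalso
        -- `x` would be central
        have hc1 := hcent _ hyZ t (hQT htQ)
        rw [← hk] at hc1
        apply hnotcomm t (hQT htQ) htx
        have hc2 := hcent _ hx2Z t (hQT htQ)
        have hc3 : t * (x ^ 2) ^ l = (x ^ 2) ^ l * t := by
          exact (Commute.zpow_right (show Commute t (x ^ 2) from hc2) l)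
        have h5 : x ^ (2 * l + 1) = (x ^ 2) ^ l * x := by
          rw [zpow_add_one, ← zpow_natCast, ← zpow_mul]
          norm_cast
        rw [h5] at hc1
        have h6 : (x ^ 2) ^ l * (t * x) = (x ^ 2) ^ l * (x * t) := by
          calc (x ^ 2) ^ l * (t * x) = (t * (x ^ 2) ^ l) * x := by rw [hc3]; group
            _ = t * ((x ^ 2) ^ l * x) := by group
            _ = (x ^ 2) ^ l * x * t := hc1
            _ = (x ^ 2) ^ l * (x * t) := by group
        exact (mul_left_cancel h6).symm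
    · exfalso
      have hT' : g * x ^ 2 * g⁻¹ ∈ (T : Subgroup G) := (Subgroup.mem_inf.1 hyZ).1
      apply hnotcomm _ hT' hyx
      exact (hcent _ hyZ x d.xT)
  -- `n ≥ 3`
  have hn3 : 3 ≤ n := by have := d.two_le; omega
  by_cases hy : g * x ^ 2 * g⁻¹ ∈ zpowers (x ^ 2)
  · exact (hfinish hy).elim
  have hyQ := hconjQ g _ hx2Q
  have hyx : g * x ^ 2 * g⁻¹ ∉ zpowers x := fun h => hy (hQA _ hyQ h)
  have hordy : orderOf (g * x ^ 2 * g⁻¹) = 2 ^ m := by rw [hord_conj, hordx2]
  have hm2 : 2 ≤ m := by omega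
  have h2m : 2 ^ 2 ≤ 2 ^ m := Nat.pow_le_pow_right (by norm_num) hm2
  rcases d.sq _ (hQT hyQ) hyx with h | ⟨-, h⟩
  · exfalso
    have h1 : orderOf (g * x ^ 2 * g⁻¹) ∣ 2 := orderOf_dvd_of_pow_eq_one (by rw [pow_two]; exact h)
    rw [hordy] at h1
    have h3 := Nat.le_of_dvd (by norm_num) h1
    omega
  -- the `Q₈` case
  obtain ⟨w, hw⟩ : ∃ w, w = g * x ^ 2 * g⁻¹ := ⟨_, rfl⟩
  rw [← hw] at h hyQ hyx hordy hy
  have hnm : n - 1 = m := by omega
  rw [hnm] at h
  have hw4 : w ^ 4 = 1 := by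
    have h5 : w ^ 4 = (w * w) * (w * w) := by simp [pow_succ, mul_assoc]
    rw [h5, h, ← pow_add]
    have : 2 ^ m + 2 ^ m = 2 ^ n := by rw [hm, pow_succ]; ring
    rw [this, ← d.ord]
    exact pow_orderOf_eq_one x
  have h4 := orderOf_dvd_of_pow_eq_one hw4
  rw [hordy] at h4
  have h5 := Nat.le_of_dvd (by norm_num) h4
  have hm2' : m = 2 := by
    by_contra hne2
    have : 2 ^ 3 ≤ 2 ^ m := Nat.pow_le_pow_right (by norm_num) (by omega)
    omega
  subst hm2'
  have hn : n = 3 := by omega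
  subst hn
  have hord8 : orderOf x = 8 := by rw [d.ord]; norm_num
  have hi4 : (x ^ 2) ^ 4 = 1 := by
    rw [← pow_mul]
    have h := pow_orderOf_eq_one x
    rw [hord8] at h
    exact h
  have hi2 : (x ^ 2) ^ 2 ≠ 1 := by
    rw [← pow_mul]
    intro h1
    have h2 := orderOf_dvd_of_pow_eq_one h1
    rw [hord8] at h2
    omega
  have ht2 : w * w = (x ^ 2) ^ 2 := by
    rw [h, ← pow_mul]
    norm_num
  have hti : w * x ^ 2 * w⁻¹ = (x ^ 2)⁻¹ := d.sq_conj w (hQT hyQ) hyx
  have hform : ∀ q ∈ Q, q ∈ zpowers (x ^ 2) ∨ w⁻¹ * q ∈ zpowers (x ^ 2) := by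
    intro q hq
    by_cases hqA : q ∈ zpowers (x ^ 2)
    · exact Or.inl hqA
    · exact Or.inr (hidx w hyQ q hq hy hqA)
  have hcardT : Nat.card T = 16 := by
    have := d.card
    rw [this]
    norm_num
  exact bad_case hQn hQ2 hCQ hx2Q hyQ hi4 hi2 ht2 hti hform T hcardT hne

/-- Dihedral or semidihedral data on an abstract group. -/
structure DSA (S : Type*) [Group S] (x : S) (n : ℕ) : Prop where
  two_le : 2 ≤ n
  ord : orderOf x = 2 ^ n
  card : Nat.card S = 2 ^ (n + 1)
  comm : ∀ t : S, t ∉ zpowers x → x ^ 2 ∈ zpowers (x * t * x⁻¹ * t⁻¹)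
  sq_conj : ∀ t : S, t ∉ zpowers x → t * x ^ 2 * t⁻¹ = (x ^ 2)⁻¹
  sq : ∀ t : S, t ∉ zpowers x → t * t = 1 ∨ (3 ≤ n ∧ t * t = x ^ (2 ^ (n - 1)))
  outer : ∀ t t' : S, t ∉ zpowers x → t' ∉ zpowers x → t⁻¹ * t' ∈ zpowers x

theorem DSA.toG {T : Subgroup G} {x : T} {n : ℕ} (d : DSA T x n) : DSG T (x : G) n := by
  have hmem : ∀ t (ht : t ∈ T), t ∉ zpowers (x : G) → (⟨t, ht⟩ : T) ∉ zpowers x := by
    intro t ht h1 h2
    obtain ⟨k, hk⟩ := mem_zpowers_iff.1 h2
    apply h1
    rw [mem_zpowers_iff]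
    exact ⟨k, by simpa using congrArg Subtype.val hk⟩
  have hback : ∀ a b : T, a ∈ zpowers b → (a : G) ∈ zpowers (b : G) := by
    intro a b h2
    obtain ⟨k, hk⟩ := mem_zpowers_iff.1 h2
    rw [mem_zpowers_iff]
    exact ⟨k, by simpa using congrArg Subtype.val hk⟩
  refine ⟨d.two_le, x.2, ?_, d.card, ?_, ?_, ?_, ?_⟩
  · rw [Subgroup.orderOf_coe]; exact d.ord
  · intro t ht h
    exact hback _ _ (d.comm ⟨t, ht⟩ (hmem t ht h))
  · intro t ht h
    exact congrArg Subtype.val (d.sq_conj ⟨t, ht⟩ (hmem t ht h))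
  · intro t ht h
    rcases d.sq ⟨t, ht⟩ (hmem t ht h) with h1 | ⟨h3, h1⟩
    · exact Or.inl (congrArg Subtype.val h1)
    · exact Or.inr ⟨h3, congrArg Subtype.val h1⟩
  · intro t ht t' ht' h h'
    exact hback _ _ (d.outer ⟨t, ht⟩ ⟨t', ht'⟩ (hmem t ht h) (hmem t' ht' h'))

/-- Data for the dihedral group. -/
theorem dsa_dihedral {m n : ℕ} (hm : m = 2 ^ n) (hn : 2 ≤ n) :
    DSA (DihedralGroup m) (DihedralGroup.r 1) n := by
  haveI hne : NeZero m := ⟨by rw [hm]; positivity⟩
  have hzp : ∀ i : ZMod m, (DihedralGroup.r i : DihedralGroup m) ∈ zpowers (DihedralGroup.r 1 : DihedralGroup m) := by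
    intro i
    rw [mem_zpowers_iff]
    refine ⟨i.val, ?_⟩
    rw [zpow_natCast, DihedralGroup.r_one_pow]
    simp
  have hout : ∀ t : DihedralGroup m, t ∉ zpowers (DihedralGroup.r 1 : DihedralGroup m) →
      ∃ i : ZMod m, t = DihedralGroup.sr i := by
    intro t ht
    rcases t with i | i
    · exact absurd (hzp i) ht
    · exact ⟨i, rfl⟩
  refine ⟨hn, ?_, ?_, ?_, ?_, ?_, ?_⟩
  · rw [DihedralGroup.orderOf_r_one, hm]
  · rw [DihedralGroup.nat_card, hm, pow_succ]; ring
  · intro t ht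
    obtain ⟨i, rfl⟩ := hout t ht
    have : (DihedralGroup.r 1 : DihedralGroup m) * DihedralGroup.sr i * (DihedralGroup.r 1)⁻¹ * (DihedralGroup.sr i)⁻¹ =
        (DihedralGroup.r 1) ^ 2 := by
      simp [DihedralGroup.inv_r, DihedralGroup.inv_sr, pow_two, DihedralGroup.r_mul_sr, DihedralGroup.sr_mul_r, DihedralGroup.sr_mul_sr]
      ring
    rw [this]
    exact mem_zpowers _
  · intro t ht
    obtain ⟨i, rfl⟩ := hout t ht
    simp [DihedralGroup.inv_r, DihedralGroup.inv_sr, pow_two, DihedralGroup.r_mul_sr, DihedralGroup.sr_mul_r, DihedralGroup.sr_mul_sr]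
  · intro t ht
    obtain ⟨i, rfl⟩ := hout t ht
    left
    simp [DihedralGroup.sr_mul_sr]
  · intro t t' ht ht'
    obtain ⟨i, rfl⟩ := hout t ht
    obtain ⟨j, rfl⟩ := hout t' ht'
    simp only [DihedralGroup.inv_sr, DihedralGroup.sr_mul_sr]
    exact hzp _

/-- Data for the quasi-dihedral group. -/
theorem dsa_qd {S : Type*} [Group S] [Finite S] (hS : Cfsg.IsQuasiDihedral S) :
    ∃ (x : S) (n : ℕ), DSA S x n := by
  obtain ⟨l, x, y, k, h, hl⟩ := Cfsg.Agent.Lib.TwoGroups.exists_QDL hS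
  have hlZ := h.lZ
  have hxX : ∀ t : S, t ∉ zpowers x → ∃ i : ℤ, t = x ^ i * y := by
    intro t ht
    obtain ⟨i, hi | hi⟩ := h.exists_nf t
    · exact absurd (hi ▸ zpow_mem_zpowers x i) ht
    · exact ⟨i, hi⟩
  have h8l : (8 * l : ℕ) = 2 ^ (k + 3) := by rw [hl]; ring
  refine ⟨x, k + 3, by omega, ?_, ?_, ?_, ?_, ?_, ?_⟩
  · rw [h.ord, h8l]
  · rw [h.card, hl]; ring
  · intro t ht
    obtain ⟨i, rfl⟩ := hxX t ht
    have h1 := h.conj_XY_X i (-1)
    have h2 : x * (x ^ i * y) * x⁻¹ * (x ^ i * y)⁻¹ = x ^ (2 - 4 * (l : ℤ)) := by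
      have h3 : x * (x ^ i * y) * x⁻¹ * (x ^ i * y)⁻¹ = x * ((x ^ i * y) * x ^ (-1 : ℤ) * (x ^ i * y)⁻¹) := by
        simp [mul_assoc]
      rw [h3, h1, ← zpow_one_add]
      congr 1
      ring
    rw [h2]
    obtain ⟨c, hc⟩ := Cfsg.Agent.Lib.TwoGroups.QDL.solve (l : ℤ) 1
    rw [mem_zpowers_iff]
    refine ⟨c, ?_⟩
    rw [← zpow_mul]
    have : x ^ 2 = x ^ (2 : ℤ) := by norm_cast
    rw [this, h.zpow_eq_iff]
    simpa using hc
  · intro t ht
    obtain ⟨i, rfl⟩ := hxX t ht
    have h1 := h.conj_XY_X i 2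
    have : x ^ 2 = x ^ (2 : ℤ) := by norm_cast
    rw [this, h1, ← zpow_neg, h.zpow_eq_iff]
    exact ⟨1, by ring⟩
  · intro t ht
    obtain ⟨i, rfl⟩ := hxX t ht
    rw [h.sq_Y i]
    rcases Int.even_or_odd' i with ⟨c, rfl | rfl⟩
    · left
      rw [h.zpow_eq_one_iff]
      exact ⟨c, by ring⟩
    · right
      refine ⟨by omega, ?_⟩
      have : x ^ 2 ^ (k + 3 - 1) = x ^ (4 * (l : ℤ)) := by
        rw [← zpow_natCast]
        congr 1
        have : k + 3 - 1 = k + 2 := by omega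
        rw [this, hl]
        push_cast
        ring
      rw [this, h.zpow_eq_iff]
      exact ⟨c, by ring⟩
  · intro t t' ht ht'
    obtain ⟨i, rfl⟩ := hxX t ht
    obtain ⟨j, rfl⟩ := hxX t' ht'
    have h1 : (x ^ i * y)⁻¹ * (x ^ j * y) = y⁻¹ * x ^ (j - i) * y := by
      have h3 : x ^ (-i) * x ^ j = x ^ (j - i) := by
        rw [← zpow_add]; congr 1; ring
      rw [← h3]
      simp [mul_assoc, zpow_neg]
    rw [h1, h.yinv]
    have h2 := h.conj_zpow (j - i)
    rw [h.yinv] at h2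
    rw [h2]
    exact zpow_mem_zpowers _ _

theorem DSA.of_equiv {S S' : Type*} [Group S] [Group S'] (e : S ≃* S') {x : S} {n : ℕ} (d : DSA S x n) :
    DSA S' (e x) n := by
  have hmem : ∀ t : S', t ∉ zpowers (e x) → e.symm t ∉ zpowers x := by
    intro t h1 h2
    obtain ⟨k, hk⟩ := mem_zpowers_iff.1 h2
    apply h1
    rw [mem_zpowers_iff]
    refine ⟨k, ?_⟩
    rw [← map_zpow, hk]
    simp
  have hback : ∀ a b : S, a ∈ zpowers b → e a ∈ zpowers (e b) := by
    intro a b h2
    obtain ⟨k, hk⟩ := mem_zpowers_iff.1 h2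
    rw [mem_zpowers_iff]
    exact ⟨k, by rw [← map_zpow, hk]⟩
  refine ⟨d.two_le, ?_, ?_, ?_, ?_, ?_, ?_⟩
  · rw [MulEquiv.orderOf_eq]; exact d.ord
  · rw [← Nat.card_congr e.toEquiv]; exact d.card
  · intro t h
    have h1 := hback _ _ (d.comm (e.symm t) (hmem t h))
    simpa using h1
  · intro t h
    have h1 := congrArg e (d.sq_conj (e.symm t) (hmem t h))
    simpa using h1
  · intro t h
    rcases d.sq (e.symm t) (hmem t h) with h1 | ⟨h3, h1⟩
    · left
      have h2 := congrArg e h1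
      simpa using h2
    · right
      refine ⟨h3, ?_⟩
      have h2 := congrArg e h1
      simpa using h2
  · intro t t' h h'
    have h1 := hback _ _ (d.outer (e.symm t) (e.symm t') (hmem t h) (hmem t' h'))
    simpa using h1

theorem solvable_ds_main {G : Type*} [Group G] [Finite G] (hsol : Group.IsSolvable G) (hO : Cfsg.oddCore G = ⊥)
    (T : Sylow 2 G)
    (hT : (∃ n : ℕ, 4 ≤ n ∧ Nonempty (↥(T : Subgroup G) ≃* DihedralGroup n)) ∨ Cfsg.IsQuasiDihedral ↥(T : Subgroup G))
    (hne : (T : Subgroup G) ≠ ⊤)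
    (hZ : ((T : Subgroup G) ⊓ Subgroup.centralizer ((T : Subgroup G) : Set G)).Normal) :
    ∃ U : Subgroup G, U.Normal ∧ Nonempty (↥U ≃* Matrix.SpecialLinearGroup (Fin 2) (ZMod 3)) := by
  rcases hT with ⟨m, hm, ⟨e⟩⟩ | hq
  · obtain ⟨s, hs⟩ := IsPGroup.iff_card.1 T.isPGroup'
    haveI : NeZero m := ⟨by omega⟩
    have hcard : Nat.card T = 2 * m := by
      rw [Nat.card_congr e.toEquiv, DihedralGroup.nat_card]
    obtain ⟨n, rfl⟩ : ∃ n, s = n + 1 := by
      refine ⟨s - 1, ?_⟩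
      rcases s with _ | s
      · rw [hs] at hcard; omega
      · simp
    have hmn : m = 2 ^ n := by
      rw [hs, pow_succ] at hcard
      omega
    have hn : 2 ≤ n := by
      by_contra hlt
      have : n = 0 ∨ n = 1 := by omega
      rcases this with rfl | rfl <;> simp at hmn <;> omega
    have d := (dsa_dihedral hmn hn).of_equiv e.symm
    exact main_of_DSG hO T d.toG hne hZ
  · obtain ⟨x, n, d⟩ := dsa_qd hq
    exact main_of_DSG hO T d.toG hne hZ

end Cfsg.Agent.Lib.LocalEven.SolvDS
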