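import Cfsg.Agent.Lib.LocalEven.CharPFacts
import Cfsg.Agent.Lib.Basic.Frattini
import Mathlib.GroupTheory.Transfer
import Mathlib.GroupTheory.SpecificGroups.Dihedral

/-! Transfer into a group of order two. -/

namespace Cfsg.Agent.Lib.LocalEven

open Cfsg Cfsg.Agent.Lib.Basic MulAction Subgroup

variable {G : Type*} [Group G]

theorem mult2_facts : ∃ a : Multiplicative (ZMod 2), a ≠ 1 ∧ (∀ c : Multiplicative (ZMod 2), c = 1 ∨ c = a) ∧ a * a = 1 :=
  ⟨Multiplicative.ofAdd 1, by decide, by decide, by decide⟩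

/-- Transfer of a character of order two evaluated on a central involution. -/
theorem transfer_eval [Finite G] (S : Sylow 2 G) (M₀ : Subgroup G) (hM₀S : M₀ ≤ S)
    (hM₀n : (S : Subgroup G) ≤ normalizer (M₀ : Set G))
    (ϕ : ↥(S : Subgroup G) →* Multiplicative (ZMod 2))
    (hϕ : ∀ x : ↥(S : Subgroup G), ϕ x = 1 ↔ (x : G) ∈ M₀)
    (z : G) (hzS : z ∈ (S : Subgroup G)) (hz2 : z ^ 2 = 1) (hzc : ∀ s ∈ (S : Subgroup G), s * z = z * s)
    (hfix : ∀ g ∈ normalizer ((S : Subgroup G) : Set G), g * z * g⁻¹ ∉ M₀) :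
    ϕ.transfer z ≠ 1 := by
  classical
  obtain ⟨a, ha1, hcases, ha2⟩ := mult2_facts
  haveI : Fact (Nat.Prime 2) := ⟨Nat.prime_two⟩
  haveI : Fintype (G ⧸ (S : Subgroup G)) := Fintype.ofFinite _
  -- the predicate on elements
  let W : G → Prop := fun t => t⁻¹ * z * t ∈ (S : Subgroup G) ∧ t⁻¹ * z * t ∉ M₀
  have hWr : ∀ t : G, ∀ s ∈ (S : Subgroup G), W (t * s) ↔ W t := by
    intro t s hs
    have e : (t * s)⁻¹ * z * (t * s) = s⁻¹ * (t⁻¹ * z * t) * s := by group
    simp only [W, e]
    have h1 : ∀ y, s⁻¹ * y * s ∈ (S : Subgroup G) ↔ y ∈ (S : Subgroup G) := by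
      intro y
      constructor
      · intro h
        have e2 : y = s * (s⁻¹ * y * s) * s⁻¹ := by group
        rw [e2]
        exact mul_mem (mul_mem hs h) (inv_mem hs)
      · intro h
        exact mul_mem (mul_mem (inv_mem hs) h) hs
    have h2 : ∀ y, s⁻¹ * y * s ∈ M₀ ↔ y ∈ M₀ := by
      intro y
      have h3 := Subgroup.mem_normalizer_iff.1 (hM₀n (inv_mem hs)) y
      rw [inv_inv] at h3
      exact h3.symm
    rw [h1, h2]
  have hWl : ∀ t : G, ∀ s ∈ (S : Subgroup G), W (s * t) ↔ W t := by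
    intro t s hs
    have e : (s * t)⁻¹ * z * (s * t) = t⁻¹ * z * t := by
      have h1 : s⁻¹ * z * s = z := by
        have := hzc s hs
        rw [mul_assoc, ← this]
        group
      calc (s * t)⁻¹ * z * (s * t) = t⁻¹ * (s⁻¹ * z * s) * t := by group
        _ = t⁻¹ * z * t := by rw [h1]
    simp only [W, e]
  -- the predicate on cosets
  let P : G ⧸ (S : Subgroup G) → Prop := fun ω => W ω.out
  have hPmk : ∀ t : G, P (t : G ⧸ (S : Subgroup G)) ↔ W t := by
    intro t
    obtain ⟨s, hs⟩ := QuotientGroup.mk_out_eq_mul (S : Subgroup G) t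
    show W (t : G ⧸ (S : Subgroup G)).out ↔ W t
    rw [hs]
    exact hWr t s s.2
  -- the fixed points of `S` lie in `P`
  have hPfix : ∀ t : G, (∀ s ∈ (S : Subgroup G), ((s * t : G) : G ⧸ (S : Subgroup G)) = (t : G ⧸ (S : Subgroup G))) →
      W t := by
    intro t ht
    have hle : cj t⁻¹ (S : Subgroup G) ≤ S := by
      rintro _ ⟨s, hs, rfl⟩
      have h1 := ht s hs
      rw [eq_comm, QuotientGroup.eq] at h1
      simp only [MulEquiv.coe_toMonoidHom, MulAut.conj_apply, inv_inv]
      have e : t⁻¹ * s * t = t⁻¹ * (s * t) := by group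
      rw [e]
      exact h1
    have heq : cj t⁻¹ (S : Subgroup G) = S := Subgroup.eq_of_le_of_card_ge hle (by rw [card_cj])
    have hg : t⁻¹ ∈ normalizer ((S : Subgroup G) : Set G) := mem_normalizer_of_cj_eq heq
    have h2 := hfix _ hg
    rw [inv_inv] at h2
    refine ⟨?_, h2⟩
    have := hle (conj_mem_cj hzS)
    rwa [inv_inv] at this
  -- invariance
  have hPs : ∀ s : ↥(S : Subgroup G), ∀ ω : G ⧸ (S : Subgroup G), P (s • ω) ↔ P ω := by
    intro s ω
    obtain ⟨t, rfl⟩ := QuotientGroup.mk_surjective ω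
    have e : s • (t : G ⧸ (S : Subgroup G)) = (((s : G) * t : G) : G ⧸ (S : Subgroup G)) := rfl
    rw [e, hPmk, hPmk]
    exact hWl t s s.2
  -- counting
  have hNP : 2 ∣ Nat.card {ω : G ⧸ (S : Subgroup G) // ¬ P ω} := by
    letI act : MulAction ↥(S : Subgroup G) {ω : G ⧸ (S : Subgroup G) // ¬ P ω} :=
      { smul := fun s ω => ⟨s • ω.1, fun h => ω.2 ((hPs s ω.1).1 h)⟩
        one_smul := fun ω => Subtype.ext (one_smul _ ω.1)
        mul_smul := fun a b ω => Subtype.ext (mul_smul a b ω.1) }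
    have h1 := S.isPGroup'.card_modEq_card_fixedPoints {ω : G ⧸ (S : Subgroup G) // ¬ P ω}
    have hemp : IsEmpty (MulAction.fixedPoints ↥(S : Subgroup G) {ω : G ⧸ (S : Subgroup G) // ¬ P ω}) := by
      refine ⟨fun ⟨⟨ω, hω⟩, hf⟩ => ?_⟩
      obtain ⟨t, rfl⟩ := QuotientGroup.mk_surjective ω
      apply hω
      rw [hPmk]
      apply hPfix
      intro s hs
      exact congrArg Subtype.val (hf ⟨s, hs⟩)
    have hz0 : Nat.card (MulAction.fixedPoints ↥(S : Subgroup G) {ω : G ⧸ (S : Subgroup G) // ¬ P ω}) = 0 :=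
      Nat.card_of_isEmpty
    rw [hz0] at h1
    exact Nat.modEq_zero_iff_dvd.1 h1
  have hodd : ¬ 2 ∣ Nat.card {ω : G ⧸ (S : Subgroup G) // P ω} := by
    intro hd
    have h1 := S.not_dvd_index
    apply h1
    rw [Subgroup.index_eq_card]
    have h2 := Nat.card_congr (Equiv.sumCompl P)
    rw [Nat.card_sum] at h2
    rw [← h2]
    exact dvd_add hd hNP
  -- the transfer
  haveI : Fintype (Quotient (orbitRel ↥(zpowers z) (G ⧸ (S : Subgroup G)))) := Fintype.ofFinite _
  have hkey : ∀ (ω : G ⧸ (S : Subgroup G)) (n : ℕ)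
      (hn : ω.out⁻¹ * z ^ n * ω.out ∈ (S : Subgroup G)),
      n = Function.minimalPeriod (z • ·) ω →
      ϕ ⟨ω.out⁻¹ * z ^ n * ω.out, hn⟩ = if P ω then a else 1 := by
    intro ω n hn hn'
    have hωe : ((ω.out : G) : G ⧸ (S : Subgroup G)) = ω := Quotient.out_eq' ω
    by_cases hf : z • ω = ω
    · have h1 : Function.minimalPeriod (z • ·) ω = 1 :=
        Function.minimalPeriod_eq_one_iff_isFixedPt.2 hf
      rw [h1] at hn'
      subst hn'
      have hc : ω.out⁻¹ * z * ω.out ∈ (S : Subgroup G) := by simpa using hn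
      have e : (⟨ω.out⁻¹ * z ^ 1 * ω.out, hn⟩ : ↥(S : Subgroup G)) = ⟨ω.out⁻¹ * z * ω.out, hc⟩ :=
        Subtype.ext (by simp)
      rw [e]
      by_cases hP : P ω
      · rw [if_pos hP]
        have h3 : ϕ ⟨ω.out⁻¹ * z * ω.out, hc⟩ ≠ 1 := fun h4 => hP.2 ((hϕ _).1 h4)
        exact (hcases _).resolve_left h3
      · rw [if_neg hP]
        apply (hϕ _).2
        by_contra h5
        exact hP ⟨hc, h5⟩
    · have hperiodic : Function.IsPeriodicPt (z • ·) 2 ω := by
        show (z • ·)^[2] ω = ω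
        simp only [Function.iterate_succ, Function.iterate_zero, Function.comp_apply, id_eq]
        rw [smul_smul, ← pow_two, hz2, one_smul]
      have h1 := hperiodic.minimalPeriod_dvd
      have h2 : Function.minimalPeriod (z • ·) ω ≠ 1 := by
        intro e
        exact hf (Function.minimalPeriod_eq_one_iff_isFixedPt.1 e)
      have h3 : Function.minimalPeriod (z • ·) ω = 2 :=
        ((Nat.dvd_prime Nat.prime_two).1 h1).resolve_left h2
      rw [h3] at hn'
      subst hn'
      have hnP : ¬ P ω := by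
        intro hP
        apply hf
        have h4 := hP.1
        rw [← hωe]
        show ((z * ω.out : G) : G ⧸ (S : Subgroup G)) = _
        rw [hωe, eq_comm, ← hωe, QuotientGroup.eq]
        have : (ω.out : G) = (ω.out : G) := rfl
        simpa [mul_assoc] using h4
      rw [if_neg hnP]
      apply (hϕ _).2
      have e : ω.out⁻¹ * z ^ 2 * ω.out = 1 := by rw [hz2]; group
      show ω.out⁻¹ * z ^ 2 * ω.out ∈ M₀
      rw [e]
      exact one_mem _
  rw [MonoidHom.transfer_eq_prod_quotient_orbitRel_zpowers_quot]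
  rw [Finset.prod_congr rfl (fun q _ => hkey q.out _ _ rfl)]
  rw [Finset.prod_ite, Finset.prod_const, Finset.prod_const_one, mul_one]
  -- the count
  have hcount : (Finset.univ.filter (fun q : Quotient (orbitRel ↥(zpowers z) (G ⧸ (S : Subgroup G))) => P q.out)).card =
      Nat.card {ω : G ⧸ (S : Subgroup G) // P ω} := by
    rw [Nat.card_eq_fintype_card, Fintype.card_subtype]
    apply Finset.card_bij (fun q _ => q.out)
    · intro q hq
      simpa using hq
    · intro q _ q' _ h
      exact Quotient.out_injective h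
    · intro ω hω
      have hPω : P ω := by simpa using hω
      have hfω : z • ω = ω := by
        obtain ⟨t, rfl⟩ := QuotientGroup.mk_surjective ω
        have hW := (hPmk t).1 hPω
        show ((z * t : G) : G ⧸ (S : Subgroup G)) = _
        rw [eq_comm, QuotientGroup.eq]
        simpa [mul_assoc] using hW.1
      have hout : (Quotient.mk'' ω : Quotient (orbitRel ↥(zpowers z) (G ⧸ (S : Subgroup G)))).out = ω := by
        have h1 : (Quotient.mk'' ω : Quotient (orbitRel ↥(zpowers z) (G ⧸ (S : Subgroup G)))).out ∈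
            MulAction.orbit ↥(zpowers z) ω := Quotient.mk_out (s := orbitRel ↥(zpowers z) (G ⧸ (S : Subgroup G))) ω
        obtain ⟨σ, hσ⟩ := h1
        rw [← hσ]
        have h2 : z ∈ MulAction.stabilizer G ω := hfω
        have h3 : (σ : G) ∈ MulAction.stabilizer G ω := by
          have : zpowers z ≤ MulAction.stabilizer G ω := by
            rw [zpowers_le]; exact h2
          exact this σ.2
        exact h3
      refine ⟨Quotient.mk'' ω, ?_, hout⟩
      simp only [Finset.mem_filter, Finset.mem_univ, true_and]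
      rw [hout]
      exact hPω
  rw [hcount]
  have hn := Nat.odd_iff.2 (Nat.mod_two_ne_zero.1 (fun h => hodd (Nat.dvd_of_mod_eq_zero h)))
  obtain ⟨k, hk⟩ := hn
  rw [hk, pow_succ, pow_mul, pow_two, ha2, one_pow, one_mul]
  exact ha1

/-- S2872. -/
theorem main_S2872 [Finite G] (S : Sylow 2 G) :
    pResidual 2 G ≠ ⊤ ∨ omegaOne 2 ((S : Subgroup G) ⊓ Subgroup.centralizer ((S : Subgroup G) : Set G)) ≤
        (frattini ↥(S : Subgroup G)).map (S : Subgroup G).subtype ∨
      ∃ g ∈ Subgroup.normalizer ((S : Subgroup G) : Set G),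
        ∃ z ∈ omegaOne 2 ((S : Subgroup G) ⊓ Subgroup.centralizer ((S : Subgroup G) : Set G)), g * z * g⁻¹ ≠ z := by
  classical
  obtain ⟨a, ha1, hcases, ha2⟩ := mult2_facts
  haveI : Fact (Nat.Prime 2) := ⟨Nat.prime_two⟩
  by_contra hcon
  push Not at hcon
  obtain ⟨hres, hnΦ, hfix⟩ := hcon
  obtain ⟨z, hz, hzΦ⟩ := Set.not_subset.1 hnΦ
  have hel := omegaOne_center_isElementaryAbelian (p := 2) (S : Subgroup G)
  have hz2 : z ^ 2 = 1 := hel.2 z hz
  have hzS := omegaOne_le (le_refl _) hz
  set z' : ↥(S : Subgroup G) := ⟨z, hzS.1⟩ with hz'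
  have hz'Φ : z' ∉ frattini ↥(S : Subgroup G) := fun h => hzΦ ⟨z', h, rfl⟩
  rw [mem_frattini_iff] at hz'Φ
  push Not at hz'Φ
  obtain ⟨M, hM, hzM⟩ := hz'Φ
  obtain ⟨hMn, hMi⟩ := Cfsg.Agent.Lib.Transfer.normal_and_index_of_isCoatom S.isPGroup' hM
  haveI := hMn
  have hcardq : Nat.card (↥(S : Subgroup G) ⧸ M) = 2 := by
    rw [← Subgroup.index_eq_card]; exact hMi
  have hcard2 : Nat.card (Multiplicative (ZMod 2)) = 2 := by simp
  let e : (↥(S : Subgroup G) ⧸ M) ≃* Multiplicative (ZMod 2) := mulEquivOfPrimeCardEq hcardq hcard2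
  let ϕ : ↥(S : Subgroup G) →* Multiplicative (ZMod 2) := e.toMonoidHom.comp (QuotientGroup.mk' M)
  set M₀ := M.map (S : Subgroup G).subtype with hM₀
  have hϕ : ∀ x : ↥(S : Subgroup G), ϕ x = 1 ↔ (x : G) ∈ M₀ := by
    intro x
    have e1 : ϕ x = 1 ↔ x ∈ M := by
      show e (QuotientGroup.mk' M x) = 1 ↔ _
      rw [map_eq_one_iff e e.injective]
      exact QuotientGroup.eq_one_iff x
    rw [e1]
    constructor
    · intro h; exact ⟨x, h, rfl⟩
    · rintro ⟨y, hy, hyx⟩
      have : y = x := Subtype.ext hyx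
      rwa [← this]
  have hM₀S : M₀ ≤ S := by
    rintro _ ⟨x, _, rfl⟩; exact x.2
  have hM₀n : (S : Subgroup G) ≤ normalizer (M₀ : Set G) := by
    intro s hs
    rw [Subgroup.mem_normalizer_iff]
    intro x
    constructor
    · rintro ⟨y, hy, rfl⟩
      exact ⟨⟨s, hs⟩ * y * ⟨s, hs⟩⁻¹, hMn.conj_mem y hy _, rfl⟩
    · rintro ⟨y, hy, hye⟩
      have h1 : x = s⁻¹ * y * s := by
        have h2 : (y : G) = s * x * s⁻¹ := hye
        rw [h2]; group
      refine ⟨(⟨s, hs⟩ : ↥(S : Subgroup G))⁻¹ * y * ((⟨s, hs⟩ : ↥(S : Subgroup G))⁻¹)⁻¹, hMn.conj_mem y hy _, ?_⟩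
      rw [h1]
      simp
  have hzc : ∀ s ∈ (S : Subgroup G), s * z = z * s := fun s hs =>
    Subgroup.mem_centralizer_iff.1 hzS.2 s hs
  have hfix' : ∀ g ∈ normalizer ((S : Subgroup G) : Set G), g * z * g⁻¹ ∉ M₀ := by
    intro g hg
    rw [hfix g hg z hz]
    rintro ⟨y, hy, hye⟩
    have : y = z' := Subtype.ext hye
    exact hzM (this ▸ hy)
  have hV := transfer_eval S M₀ hM₀S hM₀n ϕ hϕ z hzS.1 hz2 hzc hfix'
  apply hV
  -- the transfer is trivial
  have hker : pResidual 2 G ≤ (ϕ.transfer).ker := by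
    delta pResidual
    rw [Subgroup.closure_le]
    intro g hg
    have hg' : Nat.Coprime (orderOf g) 2 := hg
    rw [SetLike.mem_coe, MonoidHom.mem_ker]
    have h1 : (ϕ.transfer g) ^ orderOf g = 1 := by
      rw [← map_pow, pow_orderOf_eq_one, map_one]
    have h2 : (ϕ.transfer g) ^ 2 = 1 := by
      rcases hcases (ϕ.transfer g) with h | h
      · rw [h, one_pow]
      · rw [h, pow_two, ha2]
    have h3 := Nat.dvd_gcd (orderOf_dvd_of_pow_eq_one h1) (orderOf_dvd_of_pow_eq_one h2)
    rw [hg'] at h3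
    exact orderOf_eq_one_iff.1 (Nat.dvd_one.1 h3)
  rw [hres] at hker
  exact hker (Subgroup.mem_top z)

/-- The group `C₂ × D₈`. -/
abbrev TT := Multiplicative (ZMod 2) × DihedralGroup 4

set_option maxRecDepth 100000 in
theorem TT_sq : ∀ x : TT, x * x = 1 ∨ x * x = (1, DihedralGroup.r 2) := by decide

set_option maxRecDepth 100000 in
theorem TT_center : ∀ x : TT, (∀ y : TT, x * y = y * x) →
    x = 1 ∨ x = (Multiplicative.ofAdd 1, 1) ∨ x = (1, DihedralGroup.r 2) ∨
      x = (Multiplicative.ofAdd 1, DihedralGroup.r 2) := by decide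

set_option maxRecDepth 100000 in
theorem TT_facts : ((1, DihedralGroup.r 1) : TT) * (1, DihedralGroup.r 1) = (1, DihedralGroup.r 2) ∧
    (∀ y : TT, ((Multiplicative.ofAdd 1, 1) : TT) * y = y * (Multiplicative.ofAdd 1, 1)) ∧
    (∀ y : TT, ((1, DihedralGroup.r 2) : TT) * y = y * (1, DihedralGroup.r 2)) ∧
    ((Multiplicative.ofAdd 1, 1) : TT) ≠ 1 ∧ ((1, DihedralGroup.r 2) : TT) ≠ 1 ∧
    ((Multiplicative.ofAdd 1, 1) : TT) ≠ (1, DihedralGroup.r 2) ∧
    ((Multiplicative.ofAdd 1, DihedralGroup.r 2) : TT) = (Multiplicative.ofAdd 1, 1) * (1, DihedralGroup.r 2) ∧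
    ((1, DihedralGroup.r 2) : TT) * (1, DihedralGroup.r 2) = 1 := by decide

theorem TT_u_sq : ((Multiplicative.ofAdd (1 : ZMod 2), 1) : TT) * (Multiplicative.ofAdd (1 : ZMod 2), 1) = 1 := by decide

theorem TT_ofAdd_ne : (Multiplicative.ofAdd (1 : ZMod 2)) ≠ 1 := by decide

theorem TT_aut_fix (α : MulAut TT) (n : ℕ) (hodd : ¬ 2 ∣ n)
    (hfix : ∀ x : TT, (∀ y, x * y = y * x) → (α ^ n) x = x) :
    ∀ x : TT, (∀ y, x * y = y * x) → α x = x := by
  obtain ⟨h1, hcu, hcz, hu1, hz1, huz, huz2, hzz⟩ := TT_facts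
  set u : TT := (Multiplicative.ofAdd 1, 1) with hu
  set z₀ : TT := (1, DihedralGroup.r 2) with hz₀
  set w : TT := (1, DihedralGroup.r 1) with hw
  have hcen : ∀ x : TT, (∀ y, x * y = y * x) → ∀ y, α x * y = y * α x := by
    intro x hx y
    have h2 := hx (α.symm y)
    have h3 := congrArg α h2
    simpa using h3
  have hαz : α z₀ = z₀ := by
    rcases TT_sq (α w) with h | h
    · exfalso
      apply hz1
      have h3 : α (w * w) = 1 := by rw [map_mul, h]
      rw [h1] at h3
      exact (map_eq_one_iff α α.injective).1 h3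
    · rw [← h1, map_mul, h1, h]
  have hαu : α u = u ∨ α u = u * z₀ := by
    rcases TT_center (α u) (hcen u hcu) with h | h | h | h
    · exfalso
      exact hu1 ((map_eq_one_iff α α.injective).1 h)
    · left; exact h
    · exfalso
      have h' : α u = z₀ := h
      rw [← hαz] at h'
      exact huz (α.injective h')
    · right; rw [h]; exact huz2
  have hα2 : α (α u) = u := by
    rcases hαu with h | h
    · rw [h, h]
    · rw [h, map_mul, h, hαz, mul_assoc, hzz, mul_one]
  have hpow : ∀ k : ℕ, (α ^ (2 * k)) u = u := by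
    intro k
    induction k with
    | zero => simp
    | succ k ih =>
      have e : 2 * (k + 1) = 2 + 2 * k := by ring
      rw [e, pow_add, MulAut.mul_apply, ih, pow_two, MulAut.mul_apply, hα2]
  have hαu' : α u = u := by
    obtain ⟨k, hk⟩ : ∃ k, n = 2 * k + 1 := ⟨n / 2, by omega⟩
    have h2 := hfix u hcu
    rw [hk, pow_succ', MulAut.mul_apply, hpow] at h2
    exact h2
  intro x hx
  rcases TT_center x hx with h | h | h | h
  · rw [h, map_one]
  · rw [h]; exact hαu'
  · rw [h]; exact hαz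
  · rw [h, huz2, map_mul, hαu', hαz]

theorem conjEquiv_pow' {X : Type*} [Group X] (D : Subgroup X) {g : X} (hg : g ∈ Subgroup.normalizer (D : Set X)) (n : ℕ) (d : ↥D) :
    (((Cfsg.Agent.Lib.LocalEven2.conjEquivOfNormalizer D hg : MulAut ↥D) ^ n) d : X) = g ^ n * d * (g ^ n)⁻¹ := by
  induction n with
  | zero => simp
  | succ n ih =>
    rw [pow_succ', MulAut.mul_apply, Cfsg.Agent.Lib.LocalEven2.conjEquivOfNormalizer_coe, ih, pow_succ']
    group

theorem main_S2911 [Finite G] (S : Sylow 2 G)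
    (hS : Nonempty (↥(S : Subgroup G) ≃* Multiplicative (ZMod 2) × DihedralGroup 4)) :
    ∃ H : Subgroup G, H.index = 2 := by
  haveI : Fact (Nat.Prime 2) := ⟨Nat.prime_two⟩
  obtain ⟨e⟩ := hS
  rcases main_S2872 S with h | h | h
  · -- a subgroup of index two
    haveI := pResidual_normal (p := 2) (G := G)
    have hpq : IsPGroup 2 (G ⧸ pResidual 2 G) := isPGroup_quotient_pResidual
    have hne : (⊥ : Subgroup (G ⧸ pResidual 2 G)) ≠ ⊤ := by
      intro e'
      have h1 : Subsingleton (G ⧸ pResidual 2 G) := Subgroup.subsingleton_iff.1 (subsingleton_of_bot_eq_top e')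
      apply h
      rw [eq_top_iff]
      intro x _
      rw [← QuotientGroup.eq_one_iff]
      exact Subsingleton.elim _ _
    obtain ⟨M, hM, -⟩ := (eq_top_or_exists_le_coatom (⊥ : Subgroup (G ⧸ pResidual 2 G))).resolve_left hne
    obtain ⟨-, hi⟩ := Cfsg.Agent.Lib.Transfer.normal_and_index_of_isCoatom hpq hM
    refine ⟨M.comap (QuotientGroup.mk' (pResidual 2 G)), ?_⟩
    rw [Subgroup.index_comap_of_surjective _ (QuotientGroup.mk'_surjective _)]
    exact hi
  · exfalso
    set u' := e.symm (Multiplicative.ofAdd 1, 1) with hu'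
    have hcu : ∀ y : ↥(S : Subgroup G), u' * y = y * u' := by
      intro y
      apply e.injective
      rw [map_mul, map_mul, hu', e.apply_symm_apply]
      exact TT_facts.2.1 (e y)
    have hu2 : (u' : G) ^ 2 = 1 := by
      have h1 : u' * u' = 1 := by
        apply e.injective
        rw [map_mul, hu', e.apply_symm_apply, e.map_one]
        exact TT_u_sq
      rw [pow_two]
      exact congrArg Subtype.val h1
    have hmem : (u' : G) ∈ omegaOne 2 ((S : Subgroup G) ⊓ Subgroup.centralizer ((S : Subgroup G) : Set G)) := by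
      apply mem_omegaOne_of _ hu2
      refine ⟨u'.2, Subgroup.mem_centralizer_iff.2 ?_⟩
      intro s hs
      exact (congrArg Subtype.val (hcu ⟨s, hs⟩)).symm
    obtain ⟨v, hv, hve⟩ := h hmem
    have hvu : v = u' := Subtype.ext hve
    rw [hvu] at hv
    let f : ↥(S : Subgroup G) →* Multiplicative (ZMod 2) := (MonoidHom.fst _ _).comp e.toMonoidHom
    have hfs : Function.Surjective f := by
      intro c
      exact ⟨e.symm (c, 1), by simp [f]⟩
    have hidx : f.ker.index = 2 := by
      rw [Subgroup.index_ker, MonoidHom.range_eq_top.2 hfs, Subgroup.card_top]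
      simp
    have hco : IsCoatom f.ker := Cfsg.Agent.Lib.Basic.isCoatom_of_index_prime (by rw [hidx]; exact Nat.prime_two)
    have hvM := (mem_frattini_iff.1 hv) _ hco
    rw [MonoidHom.mem_ker] at hvM
    have h2 : f u' = Multiplicative.ofAdd 1 := by simp [f, hu']
    rw [h2] at hvM
    exact absurd hvM TT_ofAdd_ne
  · exfalso
    obtain ⟨g, hg, z, hz, hne⟩ := h
    apply hne
    have hzS := omegaOne_le (le_refl _) hz
    set N := Subgroup.normalizer ((S : Subgroup G) : Set G) with hN
    set c : MulAut ↥(S : Subgroup G) := Cfsg.Agent.Lib.LocalEven2.conjEquivOfNormalizer (S : Subgroup G) hg with hc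
    set α : MulAut TT := MulAut.congr e c with hα
    -- the odd power
    haveI hnormal : ((S : Subgroup G).subgroupOf N).Normal := Subgroup.normal_in_normalizer
    set n := ((S : Subgroup G).subgroupOf N).index with hn
    have hodd : ¬ 2 ∣ n := by
      intro hd
      apply S.not_dvd_index
      rw [← Subgroup.relIndex_mul_index (Subgroup.le_normalizer : (S : Subgroup G) ≤ N)]
      exact hd.mul_right _
    have hpow : g ^ n ∈ (S : Subgroup G) := by
      have h1 := Subgroup.pow_index_mem ((S : Subgroup G).subgroupOf N) (⟨g, hg⟩ : N)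
      exact Subgroup.mem_subgroupOf.1 h1
    have hαpow : ∀ x : TT, (α ^ n) x = e ((c ^ n) (e.symm x)) := by
      intro x
      rw [hα, ← map_pow]
      rfl
    have hfix : ∀ x : TT, (∀ y, x * y = y * x) → (α ^ n) x = x := by
      intro x hx
      rw [hαpow]
      apply e.symm.injective
      rw [e.symm_apply_apply]
      apply Subtype.ext
      rw [hc, conjEquiv_pow']
      have hcs : ((e.symm x : ↥(S : Subgroup G)) : G) * g ^ n = g ^ n * ((e.symm x : ↥(S : Subgroup G)) : G) := by
        have h3 : e.symm x * ⟨g ^ n, hpow⟩ = ⟨g ^ n, hpow⟩ * e.symm x := by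
          apply e.injective
          rw [map_mul, map_mul, e.apply_symm_apply]
          exact hx _
        exact congrArg Subtype.val h3
      rw [← hcs]
      group
    have hall := TT_aut_fix α n hodd hfix
    set z' : ↥(S : Subgroup G) := ⟨z, hzS.1⟩ with hz'
    have hzc : ∀ y : TT, e z' * y = y * e z' := by
      intro y
      have h3 : z' * e.symm y = e.symm y * z' := by
        apply Subtype.ext
        exact (Subgroup.mem_centralizer_iff.1 hzS.2 _ (e.symm y).2).symm
      have h4 := congrArg e h3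
      rw [map_mul, map_mul, e.apply_symm_apply] at h4
      exact h4
    have h5 := hall (e z') hzc
    have h6 : α (e z') = e (c z') := by
      rw [hα]
      show e (c (e.symm (e z'))) = _
      rw [e.symm_apply_apply]
    rw [h6] at h5
    have h7 := e.injective h5
    exact congrArg Subtype.val h7

end Cfsg.Agent.Lib.LocalEven
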