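import Cfsg.Agent.Lib.LocalEven.ZJControl
import Cfsg.Agent.Lib.LocalEven.QdOver
import Cfsg.Agent.Lib.LocalEven.Amalgam
import Cfsg.Agent.Lib.LocalEven.Kieler
import Cfsg.Agent.Lib.Known.SylowTorus

/-! The local form of Glauberman's ZJ-theorem: `SL₂(p)`-freeness is only needed in the normalizers of
subgroups containing `Z(S)`. -/

set_option autoImplicit false

namespace Cfsg.Agent.Lib.LocalEven.ZJLocal

open Cfsg Subgroup Cfsg.Agent.Lib.LocalEven Cfsg.Agent.Lib.LocalEven2 Cfsg.Agent.Lib.LocalEven.QdOver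

universe u

variable {G : Type u} [Group G] [Finite G] {p : ℕ} [Fact p.Prime]

/-- No section of the normalizer of `Q` is `SL₂(p)`. -/
def SLFree (p : ℕ) (Q : Subgroup G) : Prop :=
  ¬ ∃ (H K : Subgroup G) (hK : (K.subgroupOf H).Normal), H ≤ normalizer (Q : Set G) ∧
    Nonempty ((H ⧸ K.subgroupOf H) ≃* Matrix.SpecialLinearGroup (Fin 2) (ZMod p))

theorem section_of_surj {H : Subgroup G} {Y : Type*} [Group Y] (f : ↥H →* Y) (hf : Function.Surjective f) :
    ∃ (K : Subgroup G) (_ : (K.subgroupOf H).Normal), Nonempty ((H ⧸ K.subgroupOf H) ≃* Y) := by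
  have he : (f.ker.map H.subtype).subgroupOf H = f.ker :=
    Subgroup.comap_map_eq_self_of_injective H.subtype_injective _
  have hN : ((f.ker.map H.subtype).subgroupOf H).Normal := by rw [he]; infer_instance
  refine ⟨f.ker.map H.subtype, hN, ?_⟩
  exact ⟨(QuotientGroup.quotientMulEquivOfEq he).trans (QuotientGroup.quotientKerEquivOfSurjective f hf)⟩

theorem section_of_involves {L : Subgroup G} (hi : Involves (Cfsg.qd p) ↥L) :
    ∃ (H K : Subgroup G) (_ : (K.subgroupOf H).Normal), H ≤ L ∧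
      Nonempty ((H ⧸ K.subgroupOf H) ≃* Matrix.SpecialLinearGroup (Fin 2) (ZMod p)) := by
  obtain ⟨K, R, hR, ⟨e⟩⟩ := hi
  have eK : ↥K ≃* ↥(K.map L.subtype) := K.equivMapOfInjective L.subtype L.subtype_injective
  let f : ↥(K.map L.subtype) →* Matrix.SpecialLinearGroup (Fin 2) (ZMod p) :=
    (qoBlock : Cfsg.qdOver (ZMod p) →* _).comp
      ((e.toMonoidHom : _ →* Cfsg.qdOver (ZMod p)).comp ((QuotientGroup.mk' (R.subgroupOf K)).comp eK.symm.toMonoidHom))
  have hf : Function.Surjective f := by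
    intro y
    obtain ⟨m, rfl⟩ := qoBlock_surj (F := ZMod p) y
    obtain ⟨q, hq⟩ := e.surjective m
    obtain ⟨k, rfl⟩ := QuotientGroup.mk'_surjective _ q
    refine ⟨eK k, ?_⟩
    show qoBlock (e (QuotientGroup.mk' _ (eK.symm (eK k)))) = _
    rw [MulEquiv.symm_apply_apply]
    exact congrArg _ hq
  obtain ⟨K₂, hK₂, hn⟩ := section_of_surj f hf
  refine ⟨K.map L.subtype, K₂, hK₂, ?_, hn⟩
  rintro _ ⟨x, _, rfl⟩
  exact x.2

theorem noQd_of_slFree {Q : Subgroup G} (h : SLFree p Q) : NoQd p ↥(normalizer (Q : Set G)) := by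
  intro hi
  apply h
  obtain ⟨H, K, hK, hH, hn⟩ := section_of_involves hi
  exact ⟨H, K, hK, hH, hn⟩

theorem central_mem_zjZ {e : ℕ} {T : Subgroup G} {z : G} (hzT : z ∈ T) (hzc : ∀ t ∈ T, t * z = z * t)
    (hze : z ^ e = 1) : z ∈ zjZ e T := by
  obtain ⟨A, hA⟩ := zjFam_nonempty e T
  have hA' := hA
  obtain ⟨h1, h2, h3, h4⟩ := hA
  have hS : ∀ a ∈ (A : Set G) ∪ {z}, ∀ b ∈ (A : Set G) ∪ {z}, a * b = b * a := by
    rintro a (ha | ha) b (hb | hb)
    · exact h2 a ha b hb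
    · rw [Set.mem_singleton_iff.1 hb]; exact hzc a (h1 ha)
    · rw [Set.mem_singleton_iff.1 ha]; exact (hzc b (h1 hb)).symm
    · rw [Set.mem_singleton_iff.1 ha, Set.mem_singleton_iff.1 hb]
  have hSe : ∀ a ∈ (A : Set G) ∪ {z}, a ^ e = 1 := by
    rintro a (ha | ha)
    · exact h3 a ha
    · rw [Set.mem_singleton_iff.1 ha]; exact hze
  have hB : closure ((A : Set G) ∪ {z}) ≤ T := by
    refine (closure_le _).2 ?_
    rintro a (ha | ha)
    · exact h1 ha
    · rw [Set.mem_singleton_iff.1 ha]; exact hzT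
  have hc := h4 _ hB (comm_of_closure' hS) (pow_of_closure hS hSe)
  have hle : A ≤ closure ((A : Set G) ∪ {z}) := fun a ha => subset_closure (Or.inl ha)
  have heq := Subgroup.eq_of_le_of_card_ge hle hc
  have hzA : z ∈ A := by
    rw [heq]
    exact subset_closure (Or.inr rfl)
  rw [mem_zjZ]
  exact ⟨le_zjJ hA' hzA, mem_centralizer_iff.2 (fun t ht => hzc t (zjJ_le ht)), hze⟩

/-- The `ZJ`-theorem in a subgroup. -/
theorem local_zj (hp : p ≠ 2) {L T R : Subgroup G} (hL : NoQd p ↥L) (hTL : T ≤ L) (hTp : IsPGroup p T)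
    (hTi : ¬ p ∣ T.relIndex L) {e : ℕ} (hpe : p ∣ e) (hRT : R ≤ T) {h : G} (hh : h ∈ L)
    (hhR : ∀ r ∈ R, h * r * h⁻¹ ∈ T) :
    ∃ h' ∈ L, h' ∈ normalizer (zjZ e T : Set G) ∧ ∀ r ∈ R, h' * r * h'⁻¹ = h * r * h⁻¹ := by
  obtain ⟨P', hP'⟩ := exists_sylow_of_relIndex hTL hTp hTi
  have hD : IsStronglyClosed (T.subgroupOf L) (P' : Subgroup L) := by
    rw [hP']
    exact ⟨le_rfl, fun x _ g hg => hg⟩
  obtain ⟨x, hx, hxu⟩ := zj_control hp (zjClass_noQd hp) hpe _ ↥L hL P' (T.subgroupOf L) hD rfl (R.subgroupOf L)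
    (by rw [hP']; exact fun u hu => hRT hu) ⟨h, hh⟩ (fun u hu => by rw [hP']; exact hhR u hu)
  refine ⟨x, x.2, ?_, ?_⟩
  · have hmap : (zjZ e (T.subgroupOf L)).map L.subtype = zjZ e T := by
      rw [zjZ_map L.subtype_injective, Subgroup.map_subgroupOf_eq_of_le hTL]
    rw [← hmap]
    exact mem_normalizer_map_subtype _ _ hx
  · intro r hr
    exact congrArg Subtype.val (hxu ⟨r, hTL (hRT hr)⟩ hr)

theorem normalizer_le_normalizer_centralizer (V : Subgroup G) :
    normalizer (V : Set G) ≤ normalizer (centralizer (V : Set G) : Set G) := by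
  intro g hg
  apply Cfsg.Agent.Lib.PGroups.mem_normalizer_of_conj_le'
  intro c hc
  rw [mem_centralizer_iff] at hc ⊢
  intro v hv
  have h1 : g⁻¹ * v * g ∈ V := by
    have := (mem_normalizer_iff.1 (normalizer (V : Set G) |>.inv_mem hg) v).1 hv
    simpa using this
  have h2 := hc _ h1
  calc v * (g * c * g⁻¹) = g * ((g⁻¹ * v * g) * c) * g⁻¹ := by group
    _ = g * (c * (g⁻¹ * v * g)) * g⁻¹ := by rw [h2]
    _ = g * c * g⁻¹ * v := by group

/-- The standing data. -/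
structure SD (S : Sylow p G) (e : ℕ) : Prop where
  hp : p ≠ 2
  hpe : p ∣ e
  he : ∀ x : G, x ^ e = 1
  free : ∀ Q : Subgroup G, (S : Subgroup G) ⊓ centralizer ((S : Subgroup G) : Set G) ≤ Q → Q ≤ S → SLFree p Q

theorem claim_aux {S : Sylow p G} {e : ℕ} (d : SD S e) (c : ℕ)
    (IH : ∀ V' : Subgroup G, V' ≤ (S : Subgroup G) → c < Nat.card V' →
      SSc (normalizer (zjZ e (S : Subgroup G) : Set G)) (S : Subgroup G) V') :
    ∀ (n : ℕ) (T : Subgroup G), T ≤ (S : Subgroup G) →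
      (S : Subgroup G) ⊓ centralizer ((S : Subgroup G) : Set G) ≤ T → c ≤ Nat.card T →
      Nat.card (S : Subgroup G) - Nat.card T = n →
      ∀ R : Subgroup G, R ≤ T → ∀ h ∈ normalizer (zjZ e T : Set G), (∀ r ∈ R, h * r * h⁻¹ ∈ T) →
      ∃ x ∈ normalizer (zjZ e (S : Subgroup G) : Set G), ∀ r ∈ R, x * r * x⁻¹ = h * r * h⁻¹ := by
  intro n
  induction n using Nat.strong_induction_on with
  | _ n ihn =>
  intro T hTS hZT hcT hn R hRT h hh hhR
  by_cases hTeq : T = (S : Subgroup G)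
  · rw [hTeq] at hh
    exact ⟨h, hh, fun _ _ => rfl⟩
  obtain ⟨Q, hQdef⟩ : ∃ Q : Subgroup G, Q = zjZ e T := ⟨_, rfl⟩
  rw [← hQdef] at hh
  have hQT : Q ≤ T := by rw [hQdef]; exact zjZ_le
  obtain ⟨t, htS, htN, htT⟩ := Cfsg.Agent.Lib.Transfer.exists_mem_normalizer_of_ne (S : Subgroup G) T S.isPGroup' hTS hTeq
  have hNN : normalizer (T : Set G) ≤ normalizer (Q : Set G) := by
    rw [hQdef]
    exact fun g hg => zjZ_mem_normalizer hg
  obtain ⟨T₃, hT₃⟩ : ∃ T₃ : Subgroup G, T₃ = (S : Subgroup G) ⊓ normalizer (Q : Set G) := ⟨_, rfl⟩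
  have hT₃S : T₃ ≤ S := by rw [hT₃]; exact inf_le_left
  have hT₃N : T₃ ≤ normalizer (Q : Set G) := by rw [hT₃]; exact inf_le_right
  have hTT₃ : T ≤ T₃ := by
    rw [hT₃]
    exact le_inf hTS ((Subgroup.le_normalizer).trans hNN)
  have hcard : Nat.card T < Nat.card T₃ := by
    apply Cfsg.Agent.Lib.OddLocal.card_lt_of_lt
    refine lt_of_le_of_ne hTT₃ ?_
    intro heq
    apply htT
    rw [heq, hT₃]
    exact ⟨htS, hNN htN⟩
  have hT₃p : IsPGroup p T₃ := S.isPGroup'.to_le hT₃S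
  -- a Sylow subgroup of `N(Q)` containing `T₃`
  obtain ⟨Y₀, hY₀⟩ := IsPGroup.exists_le_sylow (P := T₃.subgroupOf (normalizer (Q : Set G)))
    (hT₃p.of_equiv (Subgroup.subgroupOfEquivOfLe hT₃N).symm)
  obtain ⟨Y, hY⟩ : ∃ Y : Subgroup G, Y = (Y₀ : Subgroup ↥(normalizer (Q : Set G))).map (normalizer (Q : Set G)).subtype := ⟨_, rfl⟩
  have hYN : Y ≤ normalizer (Q : Set G) := by rw [hY]; exact sylow_map_le Y₀
  have hYp : IsPGroup p Y := by rw [hY]; exact sylow_map_isPGroup Y₀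
  have hT₃Y : T₃ ≤ Y := by
    rw [hY]
    intro u hu
    exact ⟨⟨u, hT₃N hu⟩, hY₀ hu, rfl⟩
  have hYi : ¬ p ∣ Y.relIndex (normalizer (Q : Set G)) := by rw [hY]; exact sylow_relIndex_not_dvd Y₀
  obtain ⟨P₂, hP₂⟩ := hYp.exists_le_sylow
  obtain ⟨y, hy⟩ := MulAction.exists_smul_eq G P₂ S
  have hyY : ∀ u ∈ Y, y * u * y⁻¹ ∈ (S : Subgroup G) := by
    intro u hu
    have := Cfsg.Agent.Lib.Transfer.conj_mem_smul_sylow (g := y) (hP₂ hu)
    rwa [hy] at this
  have hcT₃ : c < Nat.card T₃ := lt_of_le_of_lt hcT hcard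
  obtain ⟨z, hzX, hzu⟩ := IH T₃ hT₃S hcT₃ y (fun u hu => hyY u (hT₃Y hu))
  have hQQ' : Q.map (MulAut.conj z).toMonoidHom = Q.map (MulAut.conj y).toMonoidHom := by
    ext w
    constructor
    · rintro ⟨q, hq, rfl⟩
      exact ⟨q, hq, by simpa using (hzu q (hTT₃ (hQT hq))).symm⟩
    · rintro ⟨q, hq, rfl⟩
      exact ⟨q, hq, by simpa using hzu q (hTT₃ (hQT hq))⟩
  obtain ⟨L, hL⟩ : ∃ L : Subgroup G, L = normalizer ((Q.map (MulAut.conj z).toMonoidHom : Subgroup G) : Set G) := ⟨_, rfl⟩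
  have hLy : L = (normalizer (Q : Set G)).map (MulAut.conj y).toMonoidHom := by
    rw [hL, hQQ', Cfsg.Agent.Lib.Known.normalizer_map_conj]
  have hLz : L = (normalizer (Q : Set G)).map (MulAut.conj z).toMonoidHom := by
    rw [hL, Cfsg.Agent.Lib.Known.normalizer_map_conj]
  obtain ⟨Y', hY'⟩ : ∃ Y' : Subgroup G, Y' = Y.map (MulAut.conj y).toMonoidHom := ⟨_, rfl⟩
  have hY'S : Y' ≤ S := by
    rw [hY']
    rintro _ ⟨u, hu, rfl⟩
    exact hyY u hu
  have hY'L : Y' ≤ L := by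
    rw [hY', hLy]
    exact Subgroup.map_mono hYN
  obtain ⟨T₄, hT₄⟩ : ∃ T₄ : Subgroup G, T₄ = (S : Subgroup G) ⊓ L := ⟨_, rfl⟩
  have hT₄S : T₄ ≤ S := by rw [hT₄]; exact inf_le_left
  have hT₄L : T₄ ≤ L := by rw [hT₄]; exact inf_le_right
  have hY'T₄ : Y' ≤ T₄ := by rw [hT₄]; exact le_inf hY'S hY'L
  have hT₄i : ¬ p ∣ T₄.relIndex L := by
    intro hd
    apply hYi
    have e1 : Y'.relIndex L = Y.relIndex (normalizer (Q : Set G)) := by
      rw [hY', hLy, relIndex_conj]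
    rw [← e1, ← Subgroup.relIndex_mul_relIndex Y' T₄ L hY'T₄ hT₄L]
    exact hd.mul_left _
  have hT₄p : IsPGroup p T₄ := S.isPGroup'.to_le hT₄S
  have hZQ : (S : Subgroup G) ⊓ centralizer ((S : Subgroup G) : Set G) ≤ Q := by
    rintro w ⟨hwS, hwC⟩
    rw [hQdef]
    apply central_mem_zjZ (hZT ⟨hwS, hwC⟩) _ (d.he w)
    intro u hu
    exact mem_centralizer_iff.1 hwC u (hTS hu)
  have hNoQ : NoQd p ↥(normalizer (Q : Set G)) :=
    noQd_of_slFree (d.free Q hZQ (hQT.trans hTS))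
  have hNoL : NoQd p ↥L := by
    rw [hLy]
    exact noQd_surj ((normalizer (Q : Set G)).equivMapOfInjective (MulAut.conj y).toMonoidHom
      (MulAut.conj y).injective).toMonoidHom (MulEquiv.surjective _) hNoQ
  have hh'L : z * h * z⁻¹ ∈ L := by
    rw [hLz]
    exact ⟨h, hh, rfl⟩
  have hR'T₄ : R.map (MulAut.conj z).toMonoidHom ≤ T₄ := by
    rintro _ ⟨r, hr, rfl⟩
    apply hY'T₄
    rw [hY']
    exact ⟨r, hT₃Y (hTT₃ (hRT hr)), by simpa using (hzu r (hTT₃ (hRT hr))).symm⟩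
  have hcong : ∀ r, z * h * z⁻¹ * (z * r * z⁻¹) * (z * h * z⁻¹)⁻¹ = z * (h * r * h⁻¹) * z⁻¹ := by
    intro r; group
  have hhR' : ∀ r' ∈ R.map (MulAut.conj z).toMonoidHom, z * h * z⁻¹ * r' * (z * h * z⁻¹)⁻¹ ∈ T₄ := by
    rintro _ ⟨r, hr, rfl⟩
    show z * h * z⁻¹ * (z * r * z⁻¹) * (z * h * z⁻¹)⁻¹ ∈ T₄
    rw [hcong, hzu _ (hTT₃ (hhR r hr))]
    apply hY'T₄
    rw [hY']
    exact ⟨_, hT₃Y (hTT₃ (hhR r hr)), rfl⟩
  obtain ⟨h'', hh''L, hh''N, hh''r⟩ := local_zj d.hp hNoL hT₄L hT₄p hT₄i d.hpe hR'T₄ hh'L hhR'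
  have hcardT₄ : Nat.card T < Nat.card T₄ := by
    have h1 : Nat.card T₃ ≤ Nat.card Y := Subgroup.card_le_of_le hT₃Y
    have h2 : Nat.card Y' = Nat.card Y := by
      rw [hY']
      exact Subgroup.card_map_of_injective (MulAut.conj y).injective
    have h3 : Nat.card Y' ≤ Nat.card T₄ := Subgroup.card_le_of_le hY'T₄
    omega
  have hcardS : Nat.card T₄ ≤ Nat.card (S : Subgroup G) := Subgroup.card_le_of_le hT₄S
  have hZT₄ : (S : Subgroup G) ⊓ centralizer ((S : Subgroup G) : Set G) ≤ T₄ := by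
    rintro w ⟨hwS, hwC⟩
    rw [hT₄]
    refine ⟨hwS, (?_ : w ∈ L)⟩
    rw [hL, hQQ', mem_normalizer_iff]
    intro u
    by_cases hu : u ∈ Q.map (MulAut.conj y).toMonoidHom
    · have huS : u ∈ (S : Subgroup G) := by
        obtain ⟨q, hq, rfl⟩ := hu
        exact hyY q (hT₃Y (hTT₃ (hQT hq)))
      have : w * u * w⁻¹ = u := by
        rw [(mem_centralizer_iff.1 hwC u huS).symm]
        simp
      rw [this]
    · have hiff : (w * u * w⁻¹ ∈ Q.map (MulAut.conj y).toMonoidHom) → u ∈ Q.map (MulAut.conj y).toMonoidHom := by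
        intro h1
        have huS : w * u * w⁻¹ ∈ (S : Subgroup G) := by
          obtain ⟨q, hq, hqe⟩ := h1
          rw [← hqe]
          exact hyY q (hT₃Y (hTT₃ (hQT hq)))
        have huS' : u ∈ (S : Subgroup G) := by
          have : u = w⁻¹ * (w * u * w⁻¹) * w := by group
          rw [this]
          exact S.mul_mem (S.mul_mem (S.inv_mem hwS) huS) hwS
        have : w * u * w⁻¹ = u := by
          rw [(mem_centralizer_iff.1 hwC u huS').symm]
          simp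
        rwa [this] at h1
      exact ⟨fun h1 => absurd h1 hu, fun h1 => absurd (hiff h1) hu⟩
  obtain ⟨x₂, hx₂X, hx₂r⟩ := ihn (Nat.card (S : Subgroup G) - Nat.card T₄)
    (by
      have : Nat.card T ≤ Nat.card (S : Subgroup G) := Subgroup.card_le_of_le hTS
      omega) T₄ hT₄S hZT₄ (by omega) rfl _ hR'T₄ h'' hh''N
    (fun r' hr' => by rw [hh''r r' hr']; exact hhR' r' hr')
  refine ⟨z⁻¹ * x₂ * z, mul_mem (mul_mem (inv_mem hzX) hx₂X) hzX, ?_⟩
  intro r hr
  have hmem : z * r * z⁻¹ ∈ R.map (MulAut.conj z).toMonoidHom := ⟨r, hr, rfl⟩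
  have h1 := hx₂r _ hmem
  rw [hh''r _ hmem] at h1
  calc z⁻¹ * x₂ * z * r * (z⁻¹ * x₂ * z)⁻¹ = z⁻¹ * (x₂ * (z * r * z⁻¹) * x₂⁻¹) * z := by group
    _ = z⁻¹ * (z * h * z⁻¹ * (z * r * z⁻¹) * (z * h * z⁻¹)⁻¹) * z := by rw [h1]
    _ = h * r * h⁻¹ := by group

/-- The local `ZJ`-theorem. -/
theorem main {S : Sylow p G} {e : ℕ} (d : SD S e) :
    ∀ U : Subgroup G, U ≤ (S : Subgroup G) →
      SSc (normalizer (zjZ e (S : Subgroup G) : Set G)) (S : Subgroup G) U := by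
  apply alperin_descent S
  intro V hV T₀ hT₀ IH h hh
  have hTi : ¬ p ∣ (normalizer (V : Set G) ⊓ (S : Subgroup G)).relIndex (normalizer (V : Set G)) := by
    rw [← hT₀]
    exact sylow_relIndex_not_dvd T₀
  have hTL : normalizer (V : Set G) ⊓ (S : Subgroup G) ≤ normalizer (V : Set G) := inf_le_left
  have hTp : IsPGroup p ↥(normalizer (V : Set G) ⊓ (S : Subgroup G)) := S.isPGroup'.to_le inf_le_right
  have hVT : V ≤ normalizer (V : Set G) ⊓ (S : Subgroup G) := le_inf Subgroup.le_normalizer hV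
  have hhV : ∀ u ∈ V, h * u * h⁻¹ ∈ V := fun u hu => (mem_normalizer_iff.1 hh u).1 hu
  by_cases hc : (S : Subgroup G) ⊓ centralizer (V : Set G) ≤ V
  · have hZV : (S : Subgroup G) ⊓ centralizer ((S : Subgroup G) : Set G) ≤ V := by
      rintro w ⟨hwS, hwC⟩
      apply hc
      exact ⟨hwS, mem_centralizer_iff.2 fun u hu => mem_centralizer_iff.1 hwC u (hV hu)⟩
    have hNo : NoQd p ↥(normalizer (V : Set G)) := noQd_of_slFree (d.free V hZV hV)
    obtain ⟨h', hh'L, hh'N, hh'r⟩ := local_zj d.hp hNo hTL hTp hTi d.hpe hVT hh (fun r hr => hVT (hhV r hr))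
    obtain ⟨x, hx, hxr⟩ := claim_aux d (Nat.card V) IH _ _ inf_le_right (hZV.trans hVT)
      (Subgroup.card_le_of_le hVT) rfl V hVT h' hh'N (fun r hr => by rw [hh'r r hr]; exact hVT (hhV r hr))
    exact ⟨x, hx, fun r hr => (hxr r hr).trans (hh'r r hr)⟩
  · -- enlarge `V` by `C_S(V)`
    obtain ⟨C, hC⟩ : ∃ C : Subgroup G, C = centralizer (V : Set G) := ⟨_, rfl⟩
    have hCN : C ≤ normalizer (V : Set G) := by
      rw [hC]
      intro c hc
      rw [mem_normalizer_iff]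
      intro v
      rw [mem_centralizer_iff] at hc
      constructor
      · intro hv
        have : c * v * c⁻¹ = v := by rw [← hc v hv]; simp
        rwa [this]
      · intro hv
        have hv' : v = c⁻¹ * (c * v * c⁻¹) * c := by group
        rw [hv']
        have hc' : c⁻¹ ∈ centralizer (V : Set G) := inv_mem (mem_centralizer_iff.2 hc)
        have : c⁻¹ * (c * v * c⁻¹) * c = c * v * c⁻¹ := by
          have := mem_centralizer_iff.1 hc' _ hv
          calc c⁻¹ * (c * v * c⁻¹) * c = c⁻¹ * ((c * v * c⁻¹) * c) := by group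
            _ = c⁻¹ * (c * v * c⁻¹) * c := by group
            _ = (c * v * c⁻¹) * c⁻¹ * c := by rw [← this]
            _ = c * v * c⁻¹ := by group
        rwa [this]
    have hTnC : normalizer (V : Set G) ⊓ (S : Subgroup G) ≤ normalizer (C : Set G) := by
      rw [hC]
      exact inf_le_left.trans (normalizer_le_normalizer_centralizer V)
    have hi₁ : ¬ p ∣ ((normalizer (V : Set G) ⊓ (S : Subgroup G)) ⊓ C).relIndex C :=
      not_dvd_relIndex_inf_of_normalizes hTL hCN hTnC hTi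
    obtain ⟨B, hB⟩ : ∃ B : Subgroup G, B = (normalizer (V : Set G) ⊓ (S : Subgroup G)) ⊓ C := ⟨_, rfl⟩
    rw [← hB] at hi₁
    have hBC : B ≤ C := by rw [hB]; exact inf_le_right
    have hBS : B ≤ S := by rw [hB]; exact inf_le_left.trans inf_le_right
    have hBp : IsPGroup p B := S.isPGroup'.to_le hBS
    have hCfin : Finite C := inferInstance
    have hhC : h ∈ normalizer (C : Set G) := by
      rw [hC]
      exact normalizer_le_normalizer_centralizer V hh
    have hCh : C.map (MulAut.conj h).toMonoidHom = C := by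
      apply le_antisymm
      · rintro _ ⟨c, hc, rfl⟩
        exact (mem_normalizer_iff.1 hhC c).1 hc
      · intro c hc
        refine ⟨h⁻¹ * c * h, ?_, by simp [mul_assoc]⟩
        have := (mem_normalizer_iff.1 (inv_mem hhC) c).1 hc
        simpa using this
    have hBhC : B.map (MulAut.conj h).toMonoidHom ≤ C := by
      rw [← hCh]
      exact Subgroup.map_mono hBC
    have hi₂ : ¬ p ∣ (B.map (MulAut.conj h).toMonoidHom).relIndex C := by
      have : (B.map (MulAut.conj h).toMonoidHom).relIndex C = B.relIndex C := by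
        conv_lhs => rw [← hCh]
        rw [relIndex_conj]
      rw [this]
      exact hi₁
    obtain ⟨r, hrC, hr⟩ := exists_conj_of_relIndex hBhC hBC (hBp.map _) hBp hi₂ hi₁
    have hrc : ∀ v ∈ V, r * v * r⁻¹ = v := by
      intro v hv
      have hr' : r ∈ centralizer (V : Set G) := by rw [← hC]; exact hrC
      rw [(mem_centralizer_iff.1 hr' v hv).symm]
      simp
    have hB₁ : ∀ b ∈ B, (r * h) * b * (r * h)⁻¹ ∈ B := by
      intro b hb
      rw [hr]
      exact ⟨h * b * h⁻¹, ⟨b, hb, rfl⟩, by simp [mul_assoc]⟩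
    have hV₁ : ∀ v ∈ V, (r * h) * v * (r * h)⁻¹ = h * v * h⁻¹ := by
      intro v hv
      have : (r * h) * v * (r * h)⁻¹ = r * (h * v * h⁻¹) * r⁻¹ := by group
      rw [this, hrc _ (hhV v hv)]
    have hsup : V ⊔ B ≤ (S : Subgroup G) := sup_le hV hBS
    have hcard : Nat.card V < Nat.card ↥(V ⊔ B) := by
      apply Cfsg.Agent.Lib.OddLocal.card_lt_of_lt
      refine lt_of_le_of_ne le_sup_left ?_
      intro heq
      apply hc
      rintro w ⟨hwS, hwC⟩
      have hwC' : w ∈ C := by rw [hC]; exact hwC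
      have hwB : w ∈ B := by
        rw [hB]
        exact ⟨⟨hCN hwC', hwS⟩, hwC'⟩
      rw [heq]
      exact Subgroup.mem_sup_right hwB
    have hstable : V ⊔ B ≤ (V ⊔ B).comap (MulAut.conj (r * h)).toMonoidHom := by
      refine sup_le ?_ ?_
      · intro v hv
        show (r * h) * v * (r * h)⁻¹ ∈ V ⊔ B
        rw [hV₁ v hv]
        exact Subgroup.mem_sup_left (hhV v hv)
      · intro b hb
        exact Subgroup.mem_sup_right (hB₁ b hb)
    obtain ⟨x, hx, hxu⟩ := IH (V ⊔ B) hsup hcard (r * h) (fun u hu => hsup (hstable hu))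
    refine ⟨x, hx, fun u hu => ?_⟩
    rw [hxu u (Subgroup.mem_sup_left hu), hV₁ u hu]

end Cfsg.Agent.Lib.LocalEven.ZJLocal
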